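import Mathlib
import Cfsg.Agent.Helper77.D1Defs2
import Cfsg.Agent.Helper29.D1ID
import Cfsg.Agent.Helper29.D1IE
import Cfsg.Agent.Helper29.D1IL
import Cfsg.Agent.Helper65.D1IF
import Cfsg.Agent.Helper79.S4441Setup

/-!
# CALL S4442FB, piece FG (helper84): Galois conjugation of the class sums.
-/

universe u
set_option autoImplicit false
open Cfsg Cfsg.Agent.Helper77
open scoped ComplexConjugate

namespace Cfsg.Agent.Helper84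

variable {G : Type u} [Group G] [Finite G]

/-- conjugating a `galRel` witness: `χ' = τ ∘ χ` gives `σ ∘ χ' = (σ τ σ⁻¹) ∘ (σ ∘ χ)`. -/
theorem d1fg_galRel_conj (M₀ : ℕ) (σ : ℂ ≃+* ℂ) (χ χ₁ χ' χ₁' : G → ℂ)
    (hσ : ∀ g : G, χ₁ g = σ (χ g)) (hσ' : ∀ g : G, χ₁' g = σ (χ' g))
    (hrel : galRel M₀ χ χ') : galRel M₀ χ₁ χ₁' := by
  obtain ⟨τ, hτ, hχ'⟩ := hrel
  refine ⟨(σ.symm.trans τ).trans σ, ?_, ?_⟩
  · intro w hw
    have h1 : (σ.symm w) ^ M₀ = 1 := by rw [← map_pow, hw, map_one]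
    show σ (τ (σ.symm w)) = w
    rw [hτ _ h1, RingEquiv.apply_symm_apply]
  · intro g
    show χ₁' g = σ (τ (σ.symm (χ₁ g)))
    rw [hσ g, RingEquiv.symm_apply_apply, hσ' g, hχ' g]

/-- FG -/
theorem d1fb_W_galois (K : Subgroup G) (x : G) (M₀ : ℕ) (Θ : Finset (Cfsg.IrrCharacter K))
    (hΘ : ∀ θ ∈ Θ, ∀ σ : ℂ ≃+* ℂ, ∃ θ' ∈ Θ, ∀ k : K, (θ' : K → ℂ) k = σ ((θ : K → ℂ) k))
    (χ χ₁ : Cfsg.IrrCharacter G) (σ : ℂ ≃+* ℂ)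
    (hσ : ∀ g : G, (χ₁ : G → ℂ) g = σ ((χ : G → ℂ) g))
    (Ω Ω₁ : Finset (Cfsg.IrrCharacter G))
    (hΩ : ∀ χ' : Cfsg.IrrCharacter G, χ' ∈ Ω ↔ galRel M₀ (χ : G → ℂ) (χ' : G → ℂ))
    (hΩ₁ : ∀ χ' : Cfsg.IrrCharacter G, χ' ∈ Ω₁ ↔ galRel M₀ (χ₁ : G → ℂ) (χ' : G → ℂ)) :
    ∑ χ' ∈ Ω₁, ∑ θ' ∈ Θ, dco K (θ' : K → ℂ) (χ' : G → ℂ) x
      = σ (∑ χ' ∈ Ω, ∑ θ' ∈ Θ, dco K (θ' : K → ℂ) (χ' : G → ℂ) x) := by
  classical
  haveI : Fintype G := Fintype.ofFinite G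
  haveI : Fintype K := Fintype.ofFinite K
  -- `galIrr σ` permutes `Θ`
  have hΘmem : ∀ (τ : ℂ ≃+* ℂ) (θ' : Cfsg.IrrCharacter K), θ' ∈ Θ →
      Helper79.galIrr τ θ' ∈ Θ := by
    intro τ θ' hθ'
    obtain ⟨θ'', hθ''Θ, hθ''⟩ := hΘ θ' hθ' τ
    have : θ'' = Helper79.galIrr τ θ' := by
      apply Subtype.ext
      funext k
      rw [hθ'' k]
      rfl
    rw [← this]
    exact hθ''Θ
  have hinner : ∀ ψ : Cfsg.IrrCharacter G,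
      ∑ θ' ∈ Θ, dco K (Helper79.galIrr σ θ' : K → ℂ) (ψ : G → ℂ) x
        = ∑ θ' ∈ Θ, dco K (θ' : K → ℂ) (ψ : G → ℂ) x := by
    intro ψ
    refine Finset.sum_bij' (fun θ' _ => Helper79.galIrr σ θ')
      (fun θ' _ => Helper79.galIrr σ.symm θ') ?_ ?_ ?_ ?_ ?_
    · intro θ' hθ'
      exact hΘmem σ θ' hθ'
    · intro θ' hθ'
      exact hΘmem σ.symm θ' hθ'
    · intro θ' _
      exact Helper79.galIrr_symm_galIrr σ θ'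
    · intro θ' _
      exact Helper79.galIrr_galIrr_symm σ θ'
    · intro θ' _
      rfl
  rw [map_sum]
  symm
  refine Finset.sum_bij' (fun χ' _ => Helper79.galIrr σ χ')
    (fun χ' _ => Helper79.galIrr σ.symm χ') ?_ ?_ ?_ ?_ ?_
  · intro χ' hχ'
    rw [hΩ₁]
    exact d1fg_galRel_conj M₀ σ _ _ _ _ hσ (fun g => rfl) ((hΩ χ').1 hχ')
  · intro χ' hχ'
    rw [hΩ]
    refine d1fg_galRel_conj M₀ σ.symm _ _ _ _ ?_ (fun g => rfl) ((hΩ₁ χ').1 hχ')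
    intro g
    rw [hσ g, RingEquiv.symm_apply_apply]
  · intro χ' _
    exact Helper79.galIrr_symm_galIrr σ χ'
  · intro χ' _
    exact Helper79.galIrr_galIrr_symm σ χ'
  · intro χ' _
    rw [map_sum, ← hinner (Helper79.galIrr σ χ')]
    refine Finset.sum_congr rfl fun θ' _ => ?_
    exact (Helper29.d1_dco_gal K σ θ' (Helper79.galIrr σ θ') (fun k => rfl) χ'
      (Helper79.galIrr σ χ') (fun g => rfl) x).symm

end Cfsg.Agent.Helper84
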