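import Mathlib
import Cfsg.Prelude.Def_Transfer

/-!
# Groups of order `p^4`: characteristic series with steps of order `p`

`CharChain4 p G` says that `G` has characteristic subgroups `A ≤ B ≤ C` of orders `p`, `p^2`, `p^3`.
For a group of order `p^4` this forces the `p`-elements of `Aut(G)` to lie in a normal `p`-subgroup
(the stabiliser of the series), so such a group cannot be an essential subgroup of a fusion system.
-/

namespace Cfsg.Agent.Helper84

/-- A characteristic series `A ≤ B ≤ C` with `|A| = p`, `|B| = p^2`, `|C| = p^3`. -/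
def CharChain4 (p : ℕ) (G : Type*) [Group G] : Prop :=
  ∃ A B C : Subgroup G, A.Characteristic ∧ B.Characteristic ∧ C.Characteristic ∧
    A ≤ B ∧ B ≤ C ∧ Nat.card A = p ∧ Nat.card B = p ^ 2 ∧ Nat.card C = p ^ 3

end Cfsg.Agent.Helper84
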