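import Mathlib
set_option autoImplicit false
open scoped commutatorElement

namespace Cfsg.Agent.Helper84

section TorusWord
variable {P : Type*} [Group P]

/-- `u ^ i * v ^ j` with exponents in `ZMod p`. -/
def twE (p : ℕ) (Z : Subgroup P) [Z.Normal] (u v : P ⧸ Z) (i j : ZMod p) : P ⧸ Z :=
  u ^ i.val * v ^ j.val

variable {p : ℕ} [Fact p.Prime] {Z : Subgroup P} [Z.Normal]

theorem twE_add {u v : P ⧸ Z} (huv : Commute u v) (hu : u ^ p = 1) (hv : v ^ p = 1)
    (i j i' j' : ZMod p) :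
    twE p Z u v (i + i') (j + j') = twE p Z u v i j * twE p Z u v i' j' := by
  unfold twE
  rw [ZMod.val_add, ZMod.val_add, ← pow_eq_pow_mod _ hu, ← pow_eq_pow_mod _ hv, pow_add, pow_add]
  have h : Commute (v ^ j.val) (u ^ i'.val) := (huv.pow_pow _ _).symm
  calc u ^ i.val * u ^ i'.val * (v ^ j.val * v ^ j'.val)
      = u ^ i.val * (u ^ i'.val * v ^ j.val) * v ^ j'.val := by simp only [mul_assoc]
    _ = u ^ i.val * (v ^ j.val * u ^ i'.val) * v ^ j'.val := by rw [h.eq]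
    _ = u ^ i.val * v ^ j.val * (u ^ i'.val * v ^ j'.val) := by simp only [mul_assoc]

theorem twE_zero (u v : P ⧸ Z) : twE p Z u v 0 0 = 1 := by simp [twE]

theorem twE_pow {u v : P ⧸ Z} (huv : Commute u v) (hu : u ^ p = 1) (hv : v ^ p = 1)
    (i j : ZMod p) (n : ℕ) :
    (twE p Z u v i j) ^ n = twE p Z u v (n * i) (n * j) := by
  induction n with
  | zero => simp [twE_zero]
  | succ n ih =>
    rw [pow_succ, ih, ← twE_add huv hu hv]
    congr 1 <;> (push_cast; ring)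

theorem twE_map_aux {u v : P ⧸ Z} (huv : Commute u v) (hu : u ^ p = 1) (hv : v ^ p = 1)
    (f : P ⧸ Z →* P ⧸ Z) (a b c d i j : ZMod p) (hfu : f u = twE p Z u v a c)
    (hfv : f v = twE p Z u v b d) :
    f (twE p Z u v i j) = twE p Z u v (a * i + b * j) (c * i + d * j) := by
  have h1 : f (twE p Z u v i j) = (f u) ^ i.val * (f v) ^ j.val := by
    simp only [twE, map_mul, map_pow]
  rw [h1, hfu, hfv, twE_pow huv hu hv, twE_pow huv hu hv, ← twE_add huv hu hv,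
    ZMod.natCast_zmod_val, ZMod.natCast_zmod_val]
  congr 1 <;> ring

/-- `η` lies in the closure of `{τ, τ'}`, preserves `Z` and acts on the images of `l, l'`
by the matrix `[[a, b], [c, d]]`. -/
def TwGood (Z : Subgroup P) [Z.Normal] (p : ℕ) (τ τ' : MulAut P) (l l' : P) (η : MulAut P)
    (a b c d : ZMod p) : Prop :=
  η ∈ Subgroup.closure ({τ, τ'} : Set (MulAut P)) ∧ (∀ z ∈ Z, η z ∈ Z) ∧
  (QuotientGroup.mk (η l) : P ⧸ Z) = twE p Z (QuotientGroup.mk l) (QuotientGroup.mk l') a c ∧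
  (QuotientGroup.mk (η l') : P ⧸ Z) = twE p Z (QuotientGroup.mk l) (QuotientGroup.mk l') b d

theorem TwGood.mul {τ τ' : MulAut P} {l l' : P}
    (huv : Commute (QuotientGroup.mk l : P ⧸ Z) (QuotientGroup.mk l'))
    (hu : (QuotientGroup.mk l : P ⧸ Z) ^ p = 1) (hv : (QuotientGroup.mk l' : P ⧸ Z) ^ p = 1)
    {η η' : MulAut P} {a b c d a' b' c' d' : ZMod p}
    (h : TwGood Z p τ τ' l l' η a b c d) (h' : TwGood Z p τ τ' l l' η' a' b' c' d') :
    TwGood Z p τ τ' l l' (η * η') (a * a' + b * c') (a * b' + b * d') (c * a' + d * c')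
      (c * b' + d * d') := by
  obtain ⟨hη, hηZ, hηl, hηl'⟩ := h
  obtain ⟨hη', hη'Z, hη'l, hη'l'⟩ := h'
  let ηb : P ⧸ Z →* P ⧸ Z := QuotientGroup.map Z Z η.toMonoidHom (fun z hz => hηZ z hz)
  have hηb : ∀ x : P, ηb (QuotientGroup.mk x) = QuotientGroup.mk (η x) := fun x => rfl
  refine ⟨mul_mem hη hη', fun z hz => hηZ _ (hη'Z z hz), ?_, ?_⟩
  · rw [MulAut.mul_apply, ← hηb, hη'l]
    exact twE_map_aux huv hu hv ηb a b c d a' c' (by rw [hηb, hηl]) (by rw [hηb, hηl'])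
  · rw [MulAut.mul_apply, ← hηb, hη'l']
    exact twE_map_aux huv hu hv ηb a b c d b' d' (by rw [hηb, hηl]) (by rw [hηb, hηl'])

/-- PIECE T of CALL S5289: two transvections give the torus `diag(lam, 1/lam)`. -/
theorem torus_word {P : Type*} [Group P] (p : ℕ) [Fact p.Prime] (Z : Subgroup P) [Z.Normal]
    (τ τ' : MulAut P) (hτZ : ∀ z ∈ Z, τ z ∈ Z) (hτ'Z : ∀ z ∈ Z, τ' z ∈ Z)
    (l l' : P) (hcomm : ⁅l, l'⁆ ∈ Z) (hl : l ^ p ∈ Z) (hl' : l' ^ p ∈ Z)
    (h1 : (τ l)⁻¹ * l ∈ Z) (h2 : (τ l')⁻¹ * (l' * l) ∈ Z)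
    (h3 : (τ' l')⁻¹ * l' ∈ Z) (b : ℕ) (hb : ¬ p ∣ b) (h4 : (τ' l)⁻¹ * (l * l' ^ b) ∈ Z)
    (lam : ℕ) (hlam : ¬ p ∣ lam) :
    ∃ η ∈ Subgroup.closure ({τ, τ'} : Set (MulAut P)), ∃ mu : ℕ, (lam * mu) % p = 1 ∧
      (η l)⁻¹ * l ^ lam ∈ Z ∧ (η l')⁻¹ * l' ^ mu ∈ Z := by
  have hp := (Fact.out : p.Prime)
  have huv : Commute (QuotientGroup.mk l : P ⧸ Z) (QuotientGroup.mk l') := by
    have h0 : (QuotientGroup.mk ⁅l, l'⁆ : P ⧸ Z) = 1 := (QuotientGroup.eq_one_iff _).mpr hcomm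
    rw [commutatorElement_def] at h0
    simp only [QuotientGroup.mk_mul, QuotientGroup.mk_inv] at h0
    show (QuotientGroup.mk l : P ⧸ Z) * QuotientGroup.mk l' = QuotientGroup.mk l' * QuotientGroup.mk l
    calc (QuotientGroup.mk l : P ⧸ Z) * QuotientGroup.mk l'
        = ((QuotientGroup.mk l : P ⧸ Z) * QuotientGroup.mk l' * (QuotientGroup.mk l)⁻¹
            * (QuotientGroup.mk l')⁻¹) * (QuotientGroup.mk l' * QuotientGroup.mk l) := by group
      _ = QuotientGroup.mk l' * QuotientGroup.mk l := by rw [h0, one_mul]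
  have hu : (QuotientGroup.mk l : P ⧸ Z) ^ p = 1 := by
    rw [← QuotientGroup.mk_pow]; exact (QuotientGroup.eq_one_iff _).mpr hl
  have hv : (QuotientGroup.mk l' : P ⧸ Z) ^ p = 1 := by
    rw [← QuotientGroup.mk_pow]; exact (QuotientGroup.eq_one_iff _).mpr hl'
  have hbz : (b : ZMod p) ≠ 0 := by
    rw [Ne, ZMod.natCast_eq_zero_iff]; exact hb
  have hlz : (lam : ZMod p) ≠ 0 := by
    rw [Ne, ZMod.natCast_eq_zero_iff]; exact hlam
  have g1 : TwGood Z p τ τ' l l' 1 1 0 0 1 :=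
    ⟨one_mem _, fun z hz => hz, by simp [twE, ZMod.val_one], by simp [twE, ZMod.val_one]⟩
  have gτ : TwGood Z p τ τ' l l' τ 1 1 0 1 := by
    refine ⟨Subgroup.subset_closure (by simp), hτZ, ?_, ?_⟩
    · have : (QuotientGroup.mk (τ l) : P ⧸ Z) = QuotientGroup.mk l := QuotientGroup.eq.mpr h1
      rw [this]; simp [twE, ZMod.val_one]
    · have : (QuotientGroup.mk (τ l') : P ⧸ Z) = QuotientGroup.mk (l' * l) :=
        QuotientGroup.eq.mpr h2
      rw [this, QuotientGroup.mk_mul]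
      simp only [twE, ZMod.val_one, pow_one]
      exact huv.symm.eq
  have gτ' : TwGood Z p τ τ' l l' τ' 1 0 b 1 := by
    refine ⟨Subgroup.subset_closure (by simp), hτ'Z, ?_, ?_⟩
    · have : (QuotientGroup.mk (τ' l) : P ⧸ Z) = QuotientGroup.mk (l * l' ^ b) :=
        QuotientGroup.eq.mpr h4
      rw [this, QuotientGroup.mk_mul, QuotientGroup.mk_pow]
      simp only [twE, ZMod.val_one, pow_one, ZMod.val_natCast]
      rw [← pow_eq_pow_mod _ hv]
    · have : (QuotientGroup.mk (τ' l') : P ⧸ Z) = QuotientGroup.mk l' := QuotientGroup.eq.mpr h3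
      rw [this]; simp [twE, ZMod.val_one]
  have gpow : ∀ x : ℕ, TwGood Z p τ τ' l l' (τ ^ x) 1 x 0 1 := by
    intro x
    induction x with
    | zero => simpa using g1
    | succ x ih =>
      have := TwGood.mul huv hu hv ih gτ
      rw [pow_succ]
      convert this using 1 <;> (push_cast; ring)
  have gpow' : ∀ y : ℕ, TwGood Z p τ τ' l l' (τ' ^ y) 1 0 (y * b) 1 := by
    intro y
    induction y with
    | zero => simpa using g1
    | succ y ih =>
      have := TwGood.mul huv hu hv ih gτ'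
      rw [pow_succ]
      convert this using 1 <;> (push_cast; ring)
  have gw : ∀ x y : ℕ, (x : ZMod p) * y * b = -1 →
      TwGood Z p τ τ' l l' (τ ^ x * τ' ^ y * τ ^ x) 0 x (y * b) 0 := by
    intro x y hxy
    have := TwGood.mul huv hu hv (TwGood.mul huv hu hv (gpow x) (gpow' y)) (gpow x)
    convert this using 1
    · linear_combination (-1 : ZMod p) * hxy
    · linear_combination (-(x : ZMod p)) * hxy
    · ring
    · linear_combination (-1 : ZMod p) * hxy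
  set y1 : ℕ := ((-(lam : ZMod p)⁻¹) * (b : ZMod p)⁻¹).val with hy1
  set x2 : ℕ := (-1 : ZMod p).val with hx2
  set y2 : ℕ := ((b : ZMod p)⁻¹).val with hy2
  have hy1c : (y1 : ZMod p) = (-(lam : ZMod p)⁻¹) * (b : ZMod p)⁻¹ := by
    rw [hy1, ZMod.natCast_zmod_val]
  have hx2c : (x2 : ZMod p) = -1 := by rw [hx2, ZMod.natCast_zmod_val]
  have hy2c : (y2 : ZMod p) = (b : ZMod p)⁻¹ := by rw [hy2, ZMod.natCast_zmod_val]
  have e1 : (lam : ZMod p) * y1 * b = -1 := by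
    rw [hy1c]; field_simp
  have e2 : (x2 : ZMod p) * y2 * b = -1 := by
    rw [hx2c, hy2c]; field_simp
  have gη : TwGood Z p τ τ' l l' ((τ ^ lam * τ' ^ y1 * τ ^ lam) * (τ ^ x2 * τ' ^ y2 * τ ^ x2))
      lam 0 0 (lam : ZMod p)⁻¹ := by
    have := TwGood.mul huv hu hv (gw lam y1 e1) (gw x2 y2 e2)
    have hbb : (b : ZMod p)⁻¹ * (b : ZMod p) = 1 := inv_mul_cancel₀ hbz
    convert this using 1
    · rw [hy2c]; linear_combination (-(lam : ZMod p)) * hbb
    · ring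
    · ring
    · rw [hy1c, hx2c]; linear_combination (-(lam : ZMod p)⁻¹) * hbb
  obtain ⟨hη, -, hηl, hηl'⟩ := gη
  refine ⟨_, hη, ((lam : ZMod p)⁻¹).val, ?_, ?_, ?_⟩
  · have h : ((lam * ((lam : ZMod p)⁻¹).val : ℕ) : ZMod p) = ((1 : ℕ) : ZMod p) := by
      push_cast
      rw [ZMod.natCast_zmod_val]
      exact mul_inv_cancel₀ hlz
    have h' := (ZMod.natCast_eq_natCast_iff' _ _ _).mp h
    rw [h', Nat.mod_eq_of_lt hp.one_lt]
  · apply QuotientGroup.eq.mp
    rw [hηl, QuotientGroup.mk_pow]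
    simp only [twE, ZMod.val_zero, pow_zero, mul_one, ZMod.val_natCast]
    rw [← pow_eq_pow_mod _ hu]
  · apply QuotientGroup.eq.mp
    rw [hηl', QuotientGroup.mk_pow]
    simp only [twE, ZMod.val_zero, pow_zero, one_mul]

end TorusWord

end Cfsg.Agent.Helper84
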