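import Mathlib
import Cfsg.Agent.Helper48.M11UDefs
import Cfsg.Agent.Helper48.M11UGeo

/-!
# PIECE SHP of CALL S0420 (second attempt by helper84): a group of order 7920 acting on 11 points
with a base of four points is sharply 4-transitive.
-/

set_option autoImplicit false
set_option linter.unusedSectionVars false
set_option linter.unusedVariables false
open scoped Pointwise

namespace Cfsg.Agent.Helper84

open Cfsg.Agent.Helper48.M11U

universe u
variable {G : Type u} [Group G] [Finite G]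

theorem m11u_act_sharp (hG : Nat.card G = 7920) {Ω : Type u} [Fintype Ω] [MulAction G Ω]
    (hΩ : Fintype.card Ω = 11) (x₀ : Fin 4 ↪ Ω)
    (hx₀ : ∀ g : G, (∀ i, g • x₀ i = x₀ i) → g = 1) :
    ∃ H : Subgroup (Equiv.Perm (Fin 11)), Sharp4 H ∧ Nonempty (G ≃* H) := by
  classical
  have : Fintype G := Fintype.ofFinite G
  let e : Ω ≃ Fin 11 := Fintype.equivFinOfCardEq hΩ
  let φ : G →* Equiv.Perm (Fin 11) :=
    (e.permCongrHom : Equiv.Perm Ω →* Equiv.Perm (Fin 11)).comp (MulAction.toPermHom G Ω)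
  have hφ : ∀ (g : G) (a : Fin 11), φ g a = e (g • e.symm a) := fun g a => rfl
  -- the orbit map of the base
  let Φ : G → (Fin 4 ↪ Ω) := fun g =>
    ⟨fun i => g • x₀ i, fun i j hij => x₀.injective (MulAction.injective g hij)⟩
  have hΦ : ∀ (g : G) (i : Fin 4), Φ g i = g • x₀ i := fun g i => rfl
  have hΦinj : Function.Injective Φ := by
    intro g h hgh
    have h1 : h⁻¹ * g = 1 := by
      apply hx₀
      intro i
      have h2 : g • x₀ i = h • x₀ i := by rw [← hΦ g i, ← hΦ h i, hgh]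
      rw [mul_smul, h2, inv_smul_smul]
    calc g = h * (h⁻¹ * g) := by group
      _ = h := by rw [h1, mul_one]
  have hcard : Fintype.card G = Fintype.card (Fin 4 ↪ Ω) := by
    rw [Fintype.card_embedding_eq, hΩ, Fintype.card_fin, ← Nat.card_eq_fintype_card, hG]
    rfl
  have hΦbij : Function.Bijective Φ :=
    (Fintype.bijective_iff_injective_and_card Φ).mpr ⟨hΦinj, hcard⟩
  have hφinj : Function.Injective φ := by
    rw [injective_iff_map_eq_one]
    intro g hg
    apply hx₀
    intro i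
    have h1 := hφ g (e (x₀ i))
    rw [hg, Equiv.Perm.one_apply, Equiv.symm_apply_apply] at h1
    exact (e.injective h1).symm
  -- pulling back a 4-tuple of `Fin 11`
  have hpull : ∀ x : Fin 4 ↪ Fin 11, ∃ g : G, ∀ i, e (g • x₀ i) = x i := by
    intro x
    obtain ⟨g, hg⟩ := hΦbij.2 (x.trans e.symm.toEmbedding)
    refine ⟨g, fun i => ?_⟩
    have h1 : Φ g i = (x.trans e.symm.toEmbedding) i := by rw [hg]
    rw [hΦ] at h1
    rw [h1]
    simp
  refine ⟨φ.range, ⟨?_, ?_⟩, ⟨MonoidHom.ofInjective hφinj⟩⟩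
  · intro x y
    obtain ⟨g₁, hg₁⟩ := hpull x
    obtain ⟨g₂, hg₂⟩ := hpull y
    refine ⟨φ (g₂ * g₁⁻¹), ⟨_, rfl⟩, fun i => ?_⟩
    rw [hφ, ← hg₁ i, Equiv.symm_apply_apply, mul_smul, inv_smul_smul, hg₂ i]
  · rintro h ⟨g, rfl⟩ x hx
    obtain ⟨g₁, hg₁⟩ := hpull x
    have h1 : g₁⁻¹ * g * g₁ = 1 := by
      apply hx₀
      intro i
      have h2 := hx i
      rw [hφ, ← hg₁ i, Equiv.symm_apply_apply] at h2
      have h3 : g • g₁ • x₀ i = g₁ • x₀ i := e.injective h2
      rw [mul_smul, mul_smul, h3, inv_smul_smul]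
    have h4 : g = 1 := by
      calc g = g₁ * (g₁⁻¹ * g * g₁) * g₁⁻¹ := by group
        _ = 1 := by rw [h1]; group
    rw [h4, map_one]

end Cfsg.Agent.Helper84
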