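import Mathlib
import Cfsg.Agent.Helper96.OHDefs
import Cfsg.Agent.Helper13.WittQuad

set_option autoImplicit false
set_option linter.unusedSectionVars false
set_option linter.unusedVariables false

/-!
# CALL S5993 (helper69), piece ETRANSFIX, core (helper84)

`oetransfix_core`: two subspaces `W, W' ≤ K` (all nondegenerate) which are isometric for `Q` are
mapped to each other by an isometry of `Q` fixing the perp of `K` pointwise.  This is the Witt half
of helper66's proof of OTRANSFIX (Cfsg/Agent/Helper66/OHOTRANSFIX.lean), with the isometry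
`W → W'` as a hypothesis.
-/

namespace Cfsg.Agent.Helper84.OE5993

open Module Polynomial Cfsg Cfsg.Geo
open Cfsg.Agent.Helper13.TIu Cfsg.Agent.Helper96.OH

variable {ι : Type} [Fintype ι] [DecidableEq ι] {F : Type*} [Field F] (Q : (ι → F) → F)

/-- the Witt half of ETRANSFIX / OTRANSFIX -/
theorem oetransfix_core [Fintype F] (hQ : IsNondegenerateQuadraticForm Q)
    (K W W' : Submodule F (ι → F)) (hK : ONd Q K) (hW : ONd Q W) (hW' : ONd Q W') (hWK : W ≤ K)
    (hW'K : W' ≤ K) (hiso : AreIsometricFor Q W W') :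
    ∃ g : Module.End F (ι → F), OPres Q g ∧ Function.Bijective g ∧ W.map g = W' ∧
      ∀ v, (∀ u ∈ K, QuadraticMap.polar Q u v = 0) → g v = v := by
  classical
  obtain ⟨φ, hφ⟩ := hiso
  have hb := hQ.polar_bilinear
  -- the perp of `K`
  obtain ⟨P, hP⟩ : ∃ P : Submodule F (ι → F),
      ∀ v, v ∈ P ↔ ∀ u ∈ K, QuadraticMap.polar Q u v = 0 := by
    refine ⟨{ carrier := {v | ∀ u ∈ K, QuadraticMap.polar Q u v = 0}
              add_mem' := ?_, zero_mem' := ?_, smul_mem' := ?_ }, fun v => Iff.rfl⟩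
    · intro a b ha hb' u hu
      have h1 := QuadraticMap.polar_add_right (Cfsg.Agent.Helper98.op_qf Q hQ) u a b
      rw [Cfsg.Agent.Helper98.op_qf_coe] at h1
      rw [h1, ha u hu, hb' u hu, add_zero]
    · intro u hu
      have h1 := QuadraticMap.polar_zero_right (Cfsg.Agent.Helper98.op_qf Q hQ) u
      rw [Cfsg.Agent.Helper98.op_qf_coe] at h1
      exact h1
    · intro c a ha u hu
      have h1 := QuadraticMap.polar_smul_right (Cfsg.Agent.Helper98.op_qf Q hQ) c u a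
      rw [Cfsg.Agent.Helper98.op_qf_coe] at h1
      rw [h1, ha u hu, smul_zero]
  -- `W ⊓ P = ⊥`, `W' ⊓ P = ⊥`
  have hdisj : ∀ (Z : Submodule F (ι → F)), ONd Q Z → Z ≤ K → ∀ x, x ∈ Z → x ∈ P → x = 0 := by
    intro Z hZ hZK x hxZ hxP
    by_contra hne
    obtain ⟨⟨y, hy, hyx⟩, -⟩ := hZ x hxZ hne
    exact hyx ((hP x).1 hxP y (hZK hy))
  -- the two parametrisations
  obtain ⟨E, hE⟩ : ∃ E : (W × P) →ₗ[F] (ι → F), ∀ x,
      E x = (x.1 : ι → F) + (x.2 : ι → F) :=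
    ⟨LinearMap.coprod W.subtype P.subtype, fun x => by simp [LinearMap.coprod_apply]⟩
  obtain ⟨T, hT⟩ : ∃ T : (W × P) →ₗ[F] (ι → F), ∀ x,
      T x = ((φ x.1 : W') : ι → F) + (x.2 : ι → F) :=
    ⟨LinearMap.coprod (W'.subtype ∘ₗ (φ : W →ₗ[F] W')) P.subtype, fun x => by
      simp [LinearMap.coprod_apply]⟩
  have hEinj : Function.Injective E := by
    rw [← LinearMap.ker_eq_bot, eq_bot_iff]
    rintro ⟨w, p⟩ hx
    rw [LinearMap.mem_ker, hE] at hx
    simp only at hx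
    have hwP : (w : ι → F) ∈ P := by
      have h1 : (w : ι → F) = -(p : ι → F) := eq_neg_of_add_eq_zero_left hx
      rw [h1]
      exact P.neg_mem p.2
    have hw0 : (w : ι → F) = 0 := hdisj W hW hWK _ w.2 hwP
    rw [hw0, zero_add] at hx
    rw [Submodule.mem_bot]
    exact Prod.ext (Subtype.ext hw0) (Subtype.ext hx)
  obtain ⟨L, hL⟩ := LinearMap.exists_leftInverse_of_injective E (LinearMap.ker_eq_bot.2 hEinj)
  have hLE : ∀ x, L (E x) = x := fun x => by
    have := congrArg (fun h => h x) hL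
    simpa using this
  obtain ⟨f, hf⟩ : ∃ f : (ι → F) →ₗ[F] (ι → F), ∀ x, f (E x) = T x :=
    ⟨T ∘ₗ L, fun x => by rw [LinearMap.comp_apply, hLE]⟩
  -- `f` is an injective isometry on `W ⊔ P`
  have hmemX : ∀ x ∈ W ⊔ P, ∃ y : W × P, E y = x := by
    intro x hx
    obtain ⟨w, hw, p, hp, rfl⟩ := Submodule.mem_sup.1 hx
    exact ⟨(⟨w, hw⟩, ⟨p, hp⟩), by rw [hE]⟩
  have hiso : ∀ x ∈ W ⊔ P, (Cfsg.Agent.Helper98.op_qf Q hQ) (f x) =
      (Cfsg.Agent.Helper98.op_qf Q hQ) x := by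
    intro x hx
    obtain ⟨⟨w, p⟩, rfl⟩ := hmemX x hx
    rw [hf, hT, hE]
    show Q (((φ w : W') : ι → F) + (p : ι → F)) = Q ((w : ι → F) + (p : ι → F))
    rw [q_add Q, q_add Q, hφ, (hP p).1 p.2 _ (hW'K (φ w).2), (hP p).1 p.2 _ (hWK w.2)]
  have hinj : ∀ x ∈ W ⊔ P, f x = 0 → x = 0 := by
    intro x hx hfx
    obtain ⟨⟨w, p⟩, rfl⟩ := hmemX x hx
    rw [hf, hT] at hfx
    simp only at hfx
    have hφP : ((φ w : W') : ι → F) ∈ P := by
      have h1 : ((φ w : W') : ι → F) = -(p : ι → F) := eq_neg_of_add_eq_zero_left hfx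
      rw [h1]
      exact P.neg_mem p.2
    have hφ0 : ((φ w : W') : ι → F) = 0 := hdisj W' hW' hW'K _ (φ w).2 hφP
    rw [hφ0, zero_add] at hfx
    have hw0 : w = 0 := by
      have h2 : φ w = 0 := Subtype.ext hφ0
      exact φ.map_eq_zero_iff.1 h2
    rw [hE]
    simp only
    rw [hw0, hfx]
    simp
  obtain ⟨g, hg, hgf⟩ := Cfsg.Agent.Helper13.witt_quad (Cfsg.Agent.Helper98.op_qf Q hQ)
    (Cfsg.Agent.Helper98.op_qf_nondeg Q hQ) (W ⊔ P) f hiso hinj
  have hgW : ∀ w : W, g (w : ι → F) = ((φ w : W') : ι → F) := by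
    intro w
    rw [hgf _ (Submodule.mem_sup_left w.2)]
    have h1 : E (w, 0) = (w : ι → F) := by rw [hE]; simp
    rw [← h1, hf, hT]
    simp
  have hgP : ∀ p ∈ P, g p = p := by
    intro p hp
    rw [hgf _ (Submodule.mem_sup_right hp)]
    have h1 : E (0, ⟨p, hp⟩) = p := by rw [hE]; simp
    have h2 := hf (0, ⟨p, hp⟩)
    rw [h1, hT] at h2
    simpa using h2
  refine ⟨(g : (ι → F) →ₗ[F] (ι → F)), fun v => hg v, g.bijective, ?_, ?_⟩
  · apply le_antisymm
    · rintro _ ⟨w, hw, rfl⟩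
      have h1 := hgW ⟨w, hw⟩
      simp only at h1
      show g w ∈ W'
      rw [h1]
      exact (φ ⟨w, hw⟩).2
    · intro w' hw'
      refine ⟨(φ.symm ⟨w', hw'⟩ : W), (φ.symm ⟨w', hw'⟩).2, ?_⟩
      show g ((φ.symm ⟨w', hw'⟩ : W) : ι → F) = w'
      rw [hgW, LinearEquiv.apply_symm_apply]
  · intro v hv
    exact hgP v ((hP v).2 hv)

end Cfsg.Agent.Helper84.OE5993
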