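import Mathlib
import Cfsg.Prelude.Def_Characters
import Cfsg.Prelude.Def_Blocks
import Cfsg.Agent.Helper75.LatDefs
set_option autoImplicit false
open Cfsg Matrix
universe u

namespace Cfsg.Agent.Helper84

/-- Orbit-sum lemma: a `σ`-stable finite set without fixed points, `σ ^ p = 1`, `p` prime. -/
theorem lat_orbit_sum {Q : Type*} [DecidableEq Q] {R : Type*} [AddCommMonoid R]
    (σ : Equiv.Perm Q) (p : ℕ) [Fact p.Prime] (hσ : σ ^ p = 1) (f : Q → R)
    (c : ℕ → R → R) (hc : ∀ i q, c i (f q) = f ((σ ^ i) q))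
    (hadd : ∀ i a b, c i (a + b) = c i a + c i b) (h0 : ∀ i, c i 0 = 0) :
    ∀ (n : ℕ) (A : Finset Q), A.card = n → (∀ q ∈ A, σ q ∈ A) → (∀ q ∈ A, σ q ≠ q) →
      ∃ δ : R, ∑ q ∈ A, f q = ∑ i ∈ Finset.range p, c i δ := by
  intro n
  induction n using Nat.strong_induction_on with
  | _ n ih =>
    intro A hA hst hnf
    rcases A.eq_empty_or_nonempty with rfl | ⟨a, ha⟩
    · exact ⟨0, by simp [h0]⟩
    · have hp := (Fact.out : p.Prime)
      set O : Finset Q := (Finset.range p).image (fun i => (σ ^ i) a) with hO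
      have hOmem : ∀ q, q ∈ O ↔ ∃ i : ℕ, (σ ^ i) a = q := by
        intro q
        constructor
        · intro h
          obtain ⟨i, -, rfl⟩ := Finset.mem_image.mp h
          exact ⟨i, rfl⟩
        · rintro ⟨i, rfl⟩
          refine Finset.mem_image.mpr ⟨i % p, Finset.mem_range.mpr (Nat.mod_lt _ hp.pos), ?_⟩
          rw [pow_eq_pow_mod i hσ]
      have hpowA : ∀ i : ℕ, (σ ^ i) a ∈ A := by
        intro i
        induction i with
        | zero => simpa using ha
        | succ k ihk =>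
          rw [pow_succ', Equiv.Perm.mul_apply]
          exact hst _ ihk
      have hOA : O ⊆ A := by
        intro q hq
        obtain ⟨i, rfl⟩ := (hOmem q).mp hq
        exact hpowA i
      have haO : a ∈ O := (hOmem a).mpr ⟨0, by simp⟩
      have hfix : ∀ k : ℕ, 0 < k → k < p → (σ ^ k) a ≠ a := by
        intro k hk0 hkp hka
        have h1 : MulAction.period σ a ∣ k :=
          MulAction.pow_smul_eq_iff_period_dvd.mp (by simpa [Equiv.Perm.smul_def] using hka)
        have h2 : MulAction.period σ a ∣ p :=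
          MulAction.pow_smul_eq_iff_period_dvd.mp (by rw [hσ]; simp)
        have hcop : Nat.gcd k p = 1 :=
          Nat.Coprime.symm ((Nat.Prime.coprime_iff_not_dvd hp).mpr
            (Nat.not_dvd_of_pos_of_lt hk0 hkp))
        have h3 : MulAction.period σ a = 1 := Nat.dvd_one.mp (hcop ▸ Nat.dvd_gcd h1 h2)
        have h4 : σ ^ 1 • a = a := MulAction.pow_smul_eq_iff_period_dvd.mpr (by rw [h3])
        exact hnf a ha (by simpa using h4)
      have hinj : Set.InjOn (fun i => (σ ^ i) a) (Finset.range p : Set ℕ) := by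
        have key : ∀ i j : ℕ, i ≤ j → j < p → (σ ^ i) a = (σ ^ j) a → i = j := by
          intro i j hij hjp h
          by_contra hne
          have hlt : i < j := lt_of_le_of_ne hij hne
          have h' : (σ ^ (j - i)) a = a := by
            apply (σ ^ i).injective
            rw [← Equiv.Perm.mul_apply, ← pow_add, Nat.add_sub_cancel' hij]
            exact h.symm
          exact hfix (j - i) (Nat.sub_pos_of_lt hlt) (lt_of_le_of_lt (Nat.sub_le _ _) hjp) h'
        intro i hi j hj h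
        have hi' : i < p := Finset.mem_range.mp hi
        have hj' : j < p := Finset.mem_range.mp hj
        rcases le_total i j with hij | hji
        · exact key i j hij hj' h
        · exact (key j i hji hi' h.symm).symm
      have hsumO : ∑ q ∈ O, f q = ∑ i ∈ Finset.range p, c i (f a) := by
        rw [hO, Finset.sum_image hinj]
        exact Finset.sum_congr rfl (fun i _ => (hc i a).symm)
      have hst' : ∀ q ∈ A \ O, σ q ∈ A \ O := by
        intro q hq
        rw [Finset.mem_sdiff] at hq ⊢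
        refine ⟨hst q hq.1, fun h => hq.2 ?_⟩
        obtain ⟨i, hi⟩ := (hOmem _).mp h
        refine (hOmem q).mpr ⟨(p - 1) + i, ?_⟩
        rw [pow_add, Equiv.Perm.mul_apply, hi, ← Equiv.Perm.mul_apply, ← pow_succ,
          Nat.sub_add_cancel hp.pos, hσ]
        rfl
      have hcard : (A \ O).card < n := by
        rw [← hA]
        exact Finset.card_lt_card (Finset.sdiff_ssubset hOA ⟨a, haO⟩)
      obtain ⟨δ', hδ'⟩ := ih _ hcard (A \ O) rfl hst'
        (fun q hq => hnf q (Finset.mem_sdiff.mp hq).1)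
      refine ⟨δ' + f a, ?_⟩
      rw [← Finset.sum_sdiff hOA, hδ', hsumO, ← Finset.sum_add_distrib]
      exact Finset.sum_congr rfl (fun i _ => (hadd i _ _).symm)

/-- PIECE P3 of CALL S4441 (transfer of a `⟨x⟩`-central element to a `G`-central one). -/
theorem lat_transfer {G : Type u} [Group G] [Fintype G] {R : Type*} [Ring R] (ρ : G →* R)
    (p : ℕ) [Fact p.Prime] (x : G) (hx : orderOf x = p) (α : R) (hα : α * ρ x = ρ x * α) :
    ∃ (T : Finset G) (δ : R),
      (∀ r ∈ T, r ∈ Subgroup.normalizer ((Subgroup.zpowers x : Subgroup G) : Set G)) ∧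
      T.card * p = Nat.card (Subgroup.normalizer ((Subgroup.zpowers x : Subgroup G) : Set G)) ∧
      ∀ g : G,
        (∑ r ∈ T, ρ r⁻¹ * α * ρ r + ∑ i ∈ Finset.range p, ρ (x ^ i)⁻¹ * δ * ρ (x ^ i)) * ρ g
          = ρ g * (∑ r ∈ T, ρ r⁻¹ * α * ρ r
              + ∑ i ∈ Finset.range p, ρ (x ^ i)⁻¹ * δ * ρ (x ^ i)) := by
  classical
  have hp := (Fact.out : p.Prime)
  set P : Subgroup G := Subgroup.zpowers x with hP
  have hxP : x ∈ P := Subgroup.mem_zpowers x
  have hαP : ∀ y ∈ P, α * ρ y = ρ y * α := by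
    intro y hy
    obtain ⟨n, rfl⟩ := (Submonoid.mem_powers_iff _ _).mp (mem_powers_iff_mem_zpowers.mpr hy)
    rw [map_pow]
    exact (Commute.pow_right (show Commute α (ρ x) from hα) n)
  let H : G → R := fun u => ρ u * α * ρ u⁻¹
  have hH : ∀ u v : G, u⁻¹ * v ∈ P → H u = H v := by
    intro u v huv
    obtain ⟨y, hy, rfl⟩ : ∃ y ∈ P, v = u * y := ⟨u⁻¹ * v, huv, by group⟩
    have h1 := hαP y hy
    show ρ u * α * ρ u⁻¹ = ρ (u * y) * α * ρ (u * y)⁻¹
    rw [_root_.mul_inv_rev, map_mul, map_mul]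
    have h2 : ρ y * ρ y⁻¹ = 1 := by rw [← map_mul, mul_inv_cancel, map_one]
    calc ρ u * α * ρ u⁻¹ = ρ u * (α * (ρ y * ρ y⁻¹)) * ρ u⁻¹ := by rw [h2, mul_one]
      _ = ρ u * ((α * ρ y) * ρ y⁻¹) * ρ u⁻¹ := by rw [mul_assoc α]
      _ = ρ u * ((ρ y * α) * ρ y⁻¹) * ρ u⁻¹ := by rw [h1]
      _ = ρ u * ρ y * α * (ρ y⁻¹ * ρ u⁻¹) := by simp only [mul_assoc]
  let Hq : G ⧸ P → R := fun q => Quotient.liftOn' q H
    (fun u v h => hH u v (QuotientGroup.leftRel_apply.mp h))
  have hHq : ∀ u : G, Hq (QuotientGroup.mk u) = H u := fun u => rfl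
  have hkey : ∀ (g : G) (q : G ⧸ P), ρ g * Hq q = Hq (g • q) * ρ g := by
    intro g q
    induction q using QuotientGroup.induction_on with
    | H u =>
      rw [MulAction.Quotient.smul_mk, hHq, hHq, smul_eq_mul]
      show ρ g * (ρ u * α * ρ u⁻¹) = ρ (g * u) * α * ρ (g * u)⁻¹ * ρ g
      rw [_root_.mul_inv_rev, map_mul, map_mul]
      have h2 : ρ g⁻¹ * ρ g = 1 := by rw [← map_mul, inv_mul_cancel, map_one]
      simp only [mul_assoc, h2, mul_one]
  set γ : R := ∑ q : G ⧸ P, Hq q with hγdef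
  have hγ : ∀ g : G, γ * ρ g = ρ g * γ := by
    intro g
    rw [hγdef, Finset.mul_sum, Finset.sum_mul]
    rw [← Equiv.sum_comp (MulAction.toPerm g) (fun q => Hq q * ρ g)]
    exact Finset.sum_congr rfl (fun q _ => by rw [hkey g q]; rfl)
  -- the fixed cosets
  have hfixiff : ∀ q : G ⧸ P, x⁻¹ • q = q ↔ q ∈ MulAction.fixedPoints P (G ⧸ P) := by
    intro q
    constructor
    · intro h
      have h1 : x⁻¹ ∈ MulAction.stabilizer G q := MulAction.mem_stabilizer_iff.mpr h
      have h2 : x ∈ MulAction.stabilizer G q := inv_mem_iff.mp h1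
      have h3 : P ≤ MulAction.stabilizer G q := (Subgroup.zpowers_le).mpr h2
      intro m
      exact MulAction.mem_stabilizer_iff.mp (h3 m.2)
    · intro h
      exact h ⟨x⁻¹, inv_mem hxP⟩
  set Fx : Finset (G ⧸ P) := Finset.univ.filter (fun q => x⁻¹ • q = q) with hFx
  set T : Finset G := Fx.image (fun q : G ⧸ P => (Quotient.out q)⁻¹) with hT
  have hinjT : Function.Injective (fun q : G ⧸ P => (Quotient.out q)⁻¹) :=
    inv_injective.comp Quotient.out_injective
  -- the sum over T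
  have hsumT : ∑ r ∈ T, ρ r⁻¹ * α * ρ r = ∑ q ∈ Fx, Hq q := by
    rw [hT]
    rw [Finset.sum_image (s := Fx) (g := fun q : G ⧸ P => (Quotient.out q)⁻¹)
      (f := fun r => ρ r⁻¹ * α * ρ r) (fun a _ b _ h => hinjT h)]
    refine Finset.sum_congr rfl (fun q _ => ?_)
    show ρ ((Quotient.out q)⁻¹)⁻¹ * α * ρ (Quotient.out q)⁻¹ = Hq q
    rw [inv_inv]
    conv_rhs => rw [← QuotientGroup.out_eq' q]
    rfl
  -- the non-fixed cosets
  set σ : Equiv.Perm (G ⧸ P) := MulAction.toPermHom G (G ⧸ P) x⁻¹ with hσdef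
  have hσpow : ∀ (i : ℕ) (q : G ⧸ P), (σ ^ i) q = (x ^ i)⁻¹ • q := by
    intro i q
    rw [hσdef, ← map_pow, MulAction.toPermHom_apply, MulAction.toPerm_apply, inv_pow]
  have hσp : σ ^ p = 1 := by
    rw [hσdef, ← map_pow, inv_pow, ← hx, pow_orderOf_eq_one, inv_one, map_one]
  obtain ⟨δ, hδ⟩ := lat_orbit_sum σ p hσp Hq (fun i r => ρ (x ^ i)⁻¹ * r * ρ (x ^ i))
    (by
      intro i q
      show ρ (x ^ i)⁻¹ * Hq q * ρ (x ^ i) = Hq ((σ ^ i) q)
      rw [hkey, hσpow, mul_assoc, ← map_mul, inv_mul_cancel, map_one, mul_one])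
    (by intro i a b; simp only [mul_add, add_mul])
    (by intro i; simp)
    _ (Finset.univ.filter (fun q : G ⧸ P => ¬ x⁻¹ • q = q)) rfl
    (by
      intro (q : G ⧸ P) hq
      rw [Finset.mem_filter] at hq ⊢
      refine ⟨Finset.mem_univ _, fun h => hq.2 ?_⟩
      have : σ q = x⁻¹ • q := by
        rw [hσdef, MulAction.toPermHom_apply, MulAction.toPerm_apply]
      rw [this] at h
      exact smul_left_cancel _ h)
    (by
      intro (q : G ⧸ P) hq
      rw [Finset.mem_filter] at hq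
      have : σ q = x⁻¹ • q := by
        rw [hσdef, MulAction.toPermHom_apply, MulAction.toPerm_apply]
      rw [this]
      exact hq.2)
  have htotal : ∑ r ∈ T, ρ r⁻¹ * α * ρ r
      + ∑ i ∈ Finset.range p, ρ (x ^ i)⁻¹ * δ * ρ (x ^ i) = γ := by
    rw [hsumT, ← hδ, hγdef, hFx]
    exact Finset.sum_filter_add_sum_filter_not _ _ _
  refine ⟨T, δ, ?_, ?_, ?_⟩
  · intro r hr
    obtain ⟨q, hq, rfl⟩ := Finset.mem_image.mp hr
    have hq' : x⁻¹ • q = q := (Finset.mem_filter.mp hq).2
    have h1 : q ∈ MulAction.fixedPoints P (G ⧸ P) := (hfixiff q).mp hq'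
    rw [← QuotientGroup.out_eq' q] at h1
    exact inv_mem (Sylow.mem_fixedPoints_mul_left_cosets_iff_mem_normalizer.mp h1)
  · have hc1 : T.card = Fx.card := Finset.card_image_of_injective _ hinjT
    have hc2 : Fx.card = Nat.card (MulAction.fixedPoints P (G ⧸ P)) := by
      rw [← Nat.card_eq_finsetCard Fx]
      exact Nat.card_congr (Equiv.subtypeEquivRight (fun q => by
        rw [hFx, Finset.mem_filter]
        simp [hfixiff q]))
    have hc3 := Nat.card_congr (Sylow.fixedPointsMulLeftCosetsEquivQuotient P)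
    have hc4 : Nat.card (P.subgroupOf (Subgroup.normalizer (P : Set G))) = p := by
      rw [Nat.card_congr (Subgroup.subgroupOfEquivOfLe Subgroup.le_normalizer).toEquiv, hP,
        Nat.card_zpowers, hx]
    rw [hc1, hc2, hc3,
      Subgroup.card_eq_card_quotient_mul_card_subgroup
        (P.subgroupOf (Subgroup.normalizer (P : Set G))), hc4]
    rfl
  · intro g
    rw [htotal]
    exact hγ g

end Cfsg.Agent.Helper84
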