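import Mathlib
import Cfsg.Prelude.Def_Characters
import Cfsg.Prelude.Def_Blocks
import Cfsg.Agent.Helper75.LatDefs
import Cfsg.Agent.Helper84.LatP3
import Cfsg.Agent.Helper75.LatSide

/-!
# S4442L piece LF (helper84): the transfer computation for a general commuting matrix `B`
-/

set_option autoImplicit false
open Cfsg Matrix
open scoped ComplexConjugate

universe u

namespace Cfsg.Agent.Helper84

theorem d1_transfer {G : Type u} [Group G] [Fintype G] {N : ℕ} (p : ℕ) [Fact p.Prime]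
    (ρ : G →* Matrix (Fin N) (Fin N) ℤ) (x : G)
    (hx : orderOf x = p) (n₀ : ℕ)
    (hn₀ : n₀ * p = Nat.card (Subgroup.normalizer ((Subgroup.zpowers x : Subgroup G) : Set G)))
    (κ sgn : ℤ) (hκ : ¬ (p : ℤ) ∣ κ)
    (M T : Submodule ℤ (Fin N → ℤ)) (hpM : ∀ v ∈ M, (p : ℤ) • v ∈ T)
    (hNM : ∀ r ∈ Subgroup.normalizer ((Subgroup.zpowers x : Subgroup G) : Set G),
      ∀ v ∈ M, ρ r *ᵥ v ∈ M)
    (hNT : ∀ r ∈ Subgroup.normalizer ((Subgroup.zpowers x : Subgroup G) : Set G),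
      ∀ v ∈ T, ρ r *ᵥ v ∈ T)
    (hcM : ∀ γ : Matrix (Fin N) (Fin N) ℤ, (∀ g, γ * ρ g = ρ g * γ) → ∀ v ∈ M, γ *ᵥ v ∈ M)
    (a : ℕ) (y ℓ : Fin a → (Fin N → ℤ)) (hyM : ∀ j, y j ∈ M)
    (hℓT : ∀ j, ∀ s ∈ T, (p : ℤ) ∣ ℓ j ⬝ᵥ s)
    (hℓy : ∀ i j, ℓ i ⬝ᵥ y j ≡ (if i = j then 1 else 0) [ZMOD p])
    (hspan : ∀ u ∈ M, u - ∑ j, (ℓ j ⬝ᵥ u) • y j ∈ T)
    (hlift : ∀ w : Fin N → ℤ, w ∈ M → ∀ ℓ' : Fin N → ℤ, (∀ s ∈ T, (p : ℤ) ∣ ℓ' ⬝ᵥ s) →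
      ∃ A : Matrix (Fin N) (Fin N) ℤ, A * ρ x = ρ x * A ∧ (∀ v, A *ᵥ v ∈ M) ∧
        ∀ u ∈ M, A *ᵥ u - (sgn * κ * (ℓ' ⬝ᵥ u)) • w ∈ T)
    (hδ : ∀ (D : Matrix (Fin N) (Fin N) ℤ) (u : Fin N → ℤ), u ∈ M →
      (∑ i ∈ Finset.range p, ρ (x ^ i)⁻¹ * D * ρ (x ^ i)) *ᵥ u ∈ M →
      κ • ((∑ i ∈ Finset.range p, ρ (x ^ i)⁻¹ * D * ρ (x ^ i)) *ᵥ u) ∈ T)
    (B : Matrix (Fin a) (Fin a) ℤ)
    (hB : ∀ r ∈ Subgroup.normalizer ((Subgroup.zpowers x : Subgroup G) : Set G), ∀ i j,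
      (p : ℤ) ∣ ∑ l, (B i l * (ℓ l ⬝ᵥ (ρ r *ᵥ y j)) - (ℓ i ⬝ᵥ (ρ r *ᵥ y l)) * B l j)) :
    ∃ γ : Matrix (Fin N) (Fin N) ℤ, (∀ g, γ * ρ g = ρ g * γ) ∧
      ∀ j, γ *ᵥ y j - ∑ i, (sgn * κ * n₀ * B i j) • y i ∈ T := by
  classical
  have hp : p.Prime := Fact.out
  -- the quotient map
  have hq0 : ∀ v, v ∈ T → T.mkQ v = 0 := fun v hv => (Submodule.Quotient.mk_eq_zero T).2 hv
  have hqeq : ∀ v w, v - w ∈ T → T.mkQ v = T.mkQ w := fun v w h =>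
    (Submodule.Quotient.eq T).2 h
  have hqmem : ∀ v w, T.mkQ v = T.mkQ w → v - w ∈ T := fun v w h =>
    (Submodule.Quotient.eq T).1 h
  -- the lifts
  have hl : ∀ i l : Fin a, ∃ A : Matrix (Fin N) (Fin N) ℤ, A * ρ x = ρ x * A ∧
      (∀ v, A *ᵥ v ∈ M) ∧ ∀ u ∈ M, A *ᵥ u - (sgn * κ * (ℓ l ⬝ᵥ u)) • y i ∈ T :=
    fun i l => hlift (y i) (hyM i) (ℓ l) (hℓT l)
  choose Al hAlX hAlM hAlu using hl
  set A : Matrix (Fin N) (Fin N) ℤ := ∑ i, ∑ l, B i l • Al i l with hAdef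
  have hAX : A * ρ x = ρ x * A := by
    rw [hAdef, Finset.sum_mul, Finset.mul_sum]
    refine Finset.sum_congr rfl fun i _ => ?_
    rw [Finset.sum_mul, Finset.mul_sum]
    refine Finset.sum_congr rfl fun l _ => ?_
    rw [Matrix.smul_mul, Matrix.mul_smul, hAlX]
  have hAv : ∀ v, A *ᵥ v = ∑ i, ∑ l, B i l • (Al i l *ᵥ v) := by
    intro v
    rw [hAdef, Matrix.sum_mulVec]
    refine Finset.sum_congr rfl fun i _ => ?_
    rw [Matrix.sum_mulVec]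
    refine Finset.sum_congr rfl fun l _ => ?_
    rw [Matrix.smul_mulVec]
  have hAM : ∀ v, A *ᵥ v ∈ M := by
    intro v
    rw [hAv]
    exact M.sum_mem fun i _ => M.sum_mem fun l _ => M.smul_mem _ (hAlM i l v)
  have hAq : ∀ u ∈ M, T.mkQ (A *ᵥ u) =
      ∑ i, (sgn * κ * ∑ l, B i l * (ℓ l ⬝ᵥ u)) • T.mkQ (y i) := by
    intro u hu
    rw [hAv, map_sum]
    refine Finset.sum_congr rfl fun i _ => ?_
    rw [map_sum, Finset.mul_sum, Finset.sum_smul]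
    refine Finset.sum_congr rfl fun l _ => ?_
    rw [map_smul, hqeq _ _ (hAlu i l u hu), map_smul, smul_smul]
    congr 1
    ring
  obtain ⟨Tf, δ, hTN, hTcard, hcomm⟩ := Helper84.lat_transfer ρ p x hx A hAX
  have hcard : Tf.card = n₀ := by
    have h1 : Tf.card * p = n₀ * p := by rw [hTcard, hn₀]
    exact Nat.eq_of_mul_eq_mul_right hp.pos h1
  refine ⟨_, hcomm, fun j => ?_⟩
  have hterm : ∀ r ∈ Tf, (ρ r⁻¹ * A * ρ r) *ᵥ y j ∈ M ∧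
      (ρ r⁻¹ * A * ρ r) *ᵥ y j - ∑ l, (sgn * κ * B l j) • y l ∈ T := by
    intro r hr
    have hrN := hTN r hr
    have hrN' : r⁻¹ ∈ Subgroup.normalizer ((Subgroup.zpowers x : Subgroup G) : Set G) :=
      inv_mem hrN
    have huM : ∀ l, ρ r *ᵥ y l ∈ M := fun l => hNM r hrN _ (hyM l)
    have hexp : (ρ r⁻¹ * A * ρ r) *ᵥ y j = ρ r⁻¹ *ᵥ (A *ᵥ (ρ r *ᵥ y j)) := by
      rw [Matrix.mulVec_mulVec, Matrix.mulVec_mulVec, Matrix.mul_assoc]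
    have hinv : ∀ l, ρ r⁻¹ *ᵥ (ρ r *ᵥ y l) = y l := by
      intro l
      rw [Matrix.mulVec_mulVec, ← map_mul, inv_mul_cancel, map_one, Matrix.one_mulVec]
    refine ⟨by rw [hexp]; exact hNM _ hrN' _ (hAM _), ?_⟩
    -- the congruence for `A (ρ r y j)`
    have h1 : T.mkQ (A *ᵥ (ρ r *ᵥ y j)) =
        T.mkQ (∑ l, (sgn * κ * B l j) • (ρ r *ᵥ y l)) := by
      rw [hAq _ (huM j)]
      have h2 : ∀ i, (sgn * κ * ∑ l, B i l * (ℓ l ⬝ᵥ (ρ r *ᵥ y j))) • T.mkQ (y i) =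
          (sgn * κ * ∑ l, (ℓ i ⬝ᵥ (ρ r *ᵥ y l)) * B l j) • T.mkQ (y i) := by
        intro i
        obtain ⟨q, hq⟩ := hB r hrN i j
        rw [Finset.sum_sub_distrib] at hq
        have h3 : ∑ l, B i l * (ℓ l ⬝ᵥ (ρ r *ᵥ y j)) =
            ∑ l, (ℓ i ⬝ᵥ (ρ r *ᵥ y l)) * B l j + (p : ℤ) * q := by linarith
        rw [h3, mul_add, add_smul]
        have h4 : (sgn * κ * ((p : ℤ) * q)) • T.mkQ (y i) = 0 := by
          have h5 : (sgn * κ * ((p : ℤ) * q)) • T.mkQ (y i) =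
              (sgn * κ * q) • T.mkQ ((p : ℤ) • y i) := by
            rw [map_smul, smul_smul]
            congr 1
            ring
          rw [h5, hq0 _ (hpM _ (hyM i)), smul_zero]
        rw [h4, add_zero]
      rw [Finset.sum_congr rfl fun i _ => h2 i]
      rw [map_sum]
      have h6 : ∀ l, T.mkQ ((sgn * κ * B l j) • (ρ r *ᵥ y l)) =
          ∑ i, (sgn * κ * B l j * (ℓ i ⬝ᵥ (ρ r *ᵥ y l))) • T.mkQ (y i) := by
        intro l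
        rw [map_smul, hqeq _ _ (hspan _ (huM l)), map_sum, Finset.smul_sum]
        refine Finset.sum_congr rfl fun i _ => ?_
        rw [map_smul, smul_smul]
      rw [Finset.sum_congr rfl fun l _ => h6 l, Finset.sum_comm]
      refine Finset.sum_congr rfl fun i _ => ?_
      rw [Finset.mul_sum, Finset.sum_smul]
      refine Finset.sum_congr rfl fun l _ => ?_
      congr 1
      ring
    have h7 := hNT _ hrN' _ (hqmem _ _ h1)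
    rw [Matrix.mulVec_sub] at h7
    have h8 : ρ r⁻¹ *ᵥ (∑ l, (sgn * κ * B l j) • (ρ r *ᵥ y l)) =
        ∑ l, (sgn * κ * B l j) • y l := by
      rw [Matrix.mulVec_sum]
      refine Finset.sum_congr rfl fun l _ => ?_
      rw [Matrix.mulVec_smul, hinv]
    rw [h8] at h7
    rw [hexp]
    exact h7
  -- the sum of the `r`-terms
  have hsumM : ∑ r ∈ Tf, (ρ r⁻¹ * A * ρ r) *ᵥ y j ∈ M :=
    M.sum_mem fun r hr => (hterm r hr).1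
  have hsumT : ∑ r ∈ Tf, (ρ r⁻¹ * A * ρ r) *ᵥ y j
      - ∑ i, (sgn * κ * n₀ * B i j) • y i ∈ T := by
    have h1 : ∑ r ∈ Tf, ((ρ r⁻¹ * A * ρ r) *ᵥ y j - ∑ l, (sgn * κ * B l j) • y l) ∈ T :=
      T.sum_mem fun r hr => (hterm r hr).2
    have e1 : ∑ r ∈ Tf, ((ρ r⁻¹ * A * ρ r) *ᵥ y j - ∑ l, (sgn * κ * B l j) • y l)
        = ∑ r ∈ Tf, (ρ r⁻¹ * A * ρ r) *ᵥ y j
          - ∑ i, (sgn * κ * n₀ * B i j) • y i := by
      rw [Finset.sum_sub_distrib, Finset.sum_const, hcard]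
      congr 1
      rw [Finset.smul_sum]
      refine Finset.sum_congr rfl fun i _ => ?_
      rw [← natCast_zsmul, smul_smul]
      congr 1
      ring
    rw [← e1]
    exact h1
  -- the `δ`-term
  have hsplit : (∑ r ∈ Tf, ρ r⁻¹ * A * ρ r
        + ∑ i ∈ Finset.range p, ρ (x ^ i)⁻¹ * δ * ρ (x ^ i)) *ᵥ y j
      = ∑ r ∈ Tf, (ρ r⁻¹ * A * ρ r) *ᵥ y j
        + (∑ i ∈ Finset.range p, ρ (x ^ i)⁻¹ * δ * ρ (x ^ i)) *ᵥ y j := by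
    rw [Matrix.add_mulVec, Matrix.sum_mulVec]
  have hγM := hcM _ hcomm _ (hyM j)
  rw [hsplit] at hγM
  have hvM : (∑ i ∈ Finset.range p, ρ (x ^ i)⁻¹ * δ * ρ (x ^ i)) *ᵥ y j ∈ M := by
    have := M.sub_mem hγM hsumM
    rwa [add_sub_cancel_left] at this
  have hvT : (∑ i ∈ Finset.range p, ρ (x ^ i)⁻¹ * δ * ρ (x ^ i)) *ᵥ y j ∈ T :=
    Cfsg.Agent.Helper75.lat_bezout_mem p T κ hκ _ (hδ δ _ (hyM j) hvM) (hpM _ hvM)
  rw [hsplit]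
  have e3 : ∑ r ∈ Tf, (ρ r⁻¹ * A * ρ r) *ᵥ y j
        + (∑ i ∈ Finset.range p, ρ (x ^ i)⁻¹ * δ * ρ (x ^ i)) *ᵥ y j
        - ∑ i, (sgn * κ * n₀ * B i j) • y i
      = (∑ r ∈ Tf, (ρ r⁻¹ * A * ρ r) *ᵥ y j - ∑ i, (sgn * κ * n₀ * B i j) • y i)
        + (∑ i ∈ Finset.range p, ρ (x ^ i)⁻¹ * δ * ρ (x ^ i)) *ᵥ y j := by
    abel
  rw [e3]
  exact T.add_mem hsumT hvT

end Cfsg.Agent.Helper84
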