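import Mathlib
import Cfsg.Prelude.Def_FusionSystem
import Cfsg.Agent.Helper84.AbIdxC

/-!
# Essential subgroups over `p`-groups with an abelian subgroup of index `p`: the structure of `P`
-/

set_option autoImplicit false

namespace Cfsg.Agent.Helper84

open Cfsg Cfsg.FusionSystem Subgroup
open scoped commutatorElement

variable {Ω : Type*} [Group Ω] {S : Subgroup Ω}

theorem map_inv_ne {Q : Type*} [Group Q] (B : Subgroup Q) (g : MulAut Q)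
    (hne : B.map g.toMonoidHom ≠ B) : B.map (g⁻¹ : MulAut Q).toMonoidHom ≠ B := by
  intro h
  apply hne
  conv_lhs => rw [← h]
  rw [Subgroup.map_map]
  have : g.toMonoidHom.comp (g⁻¹ : MulAut Q).toMonoidHom = MonoidHom.id Q := by
    ext y; simp
  rw [this, Subgroup.map_id]

theorem exists_mem_not_mem_map {Q : Type*} [Group Q] [Finite Q] (B : Subgroup Q) (σ : MulAut Q)
    (hσ : B.map σ.toMonoidHom ≠ B) : ∃ t ∈ B, t ∉ B.map σ.toMonoidHom := by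
  by_contra hcon
  have hle : B ≤ B.map σ.toMonoidHom := fun y hy => by
    by_contra hyB
    exact hcon ⟨y, hy, hyB⟩
  have hcard : Nat.card (B.map σ.toMonoidHom) ≤ Nat.card B :=
    (Subgroup.card_map_of_injective σ.injective).le
  exact hσ (Subgroup.eq_of_le_of_card_ge hle hcard).symm

theorem comm_of_decomp {G : Type*} [Group G] {a b z : G} (i j : ℕ) (hab : a * b = b * a)
    (hza : ∀ k : ℕ, a * z ^ k = z ^ k * a) (hzb : ∀ k : ℕ, b * z ^ k = z ^ k * b) :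
    a * z ^ i * (b * z ^ j) = b * z ^ j * (a * z ^ i) := by
  have c4 : z ^ i * z ^ j = z ^ j * z ^ i := pow_mul_comm z i j
  calc a * z ^ i * (b * z ^ j) = a * (z ^ i * b) * z ^ j := by group
    _ = a * (b * z ^ i) * z ^ j := by rw [hzb i]
    _ = (a * b) * (z ^ i * z ^ j) := by group
    _ = (b * a) * (z ^ j * z ^ i) := by rw [hab, c4]
    _ = b * (a * z ^ j) * z ^ i := by group
    _ = b * (z ^ j * a) * z ^ i := by rw [hza j]
    _ = b * z ^ j * (a * z ^ i) := by group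

section AbIs

variable [Finite S] {p : ℕ} [Fact p.Prime] {A : Subgroup Ω}

theorem AbI.le_z2_of_not_le (h : AbI p S A) (hn : ¬ z2S S ≤ A) : A ≤ z2S S := by
  obtain ⟨w, hw, hwA⟩ : ∃ w ∈ z2S S, w ∉ A := by
    by_contra hcon
    exact hn (fun y hy => by
      by_contra hyA
      exact hcon ⟨y, hy, hyA⟩)
  have hwS : w ∈ S := (mem_z2S.mp hw).1
  intro a ha
  refine mem_z2S.mpr ⟨h.le ha, fun s hs => ?_⟩
  obtain ⟨b, hb, i, rfl⟩ := h.decomp hwS hwA hs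
  rw [h.cm_mul_right ha hb (S.pow_mem hwS i), ← commutatorElement_inv]
  exact (zS S).inv_mem ((mem_z2S.mp ((z2S S).pow_mem hw i)).2 a (h.le ha))

theorem AbI.mem_z2_of_cm (h : AbI p S A) {x : Ω} (hx : x ∈ S) (hxA : x ∉ A) {a : Ω} (ha : a ∈ A)
    (hcm : ⁅a, x⁆ ∈ zS S) : a ∈ z2S S := by
  refine mem_z2S.mpr ⟨h.le ha, fun s hs => ?_⟩
  obtain ⟨b, hb, i, rfl⟩ := h.decomp hx hxA hs
  rw [h.cm_mul_right ha hb (S.pow_mem hx i),
    cm_pow_right ((mem_zS.mp hcm).2 x hx).symm i]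
  exact (zS S).pow_mem hcm i

theorem AbI.normalizer_eq (h : AbI p S A) : S ⊓ Subgroup.normalizer (A : Set Ω) = S := by
  refine inf_eq_left.mpr (fun s hs => ?_)
  rw [Subgroup.mem_normalizer_iff]
  intro a
  refine ⟨fun ha => h.normal hs ha, fun ha => ?_⟩
  have := h.normal' hs ha
  have e : s⁻¹ * (s * a * s⁻¹) * s = a := by group
  rwa [e] at this

end AbIs

/-- An automorphism in `Aut_F(P) ∖ M` such that `B ∩ g(B)` and `B ∩ g⁻¹(B)` are central in `P`,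
where `B = P ∩ A`. -/
structure GoodAut (F : FusionSystem S) (A P : Subgroup Ω) (M : Subgroup (MulAut P))
    (g : MulAut P) : Prop where
  mem : g ∈ F.autGroup P
  not_mem : g ∉ M
  cen : ∀ c ∈ (A.subgroupOf P) ⊓ (A.subgroupOf P).map (g⁻¹ : MulAut P).toMonoidHom,
    ∀ u : P, c * u = u * c
  cen' : ∀ c ∈ (A.subgroupOf P) ⊓ (A.subgroupOf P).map g.toMonoidHom, ∀ u : P, c * u = u * c

section Ctx

set_option linter.unusedSectionVars false

variable [Finite S] {p : ℕ} [Fact p.Prime] {F : FusionSystem S} {A P : Subgroup Ω} {x : Ω}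
  {M : Subgroup (MulAut P)}

theorem GoodAut.inv {g : MulAut P} (h : GoodAut F A P M g) : GoodAut F A P M g⁻¹ :=
  ⟨Subgroup.inv_mem _ h.mem, fun hm => h.not_mem (by simpa using M.inv_mem hm),
    by rw [inv_inv]; exact h.cen', h.cen⟩

theorem EssCtx.good_of_ne (C : EssCtx p F A P x M) {g : MulAut P} (hg : g ∈ F.autGroup P)
    (hgM : g ∉ M) (hne : (A.subgroupOf P).map g.toMonoidHom ≠ A.subgroupOf P) :
    GoodAut F A P M g := by
  have : Finite P := finite_of_le C.PS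
  have := C.normalB
  exact ⟨hg, hgM, abi_central (A.subgroupOf P) C.commB C.indexB g⁻¹ (map_inv_ne _ g hne),
    abi_central (A.subgroupOf P) C.commB C.indexB g hne⟩

theorem EssCtx.good_of_ab (_C : EssCtx p F A P x M) (hab : ∀ u v : P, u * v = v * u)
    {g : MulAut P} (hg : g ∈ F.autGroup P) (hgM : g ∉ M) : GoodAut F A P M g :=
  ⟨hg, hgM, fun c _ u => hab c u, fun c _ u => hab c u⟩

theorem EssCtx.exists_good_ne (C : EssCtx p F A P x M) :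
    ∃ g, GoodAut F A P M g ∧ (A.subgroupOf P).map g.toMonoidHom ≠ A.subgroupOf P := by
  obtain ⟨g, hg, hgM, hne⟩ := C.claimN
  exact ⟨g, C.good_of_ne hg hgM hne, hne⟩

theorem EssCtx.gkey (C : EssCtx p F A P x M) {g : MulAut P} (hG : GoodAut F A P M g) {y₀ : P}
    (hy₀ : (y₀ : Ω) ∉ A) {a : Ω} (haA : a ∈ A) (haN : a ∈ Subgroup.normalizer (P : Set Ω))
    (hd : ∃ w ∈ (A.subgroupOf P).map g.toMonoidHom, (w : Ω) = ⁅a, (y₀ : Ω)⁆) : a ∈ P :=
  C.key hG.mem hG.not_mem hG.cen hG.cen' hy₀ haA haN hd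

theorem EssCtx.cm_mem_P (_C : EssCtx p F A P x M) {a : Ω}
    (haN : a ∈ Subgroup.normalizer (P : Set Ω)) {y : Ω} (hy : y ∈ P) : ⁅a, y⁆ ∈ P := by
  rw [commutatorElement_def]
  exact P.mul_mem ((Subgroup.mem_normalizer_iff.mp haN y).mp hy) (P.inv_mem hy)

theorem EssCtx.gmain (C : EssCtx p F A P x M) {g : MulAut P} (hG : GoodAut F A P M g) {a₁ : Ω}
    (ha₁ : a₁ ∈ A) (ha₁N : a₁ ∈ Subgroup.normalizer (P : Set Ω)) (ha₁P : a₁ ∉ P) :
    a₁ ^ p ∈ P ∧ ∀ a ∈ A, a ∈ Subgroup.normalizer (P : Set Ω) → ∃ k : ℕ, a * (a₁ ^ k)⁻¹ ∈ P := by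
  have hPS := C.PS
  have : Finite P := finite_of_le hPS
  have hxS : x ∈ S := hPS C.hx
  have hnB := C.normalB
  have hnH : ((A.subgroupOf P).map g.toMonoidHom).Normal := hnB.map g.toMonoidHom g.surjective
  have hidx : ((A.subgroupOf P).map g.toMonoidHom).relIndex ⊤ = p := by
    rw [Subgroup.relIndex_top_right, Subgroup.index_map_of_bijective (f := g.toMonoidHom) g.bijective]
    exact C.indexB
  have key := fun {a : Ω} (haA : a ∈ A) (haN : a ∈ Subgroup.normalizer (P : Set Ω)) hd =>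
    C.gkey hG (y₀ := ⟨x, C.hx⟩) C.hxA haA haN hd
  have htH : (⟨⁅a₁, x⁆, C.cm_mem_P ha₁N C.hx⟩ : P) ∉ (A.subgroupOf P).map g.toMonoidHom :=
    fun hmem => ha₁P (key ha₁ ha₁N ⟨_, hmem, rfl⟩)
  obtain ⟨h1, h2⟩ := abi_cyc (fun k _ h hh => hnH.conj_mem h hh k) hidx (Subgroup.mem_top _) htH
  constructor
  · refine key (A.pow_mem ha₁ p) (Subgroup.pow_mem _ ha₁N p) ⟨_, h1, ?_⟩
    rw [C.abi.cm_pow ha₁ hxS p]; rfl
  · intro a haA haN
    obtain ⟨i, hi⟩ := h2 ⟨⁅a, x⁆, C.cm_mem_P haN C.hx⟩ (Subgroup.mem_top _)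
    refine ⟨i, key (A.mul_mem haA (A.inv_mem (A.pow_mem ha₁ i)))
      (Subgroup.mul_mem _ haN (Subgroup.inv_mem _ (Subgroup.pow_mem _ ha₁N i))) ⟨_, hi, ?_⟩⟩
    rw [C.abi.cm_mul haA (A.inv_mem (A.pow_mem ha₁ i)) hxS, C.abi.cm_inv (A.pow_mem ha₁ i) hxS,
      C.abi.cm_pow ha₁ hxS i]
    rfl

theorem EssCtx.main (C : EssCtx p F A P x M) :
    ∃ a₁ ∈ A, a₁ ∈ Subgroup.normalizer (P : Set Ω) ∧ a₁ ∉ P ∧ a₁ ^ p ∈ P ∧
      ∀ a ∈ A, a ∈ Subgroup.normalizer (P : Set Ω) → ∃ k : ℕ, a * (a₁ ^ k)⁻¹ ∈ P := by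
  obtain ⟨g, hG, -⟩ := C.exists_good_ne
  obtain ⟨a₁, ha₁, ha₁N, ha₁P⟩ := C.exists_a1
  obtain ⟨h1, h2⟩ := C.gmain hG ha₁ ha₁N ha₁P
  exact ⟨a₁, ha₁, ha₁N, ha₁P, h1, h2⟩

/-- `|N_S(P) : P| = p`. -/
theorem EssCtx.index (C : EssCtx p F A P x M) :
    (P.subgroupOf (S ⊓ Subgroup.normalizer (P : Set Ω))).index = p := by
  obtain ⟨a₁, ha₁, ha₁N, ha₁P, h1, h2⟩ := C.main
  have hPS := C.PS
  refine abi_idx (H := P) (K := S ⊓ Subgroup.normalizer (P : Set Ω)) ?_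
    (t := a₁) ⟨C.abi.le ha₁, ha₁N⟩ ha₁P h1 ?_
  · intro k hk h hh
    exact (Subgroup.mem_normalizer_iff.mp hk.2 h).mp hh
  · intro w hw
    obtain ⟨a, ha, j, rfl⟩ := C.abi.decomp (hPS C.hx) C.hxA hw.1
    have hxj : x ^ j ∈ P := P.pow_mem C.hx j
    have haN : a ∈ Subgroup.normalizer (P : Set Ω) := by
      have e : a = (a * x ^ j) * (x ^ j)⁻¹ := by group
      rw [e]
      exact Subgroup.mul_mem _ hw.2 (Subgroup.inv_mem _ (Subgroup.le_normalizer hxj))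
    obtain ⟨k, hk⟩ := h2 a ha haN
    refine ⟨k, ?_⟩
    have e : a * x ^ j * (a₁ ^ k)⁻¹ = (a * (a₁ ^ k)⁻¹) * (a₁ ^ k * x ^ j * (a₁ ^ k)⁻¹) := by group
    rw [e]
    exact P.mul_mem hk
      ((Subgroup.mem_normalizer_iff.mp (Subgroup.pow_mem _ ha₁N k) _).mp hxj)

theorem EssCtx.good_ne (C : EssCtx p F A P x M) {g : MulAut P} (hG : GoodAut F A P M g) :
    (A.subgroupOf P).map g.toMonoidHom ≠ A.subgroupOf P := by
  intro heq
  obtain ⟨a₁, ha₁, ha₁N, ha₁P⟩ := C.exists_a1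
  apply ha₁P
  refine C.gkey hG (y₀ := ⟨x, C.hx⟩) C.hxA ha₁ ha₁N ⟨⟨⁅a₁, x⁆, C.cm_mem_P ha₁N C.hx⟩, ?_, rfl⟩
  rw [heq, Subgroup.mem_subgroupOf]
  exact C.abi.cm_mem ha₁ (C.PS C.hx)

/-! ### The abelian case -/

theorem EssCtx.ab_inf (C : EssCtx p F A P x M) (hab : ∀ u v : P, u * v = v * u) {a : Ω}
    (haP : a ∈ P) (haA : a ∈ A) : a ∈ zS S :=
  C.abi.cent_eq (C.PS C.hx) C.hxA haA (congrArg Subtype.val (hab ⟨a, haP⟩ ⟨x, C.hx⟩))

theorem EssCtx.ab_eq (C : EssCtx p F A P x M) (hab : ∀ u v : P, u * v = v * u) :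
    P = zS S ⊔ Subgroup.zpowers x := by
  apply le_antisymm
  · intro y hy
    obtain ⟨b, hb, hbP, i, rfl⟩ := C.decompP C.hx C.hxA hy
    exact Subgroup.mul_mem _ (Subgroup.mem_sup_left (C.ab_inf hab hbP hb))
      (Subgroup.mem_sup_right (Subgroup.pow_mem _ (Subgroup.mem_zpowers x) i))
  · exact sup_le C.zS_le ((Subgroup.zpowers_le).mpr C.hx)

/-! ### The nonabelian case -/

theorem EssCtx.center_le (C : EssCtx p F A P x M) (hnab : ¬ ∀ u v : P, u * v = v * u) {c : P}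
    (hc : ∀ u : P, c * u = u * c) : (c : Ω) ∈ zS S := by
  have hcA : (c : Ω) ∈ A := by
    by_contra hcA
    apply hnab
    intro u v
    obtain ⟨b, hb, hbP, i, hu⟩ := C.decompP c.2 hcA u.2
    obtain ⟨b', hb', hbP', j, hv⟩ := C.decompP c.2 hcA v.2
    have hck : ∀ (w : Ω), w ∈ P → ∀ k : ℕ, w * (c : Ω) ^ k = (c : Ω) ^ k * w := by
      intro w hw k
      have h1 : (c : Ω) * w = w * c := congrArg Subtype.val (hc ⟨w, hw⟩)
      exact (Commute.pow_right (show Commute w (c : Ω) from h1.symm) k).eq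
    apply Subtype.ext
    show (u : Ω) * v = v * u
    rw [hu, hv]
    exact comm_of_decomp i j (C.abi.comm b hb b' hb') (hck b hbP) (hck b' hbP')
  exact C.abi.cent_eq (C.PS C.hx) C.hxA hcA (congrArg Subtype.val (hc ⟨x, C.hx⟩))

theorem EssCtx.zS_central (C : EssCtx p F A P x M) {z : P} (hz : (z : Ω) ∈ zS S) (u : P) :
    z * u = u * z :=
  Subtype.ext ((mem_zS.mp hz).2 u (C.PS u.2)).symm

theorem EssCtx.aut_zS (C : EssCtx p F A P x M) (hnab : ¬ ∀ u v : P, u * v = v * u) (α : MulAut P)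
    {z : P} (hz : (z : Ω) ∈ zS S) : ((α z : P) : Ω) ∈ zS S := by
  apply C.center_le hnab
  intro u
  have h1 := C.zS_central hz (α⁻¹ u)
  have h2 := congrArg α h1
  simpa using h2

theorem EssCtx.zS_mem_map (C : EssCtx p F A P x M) (hnab : ¬ ∀ u v : P, u * v = v * u)
    (g : MulAut P) {z : P} (hz : (z : Ω) ∈ zS S) : z ∈ (A.subgroupOf P).map g.toMonoidHom := by
  refine ⟨g⁻¹ z, ?_, by simp⟩
  show ((g⁻¹ z : P) : Ω) ∈ A
  exact C.abi.center_le (C.aut_zS hnab g⁻¹ hz)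

theorem EssCtx.nab_comm (C : EssCtx p F A P x M) (hnab : ¬ ∀ u v : P, u * v = v * u)
    {g : MulAut P} (hG : GoodAut F A P M g) {u v : Ω} (hu : u ∈ P) (hv : v ∈ P) :
    ⁅u, v⁆ ∈ zS S := by
  have h1 : ⁅(⟨u, hu⟩ : P), ⟨v, hv⟩⁆ ∈ A.subgroupOf P := C.hcomm _ _
  have h2 : ⁅(⟨u, hu⟩ : P), ⟨v, hv⟩⁆ ∈ (A.subgroupOf P).map g.toMonoidHom := by
    refine ⟨⁅g⁻¹ ⟨u, hu⟩, g⁻¹ ⟨v, hv⟩⁆, C.hcomm _ _, ?_⟩
    show g ⁅g⁻¹ ⟨u, hu⟩, g⁻¹ ⟨v, hv⟩⁆ = _
    rw [map_commutatorElement]; simp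
  exact C.center_le hnab (hG.cen' _ ⟨h1, h2⟩)

theorem EssCtx.nab_le_z2 (C : EssCtx p F A P x M) (hnab : ¬ ∀ u v : P, u * v = v * u)
    {g : MulAut P} (hG : GoodAut F A P M g) {b : Ω} (hbP : b ∈ P) (hbA : b ∈ A) : b ∈ z2S S := by
  refine mem_z2S.mpr ⟨C.PS hbP, fun s hs => ?_⟩
  obtain ⟨a, ha, i, rfl⟩ := C.abi.decomp (C.PS C.hx) C.hxA hs
  rw [C.abi.cm_mul_right hbA ha (S.pow_mem (C.PS C.hx) i)]
  exact C.nab_comm hnab hG hbP (P.pow_mem C.hx i)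

theorem EssCtx.nab_z2_le (C : EssCtx p F A P x M) (hnab : ¬ ∀ u v : P, u * v = v * u)
    {g : MulAut P} (hG : GoodAut F A P M g) {a : Ω} (haA : a ∈ A) (ha2 : a ∈ z2S S) : a ∈ P := by
  have hcm : ⁅a, x⁆ ∈ zS S := (mem_z2S.mp ha2).2 x (C.PS C.hx)
  have hcmP : ⁅a, x⁆ ∈ P := C.zS_le hcm
  have haN : a ∈ Subgroup.normalizer (P : Set Ω) := by
    apply C.norm_of haA
    have e : a * x * a⁻¹ = ⁅a, x⁆ * x := by rw [commutatorElement_def]; group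
    rw [e]; exact P.mul_mem hcmP C.hx
  exact C.gkey hG (y₀ := ⟨x, C.hx⟩) C.hxA haA haN
    ⟨⟨⁅a, x⁆, hcmP⟩, C.zS_mem_map hnab g hcm, rfl⟩

theorem EssCtx.nab_z2_le_A (C : EssCtx p F A P x M) (hnab : ¬ ∀ u v : P, u * v = v * u)
    {g : MulAut P} (hG : GoodAut F A P M g) : z2S S ≤ A := by
  by_contra hn
  obtain ⟨a₁, ha₁, -, ha₁P⟩ := C.exists_a1
  exact ha₁P (C.nab_z2_le hnab hG ha₁ (C.abi.le_z2_of_not_le hn ha₁))

theorem EssCtx.nab_eq (C : EssCtx p F A P x M) (hnab : ¬ ∀ u v : P, u * v = v * u)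
    {g : MulAut P} (hG : GoodAut F A P M g) : P = z2S S ⊔ Subgroup.zpowers x := by
  apply le_antisymm
  · intro y hy
    obtain ⟨b, hb, hbP, i, rfl⟩ := C.decompP C.hx C.hxA hy
    exact Subgroup.mul_mem _ (Subgroup.mem_sup_left (C.nab_le_z2 hnab hG hbP hb))
      (Subgroup.mem_sup_right (Subgroup.pow_mem _ (Subgroup.mem_zpowers x) i))
  · refine sup_le (fun a ha => ?_) ((Subgroup.zpowers_le).mpr C.hx)
    exact C.nab_z2_le hnab hG (C.nab_z2_le_A hnab hG ha) ha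

/-- The shape of an essential subgroup `P ≠ A`. -/
theorem EssCtx.shape (C : EssCtx p F A P x M) :
    P = zS S ⊔ Subgroup.zpowers x ∨ (z2S S ≤ A ∧ P = z2S S ⊔ Subgroup.zpowers x) := by
  by_cases hab : ∀ u v : P, u * v = v * u
  · exact Or.inl (C.ab_eq hab)
  · obtain ⟨g, hG, -⟩ := C.exists_good_ne
    exact Or.inr ⟨C.nab_z2_le_A hab hG, C.nab_eq hab hG⟩

/-- The data extracted from an essential subgroup different from `A`. -/
structure EssData (p : ℕ) (S A : Subgroup Ω) (x a₁ : Ω) : Prop where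
  hx : x ∈ S
  hxA : x ∉ A
  ha₁ : a₁ ∈ A
  hcm : ⁅a₁, x⁆ ∈ zS S
  hnz : a₁ ∉ zS S
  hpow : a₁ ^ p ∈ zS S
  hgen : ∀ a ∈ A, ⁅a, x⁆ ∈ zS S → ∃ k : ℕ, a * (a₁ ^ k)⁻¹ ∈ zS S

theorem EssCtx.essData (C : EssCtx p F A P x M) : ∃ a₁, EssData p S A x a₁ := by
  have hPS := C.PS
  have hxS : x ∈ S := hPS C.hx
  by_cases hab : ∀ u v : P, u * v = v * u
  · obtain ⟨a₁, ha₁, ha₁N, ha₁P, h1, h2⟩ := C.main
    refine ⟨a₁, hxS, C.hxA, ha₁, C.ab_inf hab (C.cm_mem_P ha₁N C.hx) (C.abi.cm_mem ha₁ hxS),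
      fun hz => ha₁P (C.zS_le hz), C.ab_inf hab h1 (A.pow_mem ha₁ p), ?_⟩
    intro a ha hcm
    have haN : a ∈ Subgroup.normalizer (P : Set Ω) := by
      apply C.norm_of ha
      have e : a * x * a⁻¹ = ⁅a, x⁆ * x := by rw [commutatorElement_def]; group
      rw [e]; exact P.mul_mem (C.zS_le hcm) C.hx
    obtain ⟨k, hk⟩ := h2 a ha haN
    exact ⟨k, C.ab_inf hab hk (A.mul_mem ha (A.inv_mem (A.pow_mem ha₁ k)))⟩
  · obtain ⟨g, hG, hne⟩ := C.exists_good_ne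
    have : Finite P := finite_of_le hPS
    obtain ⟨t, htB, htg⟩ := exists_mem_not_mem_map (A.subgroupOf P) g hne
    have hnB := C.normalB
    have hnH : ((A.subgroupOf P).map g.toMonoidHom).Normal := hnB.map g.toMonoidHom g.surjective
    have hidx : ((A.subgroupOf P).map g.toMonoidHom).relIndex ⊤ = p := by
      rw [Subgroup.relIndex_top_right,
        Subgroup.index_map_of_bijective (f := g.toMonoidHom) g.bijective]
      exact C.indexB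
    obtain ⟨h1, h2⟩ := abi_cyc (fun k _ h hh => hnH.conj_mem h hh k) hidx (Subgroup.mem_top _) htg
    have htA : (t : Ω) ∈ A := htB
    refine ⟨(t : Ω), hxS, C.hxA, htA, C.nab_comm hab hG t.2 C.hx,
      fun hz => htg (C.zS_mem_map hab g hz), ?_, ?_⟩
    · exact C.center_le hab (hG.cen' (t ^ p) ⟨Subgroup.pow_mem _ htB p, h1⟩)
    · intro a ha hcm
      have haP : a ∈ P := C.nab_z2_le hab hG ha (C.abi.mem_z2_of_cm hxS C.hxA ha hcm)
      obtain ⟨i, hi⟩ := h2 ⟨a, haP⟩ (Subgroup.mem_top _)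
      refine ⟨i, ?_⟩
      have hB : (⟨a, haP⟩ : P) * (t ^ i)⁻¹ ∈ A.subgroupOf P :=
        Subgroup.mul_mem _ (Subgroup.mem_subgroupOf.mpr ha)
          (Subgroup.inv_mem _ (Subgroup.pow_mem _ htB i))
      exact C.center_le hab (hG.cen' _ ⟨hB, hi⟩)

end Ctx

end Cfsg.Agent.Helper84

namespace Cfsg.Agent.Helper84

variable {Ω : Type*} [Group Ω] {S : Subgroup Ω}

/-- The hypotheses of Oliver's statements, repackaged. -/
theorem abi_of_hyps {p : ℕ} (hS : IsPGroup p S) (hna : ¬ IsMulCommutative ↥S) {A : Subgroup Ω}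
    (hA : A ≤ S ∧ IsMulCommutative ↥A ∧ (A.subgroupOf S).index = p) : AbI p S A := by
  refine ⟨hS, hA.1, fun a ha b hb => ?_, hA.2.2, ?_⟩
  · exact congrArg Subtype.val (hA.2.1.is_comm.comm ⟨a, ha⟩ ⟨b, hb⟩)
  · by_contra hcon
    apply hna
    refine ⟨⟨fun a b => ?_⟩⟩
    by_contra hab
    exact hcon ⟨a, a.2, b, b.2, fun h => hab (Subtype.ext h)⟩

end Cfsg.Agent.Helper84
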