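import Mathlib
import Cfsg.Prelude.Def_FusionSystem
import Cfsg.Agent.Helper84.AbIdxD

/-!
# Consequences of the existence of an essential subgroup other than `A` (Oliver, Lemma 2.3/2.4)
-/

set_option autoImplicit false

namespace Cfsg.Agent.Helper84

open Cfsg Subgroup
open scoped commutatorElement

variable {Ω : Type*} [Group Ω] {S : Subgroup Ω}

theorem zS_conj {k z : Ω} (hk : k ∈ S) (hz : z ∈ zS S) : k * z * k⁻¹ ∈ zS S := by
  have e : k * z * k⁻¹ = z := by rw [(mem_zS.mp hz).2 k hk]; group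
  rw [e]; exact hz

theorem cm_eq_one_of_zS {z x : Ω} (hz : z ∈ zS S) (hx : x ∈ S) : ⁅z, x⁆ = 1 := by
  rw [commutatorElement_eq_one_iff_mul_comm]; exact ((mem_zS.mp hz).2 x hx).symm

section Data

set_option linter.unusedSectionVars false

variable [Finite S] {p : ℕ} [Fact p.Prime] {A : Subgroup Ω} {x a₁ : Ω}

/-- The commutator map `a ↦ ⁅a, x⁆` as an endomorphism of `A`. -/
def AbI.psi (h : AbI p S A) {x : Ω} (hx : x ∈ S) : ↥A →* ↥A where
  toFun a := ⟨⁅(a : Ω), x⁆, h.cm_mem a.2 hx⟩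
  map_one' := by apply Subtype.ext; simp
  map_mul' a b := Subtype.ext (h.cm_mul a.2 b.2 hx)

theorem AbI.psi_coe (h : AbI p S A) {x : Ω} (hx : x ∈ S) (a : ↥A) :
    ((h.psi hx a : ↥A) : Ω) = ⁅(a : Ω), x⁆ := rfl

theorem AbI.psi_ker (h : AbI p S A) {x : Ω} (hx : x ∈ S) (hxA : x ∉ A) :
    (h.psi hx).ker = (zS S).subgroupOf A := by
  ext a
  rw [MonoidHom.mem_ker, Subgroup.mem_subgroupOf]
  constructor
  · intro h1
    have h2 : ⁅(a : Ω), x⁆ = 1 := by
      have := congrArg Subtype.val h1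
      rwa [h.psi_coe] at this
    exact h.cent_eq hx hxA a.2 ((commutatorElement_eq_one_iff_mul_comm).mp h2)
  · intro h1
    apply Subtype.ext
    rw [h.psi_coe]
    exact cm_eq_one_of_zS h1 hx

theorem AbI.psi_range (h : AbI p S A) {x : Ω} (hx : x ∈ S) (hxA : x ∉ A) :
    (h.psi hx).range = (dS S).subgroupOf A := by
  ext a
  rw [Subgroup.mem_subgroupOf]
  constructor
  · rintro ⟨b, rfl⟩
    rw [h.psi_coe]
    exact cm_mem_dS (h.le b.2) hx
  · intro h1
    obtain ⟨b, hb, hab⟩ := h.dS_exists hx hxA h1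
    exact ⟨⟨b, hb⟩, Subtype.ext hab.symm⟩

theorem AbI.normalA (h : AbI p S A) (X : Subgroup ↥A) : X.Normal := by
  refine ⟨fun n hn g => ?_⟩
  have e : g * n * g⁻¹ = n := by
    apply Subtype.ext
    show (g : Ω) * n * (g : Ω)⁻¹ = n
    rw [h.comm g g.2 n n.2]; group
  rw [e]; exact hn

theorem EssData.z2_of_cm (h : AbI p S A) (D : EssData p S A x a₁) {a : Ω} (ha : a ∈ A)
    (hcm : ⁅a, x⁆ ∈ zS S) : a ∈ z2S S := h.mem_z2_of_cm D.hx D.hxA ha hcm

/-- (i) `Z₂(S) ≤ A`. -/
theorem EssData.z2_le (h : AbI p S A) (D : EssData p S A x a₁)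
    (huniq : ∀ B : Subgroup Ω, B ≤ S → IsMulCommutative ↥B → (B.subgroupOf S).index = p → B = A) :
    z2S S ≤ A := by
  by_contra hn
  have hle := h.le_z2_of_not_le hn
  apply h.center_index_ne huniq
  refine abi_idx (H := zS S) (K := A) (fun k hk z hz => zS_conj (h.le hk) hz) D.ha₁ D.hnz D.hpow ?_
  intro w hw
  exact D.hgen w hw ((mem_z2S.mp (hle hw)).2 x D.hx)

/-- (iv) `|Z₂(S) : Z(S)| = p`. -/
theorem EssData.z2_index (h : AbI p S A) (D : EssData p S A x a₁) (hz2 : z2S S ≤ A) :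
    ((zS S).subgroupOf (z2S S)).index = p := by
  refine abi_idx (H := zS S) (K := z2S S) (fun k hk z hz => zS_conj (mem_z2S.mp hk).1 hz)
    (D.z2_of_cm h D.ha₁ D.hcm) D.hnz D.hpow ?_
  intro w hw
  exact D.hgen w (hz2 hw) ((mem_z2S.mp hw).2 x D.hx)

theorem EssData.cm_pow_eq_one (h : AbI p S A) (D : EssData p S A x a₁) : ⁅a₁, x⁆ ^ p = 1 := by
  rw [← h.cm_pow D.ha₁ D.hx p]
  exact cm_eq_one_of_zS D.hpow D.hx

theorem EssData.cm_ne_one (h : AbI p S A) (D : EssData p S A x a₁) : ⁅a₁, x⁆ ≠ 1 := by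
  intro h1
  exact D.hnz (h.cent_eq D.hx D.hxA D.ha₁ ((commutatorElement_eq_one_iff_mul_comm).mp h1))

theorem EssData.inf_eq (h : AbI p S A) (D : EssData p S A x a₁) :
    zS S ⊓ dS S = Subgroup.zpowers ⁅a₁, x⁆ := by
  apply le_antisymm
  · intro w hw
    obtain ⟨a, ha, rfl⟩ := h.dS_exists D.hx D.hxA hw.2
    obtain ⟨k, hk⟩ := D.hgen a ha hw.1
    have e : a = (a * (a₁ ^ k)⁻¹) * a₁ ^ k := by group
    have h2 : ⁅a, x⁆ = ⁅a₁, x⁆ ^ k := by
      conv_lhs => rw [e]
      rw [h.cm_mul (h.center_le hk) (A.pow_mem D.ha₁ k) D.hx, cm_eq_one_of_zS hk D.hx, one_mul,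
        h.cm_pow D.ha₁ D.hx k]
    rw [h2]
    exact Subgroup.pow_mem _ (Subgroup.mem_zpowers _) k
  · rw [Subgroup.zpowers_le]
    exact ⟨D.hcm, cm_mem_dS (h.le D.ha₁) D.hx⟩

/-- (ii) `|Z(S) ∩ [S, S]| = p`. -/
theorem EssData.inf_card (h : AbI p S A) (D : EssData p S A x a₁) :
    Nat.card ↥(zS S ⊓ dS S) = p := by
  rw [D.inf_eq h, Nat.card_zpowers]
  exact orderOf_eq_prime (D.cm_pow_eq_one h) (D.cm_ne_one h)

/-- (iii) `|A : Z(S)[S, S]| = p`. -/
theorem EssData.sup_index (h : AbI p S A) (D : EssData p S A x a₁) :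
    ((zS S ⊔ dS S).subgroupOf A).index = p := by
  have : Finite A := finite_of_le h.le
  rw [Subgroup.subgroupOf_sup h.center_le h.dS_le]
  have hk := h.psi_ker D.hx D.hxA
  have hr := h.psi_range D.hx D.hxA
  have hn : ((zS S).subgroupOf A).Normal := h.normalA _
  have h1 : ((zS S).subgroupOf A).relIndex ((zS S).subgroupOf A ⊔ (dS S).subgroupOf A) *
      ((zS S).subgroupOf A ⊔ (dS S).subgroupOf A).index = ((zS S).subgroupOf A).index :=
    Subgroup.relIndex_mul_index le_sup_left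
  have h2 : ((zS S).subgroupOf A).relIndex ((zS S).subgroupOf A ⊔ (dS S).subgroupOf A) =
      ((zS S).subgroupOf A).relIndex ((dS S).subgroupOf A) := Subgroup.relIndex_sup_left _ _
  have h3 : ((zS S).subgroupOf A).index = Nat.card ((dS S).subgroupOf A) := by
    rw [← hk, ← hr]; exact Subgroup.index_ker _
  have h4 : Nat.card ↥((zS S).subgroupOf A ⊓ (dS S).subgroupOf A) *
      ((zS S).subgroupOf A ⊓ (dS S).subgroupOf A).relIndex ((dS S).subgroupOf A) =
      Nat.card ((dS S).subgroupOf A) := by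
    have := Subgroup.relIndex_mul_relIndex ⊥ ((zS S).subgroupOf A ⊓ (dS S).subgroupOf A)
      ((dS S).subgroupOf A) bot_le inf_le_right
    rwa [Subgroup.relIndex_bot_left, Subgroup.relIndex_bot_left] at this
  have h5 : ((zS S).subgroupOf A ⊓ (dS S).subgroupOf A).relIndex ((dS S).subgroupOf A) =
      ((zS S).subgroupOf A).relIndex ((dS S).subgroupOf A) := Subgroup.inf_relIndex_right _ _
  have h6 : Nat.card ↥((zS S).subgroupOf A ⊓ (dS S).subgroupOf A) = p := by
    have e : (zS S).subgroupOf A ⊓ (dS S).subgroupOf A = (zS S ⊓ dS S).subgroupOf A :=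
      (Subgroup.comap_inf _ _ _).symm
    rw [e, Nat.card_congr (Subgroup.subgroupOfEquivOfLe (inf_le_left.trans h.center_le)).toEquiv]
    exact D.inf_card h
  rw [h5, h6] at h4
  rw [h2, h3, ← h4] at h1
  have hpos : 0 < ((zS S).subgroupOf A).relIndex ((dS S).subgroupOf A) := by
    rcases Nat.eq_zero_or_pos (((zS S).subgroupOf A).relIndex ((dS S).subgroupOf A)) with h0 | h0
    · rw [h0, mul_zero] at h4
      exact absurd h4.symm (Nat.card_pos).ne'
    · exact h0
  rw [mul_comm p] at h1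
  exact Nat.eq_of_mul_eq_mul_left hpos h1

/-- The chain `W k = {a ∈ A | ψ^k(a) ∈ Z(S)}`. -/
def AbI.chainW (h : AbI p S A) {x : Ω} (hx : x ∈ S) : ℕ → Subgroup ↥A
  | 0 => (zS S).subgroupOf A
  | k + 1 => (AbI.chainW h hx k).comap (h.psi hx)

theorem AbI.le_chainW (h : AbI p S A) {x : Ω} (hx : x ∈ S) (hxA : x ∉ A) (k : ℕ) :
    (zS S).subgroupOf A ≤ h.chainW hx k := by
  induction k with
  | zero => exact le_rfl
  | succ k ih =>
    intro a ha
    show h.psi hx a ∈ h.chainW hx k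
    rw [← h.psi_ker hx hxA, MonoidHom.mem_ker] at ha
    rw [ha]; exact Subgroup.one_mem _

theorem AbI.mem_chainW (h : AbI p S A) {x : Ω} (hx : x ∈ S) (k : ℕ) (a : ↥A) :
    a ∈ h.chainW hx k ↔ (h.psi hx)^[k] a ∈ (zS S).subgroupOf A := by
  induction k generalizing a with
  | zero => exact Iff.rfl
  | succ k ih =>
    rw [Function.iterate_succ_apply]
    exact ih (h.psi hx a)

theorem AbI.iter_mem_lcs (h : AbI p S A) {x : Ω} (hx : x ∈ S) (k : ℕ) (a : ↥A) :
    (((h.psi hx)^[k] a : ↥A) : Ω) ∈ Subgroup.lowerCentralSeries S k := by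
  induction k with
  | zero => exact h.le a.2
  | succ k ih =>
    rw [Function.iterate_succ_apply', h.psi_coe, Subgroup.lowerCentralSeries_succ]
    exact Subgroup.commutator_mem_commutator ih hx

theorem EssData.chain_dvd (h : AbI p S A) (D : EssData p S A x a₁) (k : ℕ) :
    ((zS S).subgroupOf A).index ∣ p ^ k * (h.chainW D.hx k).index := by
  induction k with
  | zero => simp [AbI.chainW]
  | succ k ih =>
    have hn : (h.chainW D.hx k).Normal := h.normalA _
    have h1 : (h.chainW D.hx (k + 1)).index =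
        (h.chainW D.hx k).relIndex ((dS S).subgroupOf A) := by
      rw [← h.psi_range D.hx D.hxA]; exact Subgroup.index_comap _ _
    have h2 : (h.chainW D.hx k).relIndex (h.chainW D.hx k ⊔ (dS S).subgroupOf A) =
        (h.chainW D.hx k).relIndex ((dS S).subgroupOf A) := Subgroup.relIndex_sup_left _ _
    have h3 : (h.chainW D.hx k).relIndex (h.chainW D.hx k ⊔ (dS S).subgroupOf A) *
        (h.chainW D.hx k ⊔ (dS S).subgroupOf A).index = (h.chainW D.hx k).index :=
      Subgroup.relIndex_mul_index le_sup_left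
    have h4 : (h.chainW D.hx k ⊔ (dS S).subgroupOf A).index ∣ p := by
      have h5 := Subgroup.index_dvd_of_le
        (sup_le_sup_right (h.le_chainW D.hx D.hxA k) ((dS S).subgroupOf A))
      have h6 := D.sup_index h
      rw [Subgroup.subgroupOf_sup h.center_le h.dS_le] at h6
      rwa [h6] at h5
    rw [h2, ← h1] at h3
    refine ih.trans ?_
    rw [← h3, pow_succ]
    obtain ⟨e, he⟩ := h4
    refine ⟨e, ?_⟩
    have h7 : p ^ k * ((h.chainW D.hx k ⊔ (dS S).subgroupOf A).index * e) *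
        (h.chainW D.hx (k + 1)).index =
        p ^ k * ((h.chainW D.hx (k + 1)).index *
          (h.chainW D.hx k ⊔ (dS S).subgroupOf A).index) * e := by ring
    rw [← he] at h7
    exact h7

/-- (v) `S / Z(S)` has maximal class. -/
theorem EssData.max_class (h : AbI p S A) (D : EssData p S A x a₁) (m : ℕ)
    (hm : ((zS S).subgroupOf S).index = p ^ m) (h3 : 3 ≤ m) :
    ¬ Subgroup.lowerCentralSeries S (m - 2) ≤ zS S := by
  intro hle
  have htop : h.chainW D.hx (m - 2) = ⊤ := by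
    rw [eq_top_iff]
    intro a _
    rw [h.mem_chainW]
    exact hle (h.iter_mem_lcs D.hx (m - 2) a)
  have h1 := D.chain_dvd h (m - 2)
  rw [htop, Subgroup.index_top, mul_one] at h1
  have h2 := Subgroup.relIndex_mul_relIndex (zS S) A S h.center_le h.le
  rw [h.idx] at h2
  have h4 : (zS S).relIndex S = p ^ m := hm
  rw [h4] at h2
  have h5 : (zS S).relIndex A = p ^ (m - 1) := by
    have hp0 : 0 < p := (Fact.out : p.Prime).pos
    have e : p ^ m = p ^ (m - 1) * p := by
      rw [← pow_succ]; congr 1; omega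
    rw [e] at h2
    exact Nat.eq_of_mul_eq_mul_right hp0 h2
  have h6 : ((zS S).subgroupOf A).index = p ^ (m - 1) := h5
  rw [h6] at h1
  have := (Nat.pow_dvd_pow_iff_le_right (Fact.out : p.Prime).one_lt).mp h1
  omega

end Data

end Cfsg.Agent.Helper84
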