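import Mathlib
import Cfsg.Prelude.Def_FusionSystem
import Cfsg.Agent.Helper84.AbIdxE

/-!
# Tools for Oliver's theorem on core-free fusion systems over `p`-groups with abelian subgroup of
index `p`: an `SL₂`-computation, restriction and extension of automorphisms, `Aut_F(Z(S))`
-/

set_option autoImplicit false

namespace Cfsg.Agent.Helper84

open Cfsg Cfsg.FusionSystem Subgroup
open scoped commutatorElement

theorem exists_mul_add_one_dvd {p : ℕ} [Fact p.Prime] {n : ℕ} (hn : ¬ p ∣ n) :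
    ∃ k : ℕ, p ∣ n * k + 1 := by
  have hn0 : (n : ZMod p) ≠ 0 := fun h => hn ((ZMod.natCast_eq_zero_iff n p).mp h)
  refine ⟨(-(n : ZMod p)⁻¹).val, ?_⟩
  rw [← ZMod.natCast_eq_zero_iff]
  push_cast
  rw [ZMod.natCast_zmod_val, mul_neg, mul_inv_cancel₀ hn0]
  ring

/-- The `SL₂`-computation: two "transvections" generate an element inverting `e`. -/
theorem sl2_invert {Q : Type*} [Group Q] {p : ℕ} (u v : MulAut Q) (e y : Q) (c j k : ℕ)
    (hey : e * y = y * e)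
    (hue : u e = e) (huy : u y = e ^ c * y) (hvy : v y = y) (hve : v e = y ^ j * e)
    (hep : e ^ p = 1) (hyp : y ^ p = 1) (hk : p ∣ c * j * k + 1) :
    ((u * v ^ k * u) ^ 2) e = e⁻¹ := by
  have hc : Commute e y := hey
  obtain ⟨m, hm⟩ := hk
  have he1 : e ^ (c * j * k + 1) = 1 := by rw [hm, pow_mul, hep, one_pow]
  have hy1 : y ^ (c * j * k + 1) = 1 := by rw [hm, pow_mul, hyp, one_pow]
  have hvk_y : ∀ n : ℕ, (v ^ n) y = y := by
    intro n
    induction n with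
    | zero => rfl
    | succ n ih => rw [pow_succ', MulAut.mul_apply, ih, hvy]
  have hvk_e : ∀ n : ℕ, (v ^ n) e = y ^ (j * n) * e := by
    intro n
    induction n with
    | zero => simp
    | succ n ih =>
      rw [pow_succ', MulAut.mul_apply, ih, map_mul, map_pow, hvy, hve, ← mul_assoc, ← pow_add,
        Nat.mul_succ]
  have hcn : c * (j * k) + 1 = c * j * k + 1 := by ring
  have hnc : j * k * c + 1 = c * j * k + 1 := by ring
  have h1 : (u * v ^ k * u) e = y ^ (j * k) := by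
    have s1 : (u * v ^ k * u) e = u ((v ^ k) (u e)) := rfl
    rw [s1, hue, hvk_e, map_mul, map_pow, hue, huy, (hc.pow_left c).mul_pow, ← pow_mul,
      mul_assoc, ← (hc.pow_right (j * k)).eq, ← mul_assoc, ← pow_succ, hcn, he1, one_mul]
  have h2 : (u * v ^ k * u) y = e ^ c := by
    have s2 : (u * v ^ k * u) y = u ((v ^ k) (u y)) := rfl
    rw [s2, huy, map_mul, map_pow, hvk_e, hvk_y, (hc.symm.pow_left (j * k)).mul_pow, ← pow_mul,
      mul_assoc, (hc.pow_left c).eq, ← mul_assoc, ← pow_succ, hnc, hy1, one_mul, map_pow, hue]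
  have s3 : ((u * v ^ k * u) ^ 2) e = (u * v ^ k * u) ((u * v ^ k * u) e) := by
    rw [pow_two]; rfl
  rw [s3, h1, map_pow, h2, ← pow_mul]
  apply eq_inv_of_mul_eq_one_left
  rw [← pow_succ, hcn, he1]

variable {Ω : Type*} [Group Ω] {S : Subgroup Ω}

/-- Restriction of an automorphism of the system to an invariant subgroup. -/
theorem exists_restrict_aut (F : FusionSystem S) {P Q : Subgroup Ω} [Finite Q] (hP : P ≤ S)
    (hQP : Q ≤ P) {α : MulAut P} (hα : α ∈ F.autGroup P)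
    (hQ : ∀ z : P, (z : Ω) ∈ Q → ((α z : P) : Ω) ∈ Q) :
    ∃ β ∈ F.autGroup Q, ∀ z : Q, ((β z : Q) : Ω) = ((α ⟨z, hQP z.2⟩ : P) : Ω) := by
  let f : Q →* Q :=
    { toFun := fun z => ⟨((α ⟨z, hQP z.2⟩ : P) : Ω), hQ _ z.2⟩
      map_one' := by
        apply Subtype.ext
        have : (⟨((1 : Q) : Ω), hQP (1 : Q).2⟩ : P) = 1 := rfl
        show ((α ⟨((1 : Q) : Ω), hQP (1 : Q).2⟩ : P) : Ω) = 1
        rw [this, map_one]; rfl
      map_mul' := fun a b => by
        apply Subtype.ext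
        have : (⟨((a * b : Q) : Ω), hQP (a * b).2⟩ : P) = ⟨a, hQP a.2⟩ * ⟨b, hQP b.2⟩ := rfl
        show ((α ⟨((a * b : Q) : Ω), hQP (a * b).2⟩ : P) : Ω) =
          ((α ⟨a, hQP a.2⟩ : P) : Ω) * ((α ⟨b, hQP b.2⟩ : P) : Ω)
        rw [this, map_mul]; rfl }
  have hinj : Function.Injective f := by
    intro a b hab
    have h1 : ((α ⟨a, hQP a.2⟩ : P) : Ω) = ((α ⟨b, hQP b.2⟩ : P) : Ω) :=
      congrArg (fun t : Q => (t : Ω)) hab
    have h2 : (⟨(a : Ω), hQP a.2⟩ : P) = ⟨(b : Ω), hQP b.2⟩ := α.injective (Subtype.ext h1)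
    exact Subtype.ext (congrArg (fun t : P => (t : Ω)) h2)
  have hbij : Function.Bijective f := ⟨hinj, Finite.injective_iff_surjective.mp hinj⟩
  refine ⟨MulEquiv.ofBijective f hbij, ?_, fun z => rfl⟩
  rw [mem_autGroup_iff F (hQP.trans hP)]
  exact hom_of_restrict F (autGroup_hom F hP hα) hQP (fun z => rfl)

/-- A map of the system from `P` into `P` is an automorphism of the system. -/
theorem exists_aut_of_hom (F : FusionSystem S) {P : Subgroup Ω} [Finite P] (hP : P ≤ S)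
    {φ : P →* Ω} (hφ : φ ∈ F.Hom P) (hφP : ∀ x : P, φ x ∈ P) :
    ∃ α ∈ F.autGroup P, ∀ x : P, ((α x : P) : Ω) = φ x := by
  have hinj : Function.Injective (φ.codRestrict P hφP) :=
    fun a b hab => F.injective_of_mem hφ (congrArg Subtype.val hab)
  have hbij : Function.Bijective (φ.codRestrict P hφP) :=
    ⟨hinj, Finite.injective_iff_surjective.mp hinj⟩
  refine ⟨MulEquiv.ofBijective (φ.codRestrict P hφP) hbij, ?_, fun x => rfl⟩
  rw [mem_autGroup_iff F hP]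
  exact hom_of_eq F hφ (fun x => rfl)

/-- A subgroup of `Aut(P)` preserving `K` elementwise maps `K` onto `K`. -/
theorem map_eq_of_forall_mem {P : Type*} [Group P] (G : Subgroup (MulAut P)) (K : Subgroup P)
    (h : ∀ α ∈ G, ∀ w ∈ K, α w ∈ K) {α : MulAut P} (hα : α ∈ G) : K.map α.toMonoidHom = K := by
  ext y
  constructor
  · rintro ⟨w, hw, rfl⟩
    exact h α hα w hw
  · intro hy
    exact ⟨α⁻¹ y, h α⁻¹ (G.inv_mem hα) y hy, by simp⟩

/-! ### The centre of `S` in a saturated fusion system -/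

theorem zS_le_S : zS S ≤ S := inf_le_left

theorem mem_normalizer_zS {s : Ω} (hs : s ∈ S) : s ∈ Subgroup.normalizer ((zS S : Subgroup Ω) : Set Ω) := by
  rw [Subgroup.mem_normalizer_iff]
  intro z
  refine ⟨fun hz => zS_conj hs hz, fun hz => ?_⟩
  have := zS_conj (S.inv_mem hs) hz
  have e : s⁻¹ * (s * z * s⁻¹) * s⁻¹⁻¹ = z := by group
  rwa [e] at this

theorem zS_fullyNormalized [Finite S] (F : FusionSystem S) : F.IsFullyNormalized (zS S) := by
  refine ⟨zS_le_S, fun Q _ => ?_⟩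
  have h1 : normalizerIn S (zS S) = S :=
    le_antisymm (normalizerIn_le_S S _) (fun s hs => ⟨hs, mem_normalizer_zS hs⟩)
  rw [h1]
  exact Subgroup.card_le_of_le (normalizerIn_le_S S Q)

theorem autInducedBy_zS : autInducedBy S (zS S) = ⊥ := by
  rw [eq_bot_iff]
  intro α hα
  obtain ⟨s, hs, hsα⟩ := (mem_autInducedBy_iff S (zS S) α).mp hα
  rw [Subgroup.mem_bot]
  ext z
  rw [hsα z]
  show s * (z : Ω) * s⁻¹ = z
  rw [(mem_zS.mp z.2).2 s hs]; group

section Sat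

variable [Finite S] {p : ℕ} [Fact p.Prime]

/-- `Aut_F(Z(S))` is a `p'`-group. -/
theorem autGroup_zS_pow (hS : IsPGroup p S) (F : FusionSystem S) (hF : F.IsSaturated p)
    {δ : MulAut (zS S)} (hδ : δ ∈ F.autGroup (zS S)) (hp : δ ^ p = 1) : δ = 1 := by
  have : Finite (zS S) := finite_of_le zS_le_S
  obtain ⟨-, R, hR⟩ := (saturated_fullyNormalized hS F hF (zS_fullyNormalized F)).1
  rw [autInducedBy_zS, Subgroup.bot_subgroupOf] at hR
  by_contra hne
  have hord : orderOf (⟨δ, hδ⟩ : F.autGroup (zS S)) = p :=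
    orderOf_eq_prime (Subtype.ext hp) (fun h => hne (congrArg Subtype.val h))
  have hdvd : p ∣ Nat.card (F.autGroup (zS S)) := by
    rw [← hord]; exact _root_.orderOf_dvd_natCard _
  exact Sylow.ne_bot_of_dvd_card R hdvd hR

/-- Every element of `Aut_F(Z(S))` extends to an element of `Aut_F(S)`. -/
theorem exists_extend_zS (hS : IsPGroup p S) (F : FusionSystem S) (hF : F.IsSaturated p)
    {β : MulAut (zS S)} (hβ : β ∈ F.autGroup (zS S)) :
    ∃ α ∈ F.autGroup S, ∀ (z : S) (hz : (z : Ω) ∈ zS S),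
      ((α z : S) : Ω) = ((β ⟨z, hz⟩ : zS S) : Ω) := by
  have hrec := (saturated_fullyNormalized hS F hF (zS_fullyNormalized F)).2
  have hφ := autGroup_hom F zS_le_S hβ
  obtain ⟨ψ, hψ, hψφ⟩ := hrec.2 (zS S) _ hφ (range_subtype_comp_aut (zS S) β)
  have hext : extender S (zS S) ((zS S).subtype.comp β.toMonoidHom) = S := by
    apply le_antisymm (extender_le_S _ _ _)
    intro s hs
    rw [mem_extender_iff]
    refine ⟨hs, mem_normalizer_zS hs, 1, S.one_mem, fun x hx => ?_⟩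
    have : (⟨s * (x : Ω) * s⁻¹, hx⟩ : zS S) = x := by
      apply Subtype.ext
      show s * (x : Ω) * s⁻¹ = x
      rw [(mem_zS.mp x.2).2 s hs]; group
    rw [this]; simp
  have hψ' : ψ.comp (Subgroup.inclusion hext.ge) ∈ F.Hom S :=
    hom_of_eq_source F hψ hext.symm (fun x => rfl)
  obtain ⟨α, hα, hαφ⟩ := exists_aut_of_hom F le_rfl hψ' (fun x => hom_mem F hψ' x)
  refine ⟨α, hα, fun z hz => ?_⟩
  rw [hαφ]
  exact hψφ z hz _

/-- `Aut_F(Z(S))` preserves `Z(S) ∩ [S, S]`. -/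
theorem aut_zS_dS (hS : IsPGroup p S) (F : FusionSystem S) (hF : F.IsSaturated p)
    {β : MulAut (zS S)} (hβ : β ∈ F.autGroup (zS S)) {z : zS S} (hz : (z : Ω) ∈ dS S) :
    ((β z : zS S) : Ω) ∈ dS S := by
  obtain ⟨α, hα, hαβ⟩ := exists_extend_zS hS F hF hβ
  obtain ⟨w, hw, hwz⟩ := hz
  have hchar : (commutator ↥S).Characteristic := inferInstance
  have h1 : α w ∈ commutator ↥S := by
    have h3 := hchar.fixed α
    rw [← h3] at hw
    exact hw
  have hwz' : (w : Ω) ∈ zS S := by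
    have : (w : Ω) = z := hwz
    rw [this]; exact z.2
  have h2 := hαβ w hwz'
  have e : (⟨(w : Ω), hwz'⟩ : zS S) = z := Subtype.ext hwz
  rw [e] at h2
  rw [← h2]
  exact ⟨α w, h1, rfl⟩

/-- The "inverting" automorphisms of `Z(S)`: trivial modulo `Z(S) ∩ [S, S]` and inverting
`Z(S) ∩ [S, S]`. -/
def IsInvAut (θ : MulAut ↥(zS S)) : Prop :=
  (∀ z : zS S, ((θ z : zS S) : Ω) * (z : Ω)⁻¹ ∈ dS S) ∧ (∀ z : zS S, (z : Ω) ∈ dS S → θ z = z⁻¹)

theorem isInvAut_mul_eq_one (hS : IsPGroup p S) (F : FusionSystem S) (hF : F.IsSaturated p)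
    (hNp : ∀ n : Ω, n ∈ zS S → n ∈ dS S → n ^ p = 1)
    {θ θ' : MulAut (zS S)} (hθ : θ ∈ F.autGroup (zS S)) (hθ' : θ' ∈ F.autGroup (zS S))
    (h : IsInvAut θ) (h' : IsInvAut θ') : θ * θ' = 1 := by
  apply autGroup_zS_pow hS F hF (Subgroup.mul_mem _ hθ hθ')
  have hfix : ∀ z ∈ (dS S).subgroupOf (zS S), (θ * θ') z = z := by
    intro z hz
    rw [Subgroup.mem_subgroupOf] at hz
    show θ (θ' z) = z
    rw [h'.2 z hz, h.2 z⁻¹ ((dS S).inv_mem hz), inv_inv]
  have hmod : ∀ z ∈ (⊤ : Subgroup (zS S)), (θ * θ') z * z⁻¹ ∈ (dS S).subgroupOf (zS S) := by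
    intro z _
    rw [Subgroup.mem_subgroupOf]
    have e : (((θ * θ') z * z⁻¹ : zS S) : Ω) =
        (((θ (θ' z) : zS S) : Ω) * ((θ' z : zS S) : Ω)⁻¹) * (((θ' z : zS S) : Ω) * (z : Ω)⁻¹) := by
      show ((θ (θ' z) : zS S) : Ω) * (z : Ω)⁻¹ = _
      group
    rw [e]
    exact (dS S).mul_mem (h.1 (θ' z)) (h'.1 z)
  ext z
  rw [stab_pow_apply _ ⊤ (θ * θ') hfix hmod p z (Subgroup.mem_top z)]
  have h1 : ((θ * θ') z * z⁻¹) ^ p = 1 := by
    apply Subtype.ext
    rw [Subgroup.coe_pow]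
    exact hNp _ ((θ * θ') z * z⁻¹).2 (Subgroup.mem_subgroupOf.mp (hmod z (Subgroup.mem_top z)))
  rw [h1, one_mul]; rfl

/-- Uniqueness of the inverting automorphism. -/
theorem isInvAut_unique (hS : IsPGroup p S) (F : FusionSystem S) (hF : F.IsSaturated p)
    (hNp : ∀ n : Ω, n ∈ zS S → n ∈ dS S → n ^ p = 1)
    {θ θ' : MulAut (zS S)} (hθ : θ ∈ F.autGroup (zS S)) (hθ' : θ' ∈ F.autGroup (zS S))
    (h : IsInvAut θ) (h' : IsInvAut θ') : θ = θ' := by
  have h1 := isInvAut_mul_eq_one hS F hF hNp hθ hθ' h h'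
  have h2 := isInvAut_mul_eq_one hS F hF hNp hθ hθ h h
  have h3 : θ' = θ⁻¹ := (eq_inv_of_mul_eq_one_right h1)
  have h4 : θ = θ⁻¹ := (eq_inv_of_mul_eq_one_right h2)
  rw [h3, ← h4]

/-- Every element of `Aut_F(Z(S))` preserves the fixed points of the inverting automorphism. -/
theorem isInvAut_fix (hS : IsPGroup p S) (F : FusionSystem S) (hF : F.IsSaturated p)
    (hNp : ∀ n : Ω, n ∈ zS S → n ∈ dS S → n ^ p = 1)
    {θ β : MulAut (zS S)} (hθ : θ ∈ F.autGroup (zS S)) (hβ : β ∈ F.autGroup (zS S))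
    (h : IsInvAut θ) {z : zS S} (hz : θ z = z) : θ (β z) = β z := by
  have hβi : β⁻¹ ∈ F.autGroup (zS S) := Subgroup.inv_mem _ hβ
  have hconj : IsInvAut (β * θ * β⁻¹) := by
    constructor
    · intro w
      have h1 := h.1 (β⁻¹ w)
      have h2 := aut_zS_dS hS F hF hβ (z := θ (β⁻¹ w) * (β⁻¹ w)⁻¹) h1
      have e : β (θ (β⁻¹ w) * (β⁻¹ w)⁻¹) = (β * θ * β⁻¹) w * w⁻¹ := by
        rw [map_mul, map_inv]
        show β (θ (β⁻¹ w)) * (β (β⁻¹ w))⁻¹ = β (θ (β⁻¹ w)) * w⁻¹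
        simp
      rw [e] at h2
      exact h2
    · intro w hw
      have h1 := aut_zS_dS hS F hF hβi hw
      show β (θ (β⁻¹ w)) = w⁻¹
      rw [h.2 _ h1, map_inv]
      simp
  have heq := isInvAut_unique hS F hF hNp
    (Subgroup.mul_mem _ (Subgroup.mul_mem _ hβ hθ) hβi) hθ hconj h
  have h1 : (β * θ * β⁻¹) (β z) = β z := by
    show β (θ (β⁻¹ (β z))) = β z
    have : β⁻¹ (β z) = z := by simp
    rw [this, hz]
  rw [heq] at h1
  exact h1

end Sat

end Cfsg.Agent.Helper84
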