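/-
helper84: CALL S1351C (helper49) piece ME.
-/
import Cfsg.Agent.Helper49.BGCDefs2
import Cfsg.Agent.Helper24.BG13V
import Cfsg.Agent.Helper22.BG12a
import Cfsg.Agent.Helper22.BG10b
import Cfsg.Agent.S1403

set_option autoImplicit false

namespace Cfsg.Agent.Helper84

open Cfsg Subgroup

universe u

variable {G : Type u} [Group G] [Finite G]

/-- ME. Primes of `|E|` are outside `σ(M)` and of rank one in `M` (`τ₂(M) = ∅`). -/
theorem starc_E_primes (hG : IsMinSimpleOddOrder G) {M E P : Subgroup G} {p : ℕ}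
    (c : Cfsg.Agent.Helper49.StarCtx M E P p) :
    ∀ q : ℕ, q.Prime → q ∣ Nat.card E → q ∉ sigma M ∧ PRankLE q 1 ↥M := by
  intro q hq hqE
  have hU : Cfsg.Agent.Helper22.BGUniq G :=
    fun K hK h1 h2 => Cfsg.Agent.S1403.result hG K hK h1 h2
  have hqσ : q ∉ sigma M :=
    Cfsg.Agent.Helper22.bg12_not_sigma_of_dvd hG hU c.coatom c.compl hq hqE
  have hq2' : PRankLE q 2 ↥M :=
    Cfsg.Agent.Helper22.bg10_pRank_of_not_alpha M q hq
      (fun h => hqσ (Cfsg.Agent.Helper22.bg10_alpha_sub_sigma hG hU c.coatom h))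
  refine ⟨hqσ, ?_⟩
  by_contra h
  have hmem : q ∈ tau2 M := ⟨hq, hqσ, hq2', h⟩
  rw [c.tau2] at hmem
  exact hmem

end Cfsg.Agent.Helper84
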