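/-
helper84: CALL S1351C (helper49) piece MP.
-/
import Cfsg.Agent.Helper49.BGCDefs2
import Cfsg.Agent.Helper24.BG13V
import Cfsg.Agent.S1426

set_option autoImplicit false

namespace Cfsg.Agent.Helper84

open Cfsg Subgroup

universe u

variable {G : Type u} [Group G] [Finite G]

/-- MP. `M_σ` is not contained in `W`. -/
theorem starc_proper_M (hG : IsMinSimpleOddOrder G) {M E P : Subgroup G} {p : ℕ}
    (c : Cfsg.Agent.Helper49.StarCtx M E P p)
    (hmem : ∀ w : G, w ∈ Cfsg.Agent.Helper49.starW M E ↔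
      ∃ z ∈ Cfsg.Agent.Helper49.starZ M E, ∃ e ∈ E, w = z * e)
    (hZne : Cfsg.Agent.Helper49.starZ M E ≠ ⊥) :
    ¬ sigmaCore M ≤ Cfsg.Agent.Helper49.starW M E := by
  intro hle
  have hZσ : Cfsg.Agent.Helper49.starZ M E ≤ sigmaCore M := inf_le_left
  have hcent : sigmaCore M ≤ centralizer (E : Set G) := by
    intro d hd
    obtain ⟨z, hz, e, he, rfl⟩ := (hmem d).mp (hle hd)
    have heσ : e ∈ sigmaCore M := by
      have h3 : e = z⁻¹ * (z * e) := by group
      rw [h3]
      exact (sigmaCore M).mul_mem ((sigmaCore M).inv_mem (hZσ hz)) hd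
    have he1 : e = 1 := by
      have : e ∈ E ⊓ sigmaCore M := ⟨he, heσ⟩
      rw [c.compl.2.2.1] at this
      exact Subgroup.mem_bot.mp this
    rw [he1, mul_one]
    exact (show Cfsg.Agent.Helper49.starZ M E ≤ centralizer (E : Set G) from inf_le_right) hz
  have h26 : ⁅sigmaCore M, E⁆ = sigmaCore M := (Cfsg.Agent.S1426.result hG M c.coatom E c.compl).2.1
  have hbot : ⁅sigmaCore M, E⁆ = ⊥ := Subgroup.commutator_eq_bot_iff_le_centralizer.mpr hcent
  apply hZne
  rw [eq_bot_iff]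
  rw [← hbot, h26]
  exact hZσ

end Cfsg.Agent.Helper84
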