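/-
helper84: CALL S1351C (helper49) piece MS.
-/
import Cfsg.Agent.Helper49.BGCDefs2
import Cfsg.Agent.Helper24.BG13V

set_option autoImplicit false

namespace Cfsg.Agent.Helper84

open Cfsg Subgroup

universe u

variable {G : Type u} [Group G] [Finite G]

/-- MS. `M = M_σ W`. -/
theorem starc_sup_M {M E P : Subgroup G} {p : ℕ} (c : Cfsg.Agent.Helper49.StarCtx M E P p) :
    ∀ m ∈ M, ∃ n ∈ sigmaCore M, ∃ w ∈ Cfsg.Agent.Helper49.starW M E, m = n * w := by
  intro m hm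
  obtain ⟨a, ha, b, hb, rfl⟩ := c.compl.2.2.2 m hm
  have hN : M ≤ normalizer ((sigmaCore M : Subgroup G) : Set G) :=
    Cfsg.Agent.Helper23.le_normalizer_piCoreOf (sigma M) M
  have haN := hN (c.compl.1 ha)
  refine ⟨a * b * a⁻¹, ?_, a, ?_, by group⟩
  · exact (Subgroup.mem_normalizer_iff.mp haN b).mp hb
  · exact (le_sup_right : E ≤ Cfsg.Agent.Helper49.starZ M E ⊔ E) ha

end Cfsg.Agent.Helper84
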