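import Mathlib
import Cfsg.Agent.Helper94.ULag
import Cfsg.Agent.Helper94.USub
import Cfsg.Agent.Helper94.UK
import Cfsg.Agent.Helper97.UNot
import Cfsg.Agent.Helper5.UnitSU
import Cfsg.Agent.Helper84.BUHyp

/-!
# Piece TGU of CALL S5984 (helper84): the isometry group is transitive on pairs of complementary
totally singular subspaces with hyperbolic bases of the same size.
-/

set_option autoImplicit false
open Cfsg Cfsg.Geo Matrix
open Cfsg.Agent.Helper94
open scoped MatrixGroups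

namespace Cfsg.Agent.Helper84

universe u

variable {F : Type u} [Field F] {ι : Type} [Fintype ι] [DecidableEq ι]
variable {σ : F ≃+* F} {f : (ι → F) → (ι → F) → F}

/-- TGU -/
theorem bu_trans_gu (h : UF σ f) {A B A' B' : Submodule F (ι → F)} (p : ULagPair f A B)
    (p' : ULagPair f A' B') {m : ℕ} (a b a' b' : Fin m → ι → F)
    (ha : ∀ i, a i ∈ A) (hb : ∀ i, b i ∈ B)
    (hab : ∀ i j, f (a i) (b j) = if i = j then 1 else 0)
    (hA : ∀ v ∈ A, v = ∑ i, f v (b i) • a i) (hB : ∀ v ∈ B, v = ∑ i, f v (a i) • b i)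
    (ha' : ∀ i, a' i ∈ A') (hb' : ∀ i, b' i ∈ B')
    (hab' : ∀ i j, f (a' i) (b' j) = if i = j then 1 else 0) :
    ∃ g : GL ι F, g ∈ isoGL f ∧ (∀ v ∈ A, (g : Matrix ι ι F) *ᵥ v ∈ A') ∧
      (∀ v ∈ B, (g : Matrix ι ι F) *ᵥ v ∈ B') := by
  have hTv : ∀ v, buLL h a b a' b' 1 1 v = ∑ i, f v (b i) • a' i + ∑ i, f v (a i) • b' i := by
    intro v
    rw [buLL_apply]
    simp only [Matrix.one_mulVec]
  have hiso : ∀ v w, f (buLL h a b a' b' 1 1 v) (buLL h a b a' b' 1 1 w) = f v w := by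
    intro v w
    rw [hTv, hTv, buh_form h p' a' b' ha' hb' hab']
    conv_rhs => rw [buh_expand h p a b hA hB hb ha v, buh_expand h p a b hA hB hb ha w]
    rw [buh_form h p a b ha hb hab]
  have hinj : Function.Injective (buLL h a b a' b' 1 1) := by
    rw [← LinearMap.ker_eq_bot, LinearMap.ker_eq_bot']
    intro v hv
    by_contra hv0
    obtain ⟨x, hx⟩ := h.nondeg v hv0
    apply hx
    rw [← hiso, hv, h.zero_right]
  obtain ⟨g, hg⟩ := Cfsg.Agent.Helper5.exists_GL_of_linearEquiv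
    (LinearEquiv.ofInjectiveEndo (buLL h a b a' b' 1 1) hinj)
  have hg' : ∀ x, (g : Matrix ι ι F) *ᵥ x = buLL h a b a' b' 1 1 x := by
    intro x
    rw [hg]
    rfl
  refine ⟨g, mem_isoGL.mpr (fun x y => by rw [hg', hg', hiso]), ?_, ?_⟩
  · intro v hv
    rw [hg', hTv]
    have h0 : ∀ i, f v (a i) = 0 := fun i => p.isoA v hv _ (ha i)
    simp only [h0, zero_smul, Finset.sum_const_zero, add_zero]
    exact Submodule.sum_mem _ (fun i _ => A'.smul_mem _ (ha' i))
  · intro v hv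
    rw [hg', hTv]
    have h0 : ∀ i, f v (b i) = 0 := fun i => p.isoB v hv _ (hb i)
    simp only [h0, zero_smul, Finset.sum_const_zero, zero_add]
    exact Submodule.sum_mem _ (fun i _ => B'.smul_mem _ (hb' i))

end Cfsg.Agent.Helper84
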