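import Cfsg.Agent.Helper84.TraceCompl
import Cfsg.Agent.Helper84.ThompsonFusion
import Cfsg.Agent.Helper50.CDP
import Cfsg.Agent.Helper86.NormInd
import Cfsg.Agent.Helper87.Base
import Cfsg.Agent.Helper88.FusionCenter

/-!
# The centre of a fusion system as a direct factor of `Z(S)` (helper84)

If the centre of the normalizer system of `J(S)` is the centre of `F`, then `Z(F)` has a complement in `Z(S)`:
`Z(J(S))` is an abelian subgroup containing `Z(S)`, carried to itself by the maps of `N_F(J(S))`, and the trace map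
over the cosets of `Aut_S(Z(J(S)))` in `Aut_F(Z(J(S)))` splits the fixed points.
-/

set_option autoImplicit false

namespace Cfsg.Agent.Helper84

open Cfsg Cfsg.FusionSystem

universe u

section CenterFactor

variable {Ω : Type u} [Group Ω] {S : Subgroup Ω}

/-- `Z(S) ≤ Z(J(S))`. -/
theorem center_le_centerThompsonAOf [Finite S] :
    S ⊓ Subgroup.centralizer (S : Set Ω) ≤ centerThompsonAOf S := by
  intro z hz
  obtain ⟨A, hA⟩ := Helper50.exists_mem_maxAbelianSubgroups (S := ↥S)
  have hcA := Helper50.centralizer_eq_of_mem_maxAbelianSubgroups hA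
  have h1 : (⟨z, hz.1⟩ : S) ∈ Subgroup.centralizer (A : Set ↥S) := by
    rw [Subgroup.mem_centralizer_iff]
    intro a _
    exact Subtype.ext (Subgroup.mem_centralizer_iff.1 hz.2 a a.2)
  rw [hcA] at h1
  have h2 : (⟨z, hz.1⟩ : S) ∈ thompsonSubgroupA ↥S := (le_sSup hA : A ≤ thompsonSubgroupA ↥S) h1
  exact ⟨(mem_thompsonSubgroupAOf_iff S z).2 ⟨hz.1, h2⟩,
    Subgroup.centralizer_le (SetLike.coe_subset_coe.2 (thompsonSubgroupAOf_le S)) hz.2⟩

/-- A map carrying `J(S)` onto itself carries `Z(J(S))` into itself. -/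
theorem centerThompsonAOf_map_mem {V : Subgroup Ω} {ψ : V →* Ω}
    (hψ : ((thompsonSubgroupAOf S).subgroupOf V).map ψ = thompsonSubgroupAOf S) (x : V)
    (hx : (x : Ω) ∈ centerThompsonAOf S) : ψ x ∈ centerThompsonAOf S := by
  refine ⟨?_, ?_⟩
  · exact (le_of_eq hψ) ⟨x, Subgroup.mem_subgroupOf.2 hx.1, rfl⟩
  · show ψ x ∈ Subgroup.centralizer (thompsonSubgroupAOf S : Set Ω)
    rw [Subgroup.mem_centralizer_iff]
    intro j hj
    obtain ⟨j', hj', rfl⟩ := (le_of_eq hψ.symm) hj
    have h1 := Subgroup.mem_centralizer_iff.1 hx.2 (j' : Ω) (Subgroup.mem_subgroupOf.1 hj')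
    rw [← map_mul, ← map_mul]
    congr 1
    exact Subtype.ext h1

/-- If `Z(N_F(J(S))) = Z(F)` then `Z(F)` is a direct factor of `Z(S)`. -/
theorem center_direct_factor [Finite S] (p : ℕ) [Fact p.Prime] (hS : IsPGroup p S) (F : FusionSystem S)
    (hF : F.IsSaturated p) (N : FusionSystem (normalizerIn S (thompsonSubgroupAOf S)))
    (hN : F.IsNormalizerSystem (thompsonSubgroupAOf S) N) (hNF : N.center = F.center) :
    ∃ K : Subgroup Ω, K ≤ S ⊓ Subgroup.centralizer (S : Set Ω) ∧ F.center ⊓ K = ⊥ ∧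
      F.center ⊔ K = S ⊓ Subgroup.centralizer (S : Set Ω) := by
  classical
  have hWS : centerThompsonAOf S ≤ S := Helper11.centerThompsonAOf_le S
  have hJS : thompsonSubgroupAOf S ≤ S := thompsonSubgroupAOf_le S
  have hWJ : centerThompsonAOf S ≤ thompsonSubgroupAOf S := inf_le_left
  have hZW : S ⊓ Subgroup.centralizer (S : Set Ω) ≤ centerThompsonAOf S := center_le_centerThompsonAOf
  have hWnorm : S ≤ Subgroup.normalizer (centerThompsonAOf S : Set Ω) :=
    fun s hs => normalizer_le_normalizer_zj S (Subgroup.le_normalizer hs)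
  have hJnorm : S ≤ Subgroup.normalizer (thompsonSubgroupAOf S : Set Ω) :=
    fun s hs => normalizer_le_normalizer_j S (Subgroup.le_normalizer hs)
  have hfW : Finite ↥(centerThompsonAOf S) := finite_of_le hWS
  have hWp : IsPGroup p ↥(centerThompsonAOf S) := hS.to_le hWS
  have hcomm : ∀ a b : ↥(centerThompsonAOf S), a * b = b * a :=
    fun a b => Subtype.ext (Subgroup.mem_centralizer_iff.1 b.2.2 a a.2.1)
  have hWfn : F.IsFullyNormalized (centerThompsonAOf S) :=
    Helper86.fullyNormalized_of_le_normalizer F hWS hWnorm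
  obtain ⟨⟨-, R, hR⟩, -⟩ := saturated_fullyNormalized hS F hF hWfn
  have hidx : ¬ p ∣ ((autInducedBy S (centerThompsonAOf S)).subgroupOf
      (F.autGroup (centerThompsonAOf S))).index := by
    rw [← hR]; exact R.not_dvd_index
  obtain ⟨K', hK1, hK2, hK3⟩ := exists_compl_fixed' p hcomm hWp (F.autGroup (centerThompsonAOf S))
    (autInducedBy S (centerThompsonAOf S)) (autInducedBy_le_autGroup F hWS) hidx
  -- central elements of `S` are fixed by `Aut_S(W)`
  have ha : ∀ (z : Ω) (hz : z ∈ S ⊓ Subgroup.centralizer (S : Set Ω)),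
      ∀ a ∈ autInducedBy S (centerThompsonAOf S), a ⟨z, hZW hz⟩ = ⟨z, hZW hz⟩ := by
    intro z hz a ha
    obtain ⟨g, hg, hga⟩ := (mem_autInducedBy_iff S _ a).1 ha
    apply Subtype.ext
    rw [hga]
    have h1 := Subgroup.mem_centralizer_iff.1 hz.2 g hg
    show g * z * g⁻¹ = z
    rw [h1]; group
  -- elements fixed by `Aut_S(W)` are central in `S`
  have hb : ∀ w : ↥(centerThompsonAOf S), (∀ a ∈ autInducedBy S (centerThompsonAOf S), a w = w) →
      (w : Ω) ∈ S ⊓ Subgroup.centralizer (S : Set Ω) := by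
    intro w hw
    refine ⟨hWS w.2, ?_⟩
    show (w : Ω) ∈ Subgroup.centralizer (S : Set Ω)
    rw [Subgroup.mem_centralizer_iff]
    intro s hs
    have h1 := hw _ (conjAut_mem_autInducedBy hs (hWnorm hs))
    have h2 := congrArg Subtype.val h1
    rw [conjAut_apply] at h2
    calc s * (w : Ω) = (s * (w : Ω) * s⁻¹) * s := by group
      _ = (w : Ω) * s := by rw [h2]
  -- central elements of `F` are fixed by `Aut_F(W)`
  have hFc := (central_iff p hS F hF F.center).1 (Helper88.isCentral_center F)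
  have hcenterle : F.center ≤ S ⊓ Subgroup.centralizer (S : Set Ω) := by
    intro z hz
    refine ⟨hFc.1 hz, ?_⟩
    show z ∈ Subgroup.centralizer (S : Set Ω)
    rw [Subgroup.mem_centralizer_iff]
    intro s hs
    have hzS : Subgroup.zpowers z ≤ S := by
      rw [Subgroup.zpowers_le]; exact hFc.1 hz
    have h1 := hFc.2 z hz (s * z * s⁻¹) ⟨conjHom (Subgroup.zpowers z) s, F.conj_mem hzS hs, rfl⟩
    calc s * z = (s * z * s⁻¹) * s := by group
      _ = z * s := by rw [h1]
  have hc : ∀ (z : Ω) (hz : z ∈ F.center), ∀ a ∈ F.autGroup (centerThompsonAOf S),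
      a ⟨z, hZW (hcenterle hz)⟩ = ⟨z, hZW (hcenterle hz)⟩ := by
    intro z hz a ha
    have h1 := autGroup_hom F hWS ha
    have hzW : Subgroup.zpowers z ≤ centerThompsonAOf S := by
      rw [Subgroup.zpowers_le]; exact hZW (hcenterle hz)
    have h2 : ((centerThompsonAOf S).subtype.comp a.toMonoidHom).comp (Subgroup.inclusion hzW) ∈
        F.Hom (Subgroup.zpowers z) := hom_of_restrict F h1 hzW (fun _ => rfl)
    have h3 := hFc.2 z hz _ ⟨_, h2, rfl⟩
    exact Subtype.ext h3
  -- elements fixed by `Aut_F(W)` are central in `N_F(J(S))`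
  have hSN : IsPGroup p ↥(normalizerIn S (thompsonSubgroupAOf S)) := hS.to_le inf_le_left
  have hfN : Finite ↥(normalizerIn S (thompsonSubgroupAOf S)) := finite_of_le inf_le_left
  have hNsat : N.IsSaturated p :=
    normalizerSystem_saturated p hS F hF _
      (Helper86.fullyNormalized_of_le_normalizer F hJS hJnorm) N hN
  have hd : ∀ w : ↥(centerThompsonAOf S), (∀ a ∈ F.autGroup (centerThompsonAOf S), a w = w) →
      (w : Ω) ∈ N.center := by
    intro w hw
    have hcen : N.IsCentral (Subgroup.zpowers (w : Ω)) := by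
      refine (central_iff p hSN N hNsat _).2 ⟨?_, ?_⟩
      · rw [Subgroup.zpowers_le]
        exact ⟨hWS w.2, hJnorm (hWS w.2)⟩
      · rintro x hx y ⟨φ, hφ, rfl⟩
        rw [hN] at hφ
        obtain ⟨hφF, hPN, hφN, ψ, hψ, hψφ, hψJ⟩ := hφ
        obtain ⟨k, rfl⟩ := Subgroup.mem_zpowers_iff.1 hx
        have hWV : centerThompsonAOf S ≤ Subgroup.zpowers ((w : Ω) ^ k) ⊔ thompsonSubgroupAOf S :=
          hWJ.trans le_sup_right
        have hχ : ψ.comp (Subgroup.inclusion hWV) ∈ F.Hom (centerThompsonAOf S) :=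
          hom_of_restrict F hψ hWV (fun _ => rfl)
        have hχW : ∀ t : ↥(centerThompsonAOf S), (ψ.comp (Subgroup.inclusion hWV)) t ∈
            centerThompsonAOf S :=
          fun t => centerThompsonAOf_map_mem hψJ (Subgroup.inclusion hWV t) t.2
        have hr := Helper87.range_eq_of_forall_mem F hχ hχW
        have hβ : (isoOfHom _ (F.injective_of_mem hχ) hr : MulAut ↥(centerThompsonAOf S)) ∈
            F.autGroup (centerThompsonAOf S) :=
          (mem_autGroup_iff_isFIso F hWS _).2 (isFIso_isoOfHom F hχ hr)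
        have h1 := hw _ hβ
        have h2 : ψ (Subgroup.inclusion hWV w) = (w : Ω) := congrArg Subtype.val h1
        have h3 : ψ (Subgroup.inclusion hWV (w ^ k)) = (w : Ω) ^ k := by
          rw [map_zpow, map_zpow, h2]
        rw [← hψφ]
        exact h3
    exact (le_sSup hcen : Subgroup.zpowers (w : Ω) ≤ N.center) (Subgroup.mem_zpowers _)
  refine ⟨K'.map (centerThompsonAOf S).subtype, ?_, ?_, ?_⟩
  · rintro _ ⟨k, hk, rfl⟩
    exact hb k (hK1 k hk)
  · rw [eq_bot_iff]
    rintro _ ⟨hxc, k, hk, rfl⟩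
    have h1 := hK2 k hk (fun a ha => hc _ hxc a ha)
    rw [h1]
    exact Subgroup.one_mem _
  · apply le_antisymm
    · refine sup_le hcenterle ?_
      rintro _ ⟨k, hk, rfl⟩
      exact hb k (hK1 k hk)
    · intro x hx
      obtain ⟨y, k, hyA, hk, hxy⟩ := hK3 ⟨x, hZW hx⟩ (ha x hx)
      have h1 : x = (y : Ω) * (k : Ω) := congrArg Subtype.val hxy
      rw [h1]
      refine Subgroup.mul_mem_sup ?_ ⟨k, hk, rfl⟩
      rw [← hNF]
      exact hd y hyA

end CenterFactor

end Cfsg.Agent.Helper84
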