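import Mathlib
import Cfsg.Prelude.Def_FusionSystem
import Cfsg.Prelude.Def_FusionComponents
import Cfsg.Prelude.Def_FusionReduction
import Cfsg.Prelude.Def_PLocal
import Cfsg.Agent.Helper84.ThompsonFusion
import Cfsg.Agent.Helper85.Morph2
import Cfsg.Agent.S5132

set_option autoImplicit false

/-!
# A strengthened Frobenius criterion for fusion systems

If `p` is odd or `F` is `S₄`-free, and `Aut_F(Q)` is a `p`-group for every nontrivial characteristic subgroup `Q` of
`S`, then the saturated fusion system `F` is inner.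
-/

namespace Cfsg.Agent.Helper84

open Cfsg Cfsg.FusionSystem

section CharFacts

variable {Ω : Type*} [Group Ω]

theorem thompsonSubgroupAOf_characteristic (S : Subgroup Ω) :
    ((thompsonSubgroupAOf S).subgroupOf S).Characteristic := by
  have e : (thompsonSubgroupAOf S).subgroupOf S = thompsonSubgroupA S := by
    unfold thompsonSubgroupAOf
    exact Subgroup.comap_map_eq_self_of_injective S.subtype_injective _
  rw [e, Subgroup.characteristic_iff_map_le]
  intro φ
  exact (thompsonSubgroupA_map φ).le

theorem center_subgroupOf_characteristic (S : Subgroup Ω) :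
    ((S ⊓ Subgroup.centralizer (S : Set Ω)).subgroupOf S).Characteristic := by
  have e : (S ⊓ Subgroup.centralizer (S : Set Ω)).subgroupOf S = Subgroup.center S := by
    ext x
    rw [Subgroup.mem_subgroupOf, Subgroup.mem_center_iff]
    constructor
    · intro hx s
      exact Subtype.ext (Subgroup.mem_centralizer_iff.mp hx.2 s s.2)
    · intro hx
      refine ⟨x.2, Subgroup.mem_centralizer_iff.mpr (fun s hs => ?_)⟩
      exact congrArg Subtype.val (hx ⟨s, hs⟩)
  rw [e]
  infer_instance

theorem characteristic_subgroupOf_congr {T S : Subgroup Ω} (h : T = S) {R : Subgroup Ω}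
    (hR : (R.subgroupOf T).Characteristic) : (R.subgroupOf S).Characteristic := by
  subst h
  exact hR

/-- A characteristic subgroup of `S` is normalized by `S`. -/
theorem normalizerIn_eq_of_characteristic {S : Subgroup Ω} [Finite S] {Q : Subgroup Ω} (hQS : Q ≤ S)
    (hQ : (Q.subgroupOf S).Characteristic) : FusionSystem.normalizerIn S Q = S := by
  have hfQ : Finite Q := finite_of_le hQS
  have hn : (Q.subgroupOf S).Normal := inferInstance
  apply inf_eq_left.mpr
  intro s hs
  apply mem_normalizer_of_forall_conj_mem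
  intro a ha
  exact Subgroup.mem_subgroupOf.mp
    (hn.conj_mem ⟨a, hQS ha⟩ (Subgroup.mem_subgroupOf.mpr ha) ⟨s, hs⟩)

/-- The preimage in `T` of a characteristic subgroup of `T / Q`, for `Q` characteristic in `T`, is characteristic. -/
theorem preimage_characteristic_aux {T Q : Subgroup Ω} [hn : (Q.subgroupOf T).Normal]
    (hQ : (Q.subgroupOf T).Characteristic) (Q' : Subgroup (T ⧸ Q.subgroupOf T))
    (hQ' : (Q'.subgroupOf (⊤ : Subgroup (T ⧸ Q.subgroupOf T))).Characteristic) :
    ((preimageAlong (QuotientGroup.mk' (Q.subgroupOf T)) Q').subgroupOf T).Characteristic := by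
  rw [Subgroup.characteristic_iff_map_le]
  intro σ
  have he : (Q.subgroupOf T).map (σ : T →* T) = Q.subgroupOf T :=
    Subgroup.characteristic_iff_map_eq.mp hQ σ
  have hτ := Subgroup.characteristic_iff_map_le.mp hQ'
    (Subgroup.topEquiv.trans
      ((QuotientGroup.congr (Q.subgroupOf T) (Q.subgroupOf T) σ he).trans Subgroup.topEquiv.symm))
  have hσ' : ∀ y ∈ Q', QuotientGroup.congr (Q.subgroupOf T) (Q.subgroupOf T) σ he y ∈ Q' := by
    intro y hy
    have h1 : (⟨y, Subgroup.mem_top y⟩ : (⊤ : Subgroup (T ⧸ Q.subgroupOf T))) ∈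
        Q'.subgroupOf (⊤ : Subgroup (T ⧸ Q.subgroupOf T)) := Subgroup.mem_subgroupOf.mpr hy
    have h2 := hτ ⟨_, h1, rfl⟩
    exact Subgroup.mem_subgroupOf.mp h2
  rintro _ ⟨x, hx, rfl⟩
  have hx1 : (x : Ω) ∈ preimageAlong (QuotientGroup.mk' (Q.subgroupOf T)) Q' :=
    Subgroup.mem_subgroupOf.mp hx
  obtain ⟨hxT, hx'⟩ := (Helper85.mem_preimageAlong _ _ _).mp hx1
  refine Subgroup.mem_subgroupOf.mpr ((Helper85.mem_preimageAlong _ _ _).mpr ⟨(σ x).2, ?_⟩)
  exact hσ' _ hx'

end CharFacts

section FrobChar

universe u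

theorem allP_of_hThompson {Ω : Type u} [Group Ω] {S : Subgroup Ω} [Finite S] (p : ℕ)
    [Fact p.Prime] (hS : IsPGroup p S) (F : FusionSystem S) (hF : F.IsSaturated p)
    (hH : HThompson p Ω S F) : AllP p F :=
  inner_induction p (HThompson p)
    (fun Ω _ S _ hS F hF hH U hUS hT N hN => hThompson_norm hS F hF hH U hUS hT N hN)
    (fun Ω _ S _ hS F hF hH U hU1 hUfn hT N hN hNH =>
      hThompson_chain hS F hF hH U hU1 hUfn hT N hN hNH)
    (fun Ω _ S _ _ F _ hH hSn => hThompson_top F hH hSn)
    (fun Ω _ S _ hS F hF hH Q hQ _ hQtop _ E hE key =>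
      Or.inl (hThompson_quot hS F hF hH Q hQ hQtop E hE key))
    (fun Ω _ S _ hS F hF hH Q hQ hc => hThompson_cons hS F hF hH Q hQ hc)
    (Nat.card S) (Nat.card S) Ω S hS F hF le_rfl
    ⟨⊥, Helper88.isNormal_bot F, Nat.le_add_left _ _⟩ hH

theorem frob_char_main (p : ℕ) [Fact p.Prime] :
    ∀ n : ℕ, ∀ (Ω : Type u) [Group Ω] (S : Subgroup Ω) [Finite S], IsPGroup p S →
      ∀ F : FusionSystem S, F.IsSaturated p → Nat.card S ≤ n →
        (p ≠ 2 ∨ F.IsSectionFree p (Equiv.Perm (Fin 4))) →
        (∀ Q : Subgroup Ω, Q ≤ S → Q ≠ ⊥ → (Q.subgroupOf S).Characteristic →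
          IsPGroup p (F.autGroup Q)) → AllP p F := by
  intro n
  induction n using Nat.strong_induction_on with
  | _ n ihn =>
    intro Ω _ S _ hS F hF hn hp h
    by_cases hS1 : S = ⊥
    · intro Y hY α hα
      refine ⟨0, ?_⟩
      have hsub : Subsingleton Y := by
        refine ⟨fun a b => Subtype.ext ?_⟩
        have ha : (a : Ω) ∈ (⊥ : Subgroup Ω) := hS1 ▸ hY a.2
        have hb : (b : Ω) ∈ (⊥ : Subgroup Ω) := hS1 ▸ hY b.2
        rw [Subgroup.mem_bot.mp ha, Subgroup.mem_bot.mp hb]
      apply MulEquiv.ext
      intro y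
      exact Subsingleton.elim _ _
    · have claim : ∀ Q : Subgroup Ω, Q ≤ S → Q ≠ ⊥ → (Q.subgroupOf S).Characteristic →
          NP p F Q := by
        intro Q hQS hQ1 hQc
        have hT : normalizerIn S Q = S := normalizerIn_eq_of_characteristic hQS hQc
        have hQfn : F.IsFullyNormalized Q := by
          refine ⟨hQS, fun J' _ => ?_⟩
          rw [hT]
          exact Subgroup.card_le_of_le (normalizerIn_le_S S J')
        obtain ⟨N, hN⟩ := exists_normalizerSystem F Q hQS
        have hTS := normalizerIn_le_S S Q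
        have hfT : Finite ↥(normalizerIn S Q) := finite_of_le hTS
        have hTp : IsPGroup p ↥(normalizerIn S Q) := hS.to_le hTS
        have hNsat := normalizerSystem_saturated p hS F hF Q hQfn N hN
        have hQN : N.IsNormal Q := nsys_isNormal F hQS N hN
        have hQT : Q ≤ normalizerIn S Q := le_normalizerIn hQS
        have hQall : ∀ α ∈ N.autGroup Q, ∃ k : ℕ, α ^ p ^ k = 1 := by
          intro α hα
          have hα' : α ∈ F.autGroup Q := nsys_autGroup_le F N hN hQT hα
          obtain ⟨k, hk⟩ := h Q hQS hQ1 hQc ⟨α, hα'⟩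
          refine ⟨k, ?_⟩
          have h1 := congrArg Subtype.val hk
          rw [Subgroup.coe_pow, Subgroup.coe_one] at h1
          exact h1
        apply np_of_nsys_allP F hQS N hN
        have hsc := normal_stronglyClosed N hQN
        have hQn : (Q.subgroupOf (normalizerIn S Q)).Normal := by
          refine ⟨fun q hq s => ?_⟩
          exact Subgroup.mem_subgroupOf.mpr
            (stronglyClosed_conj_mem N hsc s.2 (Subgroup.mem_subgroupOf.mp hq))
        obtain ⟨E, hE⟩ := Cfsg.Agent.S5132.result p hTp N Q hsc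
        have hsm := Cfsg.Agent.S5134.result p hTp N hNsat Q hsc _ E hE
        have hEsat : E.IsSaturated p := Cfsg.Agent.S5133.result p hTp N hNsat E _ hsm
        have hS'p : IsPGroup p
            ↥(⊤ : Subgroup (↥(normalizerIn S Q) ⧸ Q.subgroupOf (normalizerIn S Q))) :=
          (hTp.to_quotient _).to_subgroup ⊤
        have hcard : Nat.card
            ↥(⊤ : Subgroup (↥(normalizerIn S Q) ⧸ Q.subgroupOf (normalizerIn S Q))) * Nat.card Q =
              Nat.card ↥(normalizerIn S Q) := by
          rw [Subgroup.card_top]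
          have h1 := Subgroup.card_eq_card_quotient_mul_card_subgroup
            (Q.subgroupOf (normalizerIn S Q))
          have h2 : Nat.card ↥(Q.subgroupOf (normalizerIn S Q)) = Nat.card Q :=
            Nat.card_congr (Subgroup.subgroupOfEquivOfLe hQT).toEquiv
          rw [h2] at h1
          exact h1.symm
        have hfQ : Finite Q := finite_of_le hQS
        have hQ2 : 1 < Nat.card Q := (Subgroup.one_lt_card_iff_ne_bot Q).mpr hQ1
        have hS'pos : 0 < Nat.card
            ↥(⊤ : Subgroup (↥(normalizerIn S Q) ⧸ Q.subgroupOf (normalizerIn S Q))) := Nat.card_pos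
        have hcT : Nat.card ↥(normalizerIn S Q) ≤ Nat.card S := Subgroup.card_le_of_le hTS
        have hS'lt : Nat.card
            ↥(⊤ : Subgroup (↥(normalizerIn S Q) ⧸ Q.subgroupOf (normalizerIn S Q))) < n := by
          nlinarith
        have hNfree : p ≠ 2 ∨ N.IsSectionFree p (Equiv.Perm (Fin 4)) :=
          hp.imp id (fun hfree => normalizer_sectionFree p hS F hF _ hfree Q hQfn N hN)
        have hEfree : p ≠ 2 ∨ E.IsSectionFree p (Equiv.Perm (Fin 4)) :=
          hNfree.imp id (fun hfree => quotient_sectionFree p hTp N hNsat Q hQN _ hfree _ E hE)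
        have hEall : AllP p E := by
          apply ihn _ hS'lt _ ⊤ hS'p E hEsat le_rfl hEfree
          intro Q' hQ'S' hQ'1 hQ'c
          have hRT : preimageAlong (QuotientGroup.mk' (Q.subgroupOf (normalizerIn S Q))) Q' ≤
              normalizerIn S Q := Helper85.preimageAlong_le _ _
          have hRS := hRT.trans hTS
          have hQR : Q ≤ preimageAlong (QuotientGroup.mk' (Q.subgroupOf (normalizerIn S Q))) Q' := by
            intro q hq
            rw [Helper85.mem_preimageAlong]
            refine ⟨hQT hq, ?_⟩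
            rw [(hE.2.1 ⟨q, hQT hq⟩).2 hq]
            exact Subgroup.one_mem _
          have hR1 : preimageAlong (QuotientGroup.mk' (Q.subgroupOf (normalizerIn S Q))) Q' ≠ ⊥ :=
            fun hb => hQ1 (le_bot_iff.mp (hQR.trans hb.le))
          have hRc : ((preimageAlong (QuotientGroup.mk' (Q.subgroupOf (normalizerIn S Q)))
              Q').subgroupOf S).Characteristic :=
            characteristic_subgroupOf_congr hT
              (preimage_characteristic_aux (characteristic_subgroupOf_congr hT.symm hQc) Q' hQ'c)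
          have hFR := h _ hRS hR1 hRc
          have hNR : IsPGroup p ↥(N.autGroup
              (preimageAlong (QuotientGroup.mk' (Q.subgroupOf (normalizerIn S Q))) Q')) :=
            hFR.to_le (fun α hα => nsys_autGroup_le F N hN hRT hα)
          have hK : preimageAlong (QuotientGroup.mk' (Q.subgroupOf (normalizerIn S Q))) ⊥ ≤
              preimageAlong (QuotientGroup.mk' (Q.subgroupOf (normalizerIn S Q))) Q' :=
            Helper85.preimageAlong_mono _ bot_le
          have h3 := hNR.of_surjective (Helper85.autHom hsm.1 hRT)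
            (Helper85.autHom_surjective hsm hRT hK)
          have himg : imageAlong (QuotientGroup.mk' (Q.subgroupOf (normalizerIn S Q)))
              (preimageAlong (QuotientGroup.mk' (Q.subgroupOf (normalizerIn S Q))) Q') = Q' :=
            Helper85.imageAlong_preimageAlong _ (by rw [hE.2.2.1]; exact hQ'S')
          rw [himg] at h3
          exact h3
        exact allP_of_factor hTp N hNsat hQN _ E hE hEall hQall
      have hNPJ := claim _ (thompsonSubgroupAOf_le S) (thompsonSubgroupAOf_ne_bot S hS hS1)
        (thompsonSubgroupAOf_characteristic S)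
      have hNPZ := claim _ inf_le_left (center_ne_bot S hS hS1) (center_subgroupOf_characteristic S)
      exact allP_of_hThompson p hS F hF ⟨hp, hNPJ, cpz_of_np F hNPZ⟩

/-- **A strengthened Frobenius criterion for fusion systems**. -/
theorem frob_char_fusion {Ω : Type u} [Group Ω] {S : Subgroup Ω} [Finite S] (p : ℕ)
    [Fact p.Prime] (hS : IsPGroup p S) (F : FusionSystem S) (hF : F.IsSaturated p)
    (hp : p ≠ 2 ∨ F.IsSectionFree p (Equiv.Perm (Fin 4)))
    (h : ∀ Q : Subgroup Ω, Q ≤ S → Q ≠ ⊥ → (Q.subgroupOf S).Characteristic →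
      IsPGroup p (F.autGroup Q)) :
    ∀ P : Subgroup Ω, F.Hom P = (innerFusionSystem S).Hom P := by
  have hall := frob_char_main p (Nat.card S) Ω S hS F hF le_rfl hp h
  have heq := eq_inner_of_allP p hS F hF hall
  intro P
  rw [heq]

end FrobChar

end Cfsg.Agent.Helper84
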