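import Mathlib
import Cfsg.Agent.Helper50.HigDefs
import Cfsg.Agent.Helper91.HigR0

set_option autoImplicit false

namespace Cfsg.Agent.Helper84.HigBETACore

open Cfsg.Agent.Helper5 Cfsg.Agent.Helper50.Hig

theorem cSL_cube {K : Type*} [Field K] [CharP K 2] : cSL K * cSL K * cSL K = 1 := by
  have h2 : (1 : K) + 1 = 0 := CharTwo.add_self_eq_zero 1
  apply Subtype.ext
  unfold cSL
  simp only [Matrix.SpecialLinearGroup.coe_mul, uSL_coe, lSL_coe, Matrix.SpecialLinearGroup.coe_one]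
  ext i j
  fin_cases i <;> fin_cases j <;> simp [h2]

theorem conj_cube {K : Type*} [Field K] [CharP K 2] (g : SL2 K) :
    (g * cSL K * g⁻¹) * (g * cSL K * g⁻¹) * (g * cSL K * g⁻¹) = 1 := by
  have h : (g * cSL K * g⁻¹) * (g * cSL K * g⁻¹) * (g * cSL K * g⁻¹) =
      g * (cSL K * cSL K * cSL K) * g⁻¹ := by group
  rw [h, cSL_cube, mul_one, mul_inv_cancel]

theorem conj_u_cSL {K : Type*} [Field K] [CharP K 2] :
    uSL (1 : K) * cSL K * (uSL 1)⁻¹ = lSL 1 * uSL 1 := by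
  have h1 : uSL (1 : K) * uSL 1 = 1 := Cfsg.Agent.Helper91.HigR0.sl2_rel.2.1 1
  have h2 : (uSL (1 : K))⁻¹ = uSL 1 := inv_eq_of_mul_eq_one_left h1
  unfold cSL
  rw [h2, ← mul_assoc, h1, one_mul]

theorem conj_h_cSL {K : Type*} [Field K] [Fintype K] [CharP K 2] (t : K) (ht : t ≠ 0) :
    ∃ g : SL2 K, g * cSL K * g⁻¹ = uSL t * lSL t⁻¹ := by
  obtain ⟨d, hd⟩ := FiniteField.isSquare_of_char_two (ringChar.eq K 2) t
  have hd0 : d ≠ 0 := by
    rintro rfl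
    apply ht
    rw [hd, mul_zero]
  have hd2 : d ^ 2 = t := by rw [hd, sq]
  obtain ⟨-, -, -, -, -, hhu, hhl, -, -⟩ := Cfsg.Agent.Helper91.HigR0.sl2_rel (K := K)
  refine ⟨hSL d, ?_⟩
  unfold cSL
  have e1 := hhu d 1 hd0
  have e2 := hhl d 1 hd0
  rw [mul_one, hd2] at e1 e2
  rw [← mul_assoc, e1, mul_assoc (uSL t), e2, mul_assoc, mul_assoc, mul_inv_cancel, mul_one]

section Core

variable {K : Type*} [Field K] [Fintype K] [CharP K 2]
variable {V Z : Type*} [AddCommGroup V] [AddCommGroup Z]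

/-- step (1): for a conjugate `y` of `c`: `β v (y w) = y (y (β v w))`. -/
theorem beta_conj (hV2 : ∀ v : V, v + v = 0)
    (hZ2 : ∀ z : Z, z + z = 0) (ρV : SL2 K →* AddMonoid.End V) (ρZ : SL2 K →* AddMonoid.End Z)
    (β : V →+ V →+ Z)
    (hequiv : ∀ (g : SL2 K) (v w : V), β (ρV g v) (ρV g w) = ρZ g (β v w))
    (halt : ∀ v : V, β v v = 0)
    (hfix : ∀ (g : SL2 K) (v : V), β v (ρV (g * cSL K * g⁻¹) v) = 0) (g : SL2 K) (v w : V) :
    β v (ρV (g * cSL K * g⁻¹) w) = ρZ (g * cSL K * g⁻¹) (ρZ (g * cSL K * g⁻¹) (β v w)) := by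
  have hsymm : ∀ v w : V, β v w = β w v := by
    intro v w
    have h := halt (v + w)
    simp only [map_add, AddMonoidHom.add_apply, halt, zero_add, add_zero] at h
    have h' := eq_neg_of_add_eq_zero_left h
    rw [h', neg_eq_of_add_eq_zero_left (hZ2 _)]
  have hY3 : ∀ w : V, ρV (g * cSL K * g⁻¹) (ρV (g * cSL K * g⁻¹) (ρV (g * cSL K * g⁻¹) w)) = w := by
    intro w
    have h : ρV (g * cSL K * g⁻¹) * ρV (g * cSL K * g⁻¹) * ρV (g * cSL K * g⁻¹) = 1 := by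
      rw [← map_mul, ← map_mul, conj_cube, map_one]
    exact DFunLike.congr_fun h w
  have hpol : ∀ v w : V, β v (ρV (g * cSL K * g⁻¹) w) = β w (ρV (g * cSL K * g⁻¹) v) := by
    intro v w
    have h := hfix g (v + w)
    simp only [map_add, AddMonoidHom.add_apply, hfix, zero_add, add_zero] at h
    have h' := eq_neg_of_add_eq_zero_left h
    rw [h', neg_eq_of_add_eq_zero_left (hZ2 _)]
  have hstar : ∀ v w : V, β v (ρV (g * cSL K * g⁻¹) w) =
      ρZ (g * cSL K * g⁻¹) (β v (ρV (g * cSL K * g⁻¹) (ρV (g * cSL K * g⁻¹) w))) := by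
    intro v w
    rw [hpol v w, hsymm w, ← hequiv, hY3]
  rw [hstar v w, hstar v (ρV (g * cSL K * g⁻¹) w), hY3]

theorem conj_quad {R : Type*} [Ring R] (ρ : SL2 K →* R)
    (hρ : ρ (cSL K) * ρ (cSL K) + ρ (cSL K) + 1 = 0) (g : SL2 K) :
    ρ (g * cSL K * g⁻¹) * ρ (g * cSL K * g⁻¹) + ρ (g * cSL K * g⁻¹) + 1 = 0 := by
  have h1 : ρ g⁻¹ * ρ g = 1 := by rw [← map_mul, inv_mul_cancel, map_one]
  have h2 : ρ g * ρ g⁻¹ = 1 := by rw [← map_mul, mul_inv_cancel, map_one]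
  have h3 : ρ (g * cSL K * g⁻¹) * ρ (g * cSL K * g⁻¹) = ρ g * (ρ (cSL K) * ρ (cSL K)) * ρ g⁻¹ := by
    rw [map_mul, map_mul]
    simp only [mul_assoc]
    rw [← mul_assoc (ρ g⁻¹) (ρ g), h1, one_mul]
  have h4 : ρ (g * cSL K * g⁻¹) * ρ (g * cSL K * g⁻¹) + ρ (g * cSL K * g⁻¹) + 1 =
      ρ g * (ρ (cSL K) * ρ (cSL K) + ρ (cSL K) + 1) * ρ g⁻¹ := by
    rw [h3, map_mul, map_mul, mul_add, mul_add, add_mul, add_mul, mul_one, h2]
  rw [h4, hρ, mul_zero, zero_mul]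

theorem eq_of_add_eq_zero_two {Z : Type*} [AddCommGroup Z] (hZ2 : ∀ z : Z, z + z = 0) {a b : Z}
    (h : a + b = 0) : a = b := by
  rw [eq_neg_of_add_eq_zero_left h, neg_eq_of_add_eq_zero_left (hZ2 _)]

/-- a multiplicative additive family fixing `p` at a point `s ≠ 1` kills `p`. -/
theorem eq_zero_of_Qf_fix (hZ2 : ∀ z : Z, z + z = 0) (Qf : K → AddMonoid.End Z)
    (hQ1 : ∀ z, Qf 1 z = z) (hQadd : ∀ s t z, Qf (s + t) z = Qf s z + Qf t z)
    (hQmul : ∀ s t z, Qf (s * t) z = Qf s (Qf t z)) (s : K) (hs : s ≠ 1) (p : Z)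
    (hp : Qf s p = p) : p = 0 := by
  have hs1 : s + 1 ≠ 0 := by
    intro h
    apply hs
    have h' := eq_neg_of_add_eq_zero_left h
    rw [h', CharTwo.neg_eq]
  have h0 : Qf (s + 1) p = 0 := by rw [hQadd, hp, hQ1, hZ2]
  have h1 : Qf ((s + 1)⁻¹ * (s + 1)) p = p := by rw [inv_mul_cancel₀ hs1, hQ1]
  rw [hQmul, h0, map_zero] at h1
  exact h1.symm

/-- PIECE BETA (S3050) with the conclusions of NF (for the given `ρV`, `ρZ`) as hypotheses. -/
theorem beta_zero_core (hK : 2 < Fintype.card K) (hV2 : ∀ v : V, v + v = 0)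
    (hZ2 : ∀ z : Z, z + z = 0) (ρV : SL2 K →* AddMonoid.End V) (ρZ : SL2 K →* AddMonoid.End Z)
    (hρZ : ρZ (cSL K) * ρZ (cSL K) + ρZ (cSL K) + 1 = 0)
    (hNV : (ρV (uSL 1) + 1) * (ρV (uSL 1) + 1) = 0 ∧ (ρV (lSL 1) + 1) * (ρV (lSL 1) + 1) = 0 ∧
      (ρV (uSL 1) + 1) * (ρV (lSL 1) + 1) + (ρV (lSL 1) + 1) * (ρV (uSL 1) + 1) = 1 ∧
      ∃ Qf : K → AddMonoid.End V, (∀ s, Qf s * (ρV (uSL 1) + 1) = (ρV (uSL 1) + 1) * Qf s) ∧
        (∀ s, Qf s * (ρV (lSL 1) + 1) = (ρV (lSL 1) + 1) * Qf s) ∧ Qf 1 = 1 ∧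
        (∀ s t, Qf (s + t) = Qf s + Qf t) ∧ (∀ s t, Qf (s * t) = Qf s * Qf t) ∧
        (∀ s, ρV (uSL s) = 1 + Qf s * (ρV (uSL 1) + 1)) ∧
        (∀ s, ρV (lSL s) = 1 + Qf s * (ρV (lSL 1) + 1)))
    (hNZ : (ρZ (uSL 1) + 1) * (ρZ (uSL 1) + 1) = 0 ∧ (ρZ (lSL 1) + 1) * (ρZ (lSL 1) + 1) = 0 ∧
      (ρZ (uSL 1) + 1) * (ρZ (lSL 1) + 1) + (ρZ (lSL 1) + 1) * (ρZ (uSL 1) + 1) = 1 ∧
      ∃ Qf : K → AddMonoid.End Z, (∀ s, Qf s * (ρZ (uSL 1) + 1) = (ρZ (uSL 1) + 1) * Qf s) ∧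
        (∀ s, Qf s * (ρZ (lSL 1) + 1) = (ρZ (lSL 1) + 1) * Qf s) ∧ Qf 1 = 1 ∧
        (∀ s t, Qf (s + t) = Qf s + Qf t) ∧ (∀ s t, Qf (s * t) = Qf s * Qf t) ∧
        (∀ s, ρZ (uSL s) = 1 + Qf s * (ρZ (uSL 1) + 1)) ∧
        (∀ s, ρZ (lSL s) = 1 + Qf s * (ρZ (lSL 1) + 1)))
    (β : V →+ V →+ Z)
    (hequiv : ∀ (g : SL2 K) (v w : V), β (ρV g v) (ρV g w) = ρZ g (β v w))
    (halt : ∀ v : V, β v v = 0)
    (hfix : ∀ (g : SL2 K) (v : V), β v (ρV (g * cSL K * g⁻¹) v) = 0) : β = 0 := by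
  classical
  obtain ⟨haa, hbb, hab, Qf, hQa, hQb, hQ1, hQadd, hQmul, hU, hL⟩ := hNV
  obtain ⟨haa', hbb', hab', Qf', hQa', hQb', hQ1', hQadd', hQmul', hU', hL'⟩ := hNZ
  generalize hA : ρV (uSL 1) + 1 = A at haa hbb hab hQa hQb hU hL
  generalize hB : ρV (lSL 1) + 1 = B at haa hbb hab hQa hQb hU hL
  generalize hA' : ρZ (uSL 1) + 1 = A' at haa' hbb' hab' hQa' hQb' hU' hL'
  generalize hB' : ρZ (lSL 1) + 1 = B' at haa' hbb' hab' hQa' hQb' hU' hL'
  -- pointwise forms on `V`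
  have pAA : ∀ v, A (A v) = 0 := fun v => DFunLike.congr_fun haa v
  have pBB : ∀ v, B (B v) = 0 := fun v => DFunLike.congr_fun hbb v
  have pAB : ∀ v, A (B v) + B (A v) = v := fun v => DFunLike.congr_fun hab v
  have pU : ∀ s v, ρV (uSL s) v = v + Qf s (A v) := fun s v => by rw [hU s]; rfl
  have pL : ∀ s v, ρV (lSL s) v = v + Qf s (B v) := fun s v => by rw [hL s]; rfl
  have pQ1 : ∀ v, Qf 1 v = v := fun v => by rw [hQ1]; rfl
  -- pointwise forms on `Z`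
  have pAA' : ∀ v, A' (A' v) = 0 := fun v => DFunLike.congr_fun haa' v
  have pBB' : ∀ v, B' (B' v) = 0 := fun v => DFunLike.congr_fun hbb' v
  have pAB' : ∀ v, A' (B' v) + B' (A' v) = v := fun v => DFunLike.congr_fun hab' v
  have pU' : ∀ s v, ρZ (uSL s) v = v + Qf' s (A' v) := fun s v => by rw [hU' s]; rfl
  have pL' : ∀ s v, ρZ (lSL s) v = v + Qf' s (B' v) := fun s v => by rw [hL' s]; rfl
  have pQA' : ∀ s v, A' (Qf' s v) = Qf' s (A' v) := fun s v =>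
    (DFunLike.congr_fun (hQa' s) v).symm
  have pQB' : ∀ s v, B' (Qf' s v) = Qf' s (B' v) := fun s v =>
    (DFunLike.congr_fun (hQb' s) v).symm
  have pQ1' : ∀ v, Qf' 1 v = v := fun v => by rw [hQ1']; rfl
  have pQmul' : ∀ s t v, Qf' (s * t) v = Qf' s (Qf' t v) := fun s t v => by rw [hQmul']; rfl
  have pQadd' : ∀ s t v, Qf' (s + t) v = Qf' s v + Qf' t v := fun s t v => by rw [hQadd']; rfl
  have hsymm : ∀ v w : V, β v w = β w v := by
    intro v w
    have h := halt (v + w)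
    simp only [map_add, AddMonoidHom.add_apply, halt, zero_add, add_zero] at h
    exact (eq_of_add_eq_zero_two hZ2 h).symm
  have hF1 := beta_conj hV2 hZ2 ρV ρZ β hequiv halt hfix
  have hcubeZ : ∀ (g : SL2 K) (z : Z),
      ρZ (g * cSL K * g⁻¹) (ρZ (g * cSL K * g⁻¹) (ρZ (g * cSL K * g⁻¹) z)) = z := by
    intro g z
    have h : ρZ (g * cSL K * g⁻¹) * ρZ (g * cSL K * g⁻¹) * ρZ (g * cSL K * g⁻¹) = 1 := by
      rw [← map_mul, ← map_mul, conj_cube, map_one]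
    exact DFunLike.congr_fun h z
  have huu : ∀ t : K, uSL t * uSL t = 1 := Cfsg.Agent.Helper91.HigR0.sl2_rel.2.1
  -- step (2)
  have hF2 : ∀ (t : K), t ≠ 0 → ∀ v w : V, β (ρV (uSL t) v) (ρV (lSL t⁻¹) w) =
      ρZ (uSL t) (β v w) + ρZ (lSL t⁻¹) (β v w) := by
    intro t ht v w
    obtain ⟨g, hg⟩ := conj_h_cSL t ht
    have h1 := hF1 g v w
    have hq := DFunLike.congr_fun (conj_quad ρZ hρZ g) (β v w)
    rw [hg] at h1 hq
    have hq' : ρZ (uSL t * lSL t⁻¹) (ρZ (uSL t * lSL t⁻¹) (β v w)) =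
        ρZ (uSL t * lSL t⁻¹) (β v w) + β v w := by
      apply eq_of_add_eq_zero_two hZ2
      rw [← add_assoc]
      exact hq
    rw [hq'] at h1
    have hUU : ∀ x : V, ρV (uSL t) (ρV (uSL t) x) = x := by
      intro x
      have h : ρV (uSL t) * ρV (uSL t) = 1 := by rw [← map_mul, huu, map_one]
      exact DFunLike.congr_fun h x
    have hUU' : ∀ x : Z, ρZ (uSL t) (ρZ (uSL t) x) = x := by
      intro x
      have h : ρZ (uSL t) * ρZ (uSL t) = 1 := by rw [← map_mul, huu, map_one]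
      exact DFunLike.congr_fun h x
    have hm : ∀ x : V, ρV (uSL t * lSL t⁻¹) x = ρV (uSL t) (ρV (lSL t⁻¹) x) := by
      intro x
      rw [map_mul]
      rfl
    have hm' : ∀ x : Z, ρZ (uSL t * lSL t⁻¹) x = ρZ (uSL t) (ρZ (lSL t⁻¹) x) := by
      intro x
      rw [map_mul]
      rfl
    rw [hm, hm'] at h1
    have h2 : β (ρV (uSL t) v) (ρV (lSL t⁻¹) w) =
        ρZ (uSL t) (β v (ρV (uSL t) (ρV (lSL t⁻¹) w))) := by
      rw [← hequiv, hUU]
    rw [h2, h1, map_add, hUU', add_comm]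
  -- step (3)
  obtain ⟨t, ht0, ht1⟩ : ∃ t : K, t ≠ 0 ∧ t ≠ 1 := by
    by_contra hcon0
    have hcon : ∀ t : K, t ≠ 0 → t = 1 := fun t ht => by_contra fun h1 => hcon0 ⟨t, ht, h1⟩
    have hsub : (Finset.univ : Finset K) ⊆ {0, 1} := by
      intro x _
      by_cases hx : x = 0
      · simp [hx]
      · simp [hcon x hx]
    have hc := Finset.card_le_card hsub
    have hc2 : ({0, 1} : Finset K).card ≤ 2 := Finset.card_le_two
    rw [Finset.card_univ] at hc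
    omega
  have hF3 : ∀ x y : V, β (A x) (B y) = 0 := by
    intro x y
    have hE : ∀ s : K, s ≠ 0 → β (A x) (B y) =
        Qf' s (A' (β (A x) (B y))) + Qf' s⁻¹ (B' (β (A x) (B y))) := by
      intro s hs
      have h := hF2 s hs (A x) (B y)
      rw [pU, pL, pAA, pBB, map_zero, map_zero, add_zero, add_zero, pU', pL'] at h
      have h' : β (A x) (B y) + Qf' s (A' (β (A x) (B y))) +
          (β (A x) (B y) + Qf' s⁻¹ (B' (β (A x) (B y)))) =
          (β (A x) (B y) + β (A x) (B y)) +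
            (Qf' s (A' (β (A x) (B y))) + Qf' s⁻¹ (B' (β (A x) (B y)))) := by abel
      rw [h', hZ2, zero_add] at h
      exact h
    generalize β (A x) (B y) = z at hE
    have hEA : ∀ s : K, s ≠ 0 → A' z = Qf' s⁻¹ (A' (B' z)) := by
      intro s hs
      have h := congrArg A' (hE s hs)
      rw [map_add, pQA', pQA', pAA', map_zero, zero_add] at h
      exact h
    have hEB : ∀ s : K, s ≠ 0 → B' z = Qf' s (B' (A' z)) := by
      intro s hs
      have h := congrArg B' (hE s hs)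
      rw [map_add, pQB', pQB', pBB', map_zero, add_zero] at h
      exact h
    have hA1 : A' z = A' (B' z) := by
      have h := hEA 1 one_ne_zero
      rw [inv_one, pQ1'] at h
      exact h
    have hB1 : B' z = B' (A' z) := by
      have h := hEB 1 one_ne_zero
      rw [pQ1'] at h
      exact h
    have hp : A' (B' z) = 0 := by
      apply eq_zero_of_Qf_fix hZ2 Qf' pQ1' pQadd' pQmul' t⁻¹
      · intro h
        apply ht1
        rw [← inv_inv t, h, inv_one]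
      · rw [← hEA t ht0, hA1]
    have hq : B' (A' z) = 0 := by
      apply eq_zero_of_Qf_fix hZ2 Qf' pQ1' pQadd' pQmul' t ht1
      rw [← hEB t ht0, hB1]
    rw [← pAB' z, hp, hq, add_zero]
  -- step (4)
  have hABA : ∀ y : V, A (B (A y)) = A y := by
    intro y
    have h := pAB (A y)
    rw [pAA, map_zero, add_zero] at h
    exact h
  have hBAB : ∀ y : V, B (A (B y)) = B y := by
    intro y
    have h := pAB (B y)
    rw [pBB, map_zero, zero_add] at h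
    exact h
  have hF4a : ∀ x y : V, β (A x) (A y) = 0 := by
    intro x y
    have h := hF1 1 (A x) (A y)
    have hm : ρV (1 * cSL K * 1⁻¹) (A y) = B (A y) := by
      have h1 : ρV (1 * cSL K * 1⁻¹) (A y) = ρV (uSL 1) (ρV (lSL 1) (A y)) := by
        rw [one_mul, inv_one, mul_one]
        unfold cSL
        rw [map_mul]
        rfl
      rw [h1, pL, pU, pQ1, pQ1, map_add, hABA, pAA]
      have h2 : A y + B (A y) + (0 + A y) = (A y + A y) + B (A y) := by abel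
      rw [h2, hV2, zero_add]
    rw [hm, hF3] at h
    have h3 := hcubeZ 1 (β (A x) (A y))
    rw [← h, map_zero] at h3
    exact h3.symm
  have hF4b : ∀ x y : V, β (B x) (B y) = 0 := by
    intro x y
    have h := hF1 (uSL 1) (B x) (B y)
    have hm : ρV (uSL 1 * cSL K * (uSL 1)⁻¹) (B y) = A (B y) := by
      have h1 : ρV (uSL 1 * cSL K * (uSL 1)⁻¹) (B y) = ρV (lSL 1) (ρV (uSL 1) (B y)) := by
        rw [conj_u_cSL, map_mul]
        rfl
      rw [h1, pU, pL, pQ1, pQ1, map_add, hBAB, pBB]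
      have h2 : B y + A (B y) + (0 + B y) = (B y + B y) + A (B y) := by abel
      rw [h2, hV2, zero_add]
    rw [hm, hsymm, hF3] at h
    have h3 := hcubeZ (uSL 1) (β (B x) (B y))
    rw [← h, map_zero] at h3
    exact h3.symm
  -- conclusion
  ext v w
  rw [AddMonoidHom.zero_apply, AddMonoidHom.zero_apply]
  rw [← pAB v, ← pAB w]
  simp only [map_add, AddMonoidHom.add_apply]
  rw [hF4a, hF3, hsymm (B (A v)) (A (B w)), hF3, hF4b]
  simp

end Core

end Cfsg.Agent.Helper84.HigBETACore
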