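import Cfsg.Agent.S5197
import Cfsg.Agent.S1984
import Cfsg.Agent.S5132
import Cfsg.Agent.S5133
import Cfsg.Agent.S5134
import Cfsg.Agent.Helper33.KIso
import Cfsg.Agent.Helper33.IndFunctor
import Cfsg.Agent.Helper33.TransferControl
import Cfsg.Agent.Helper49.PCore
import Cfsg.Agent.Helper84.ZJFusionB
import Cfsg.Agent.Helper84.FusionCons
import Cfsg.Agent.Helper84.ModelSub
import Cfsg.Agent.Helper84.ZJFusionA
import Cfsg.Agent.Helper85.Factor

/-!
# Control of transfer by the lower `K`-infinity subgroup in fusion systems, `p ≥ 5` (helper84)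

For `p ≥ 5` the functor `K_∞` (lower) satisfies the local focal condition in every finite group, so it controls
transfer in every saturated fusion system (`S5197`). By induction on `|S|` through the factor system
`N_F(K_∞(S)) / K_∞(S)`: if `Aut_F(S)` is a `p`-group and `S ≠ 1`, the focal subgroup of `F` is proper.
-/

set_option autoImplicit false

namespace Cfsg.Agent.Helper84

open Cfsg Cfsg.FusionSystem

universe u

section KInfFocal

/-- The local focal condition for the lower `K`-infinity functor, `p ≥ 5`. -/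
theorem kInfLower_local_focal (p : ℕ) [Fact p.Prime] (hp : 5 ≤ p) (G : Type u) [Group G] [Finite G]
    (P : Sylow p G) :
    pCore p G ⊓ commutator G = pCore p G ⊓
      (commutator ↥(Subgroup.normalizer
        (((kInfLower ↥(P : Subgroup G)).map (P : Subgroup G).subtype : Subgroup G) : Set G))).map
        (Subgroup.normalizer
          (((kInfLower ↥(P : Subgroup G)).map (P : Subgroup G).subtype : Subgroup G) : Set G)).subtype := by
  have hW : IsConjugacyFunctor p (inducedFunctor (G := G) kInfLower) :=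
    Helper33.isConjugacyFunctor_inducedFunctor (Helper33.isCharPFunctor_kInfLower p) G
  have hctl : ControlsTransferIn p (inducedFunctor (G := G) kInfLower) ⊤ := S1984.result hp
  have hidx : ¬ p ∣ (P : Subgroup G).relIndex ⊤ := by
    rw [Subgroup.relIndex_top_right]
    exact P.not_dvd_index
  have key := Helper33.controlsTransfer_of hW hctl (T' := (P : Subgroup G)) le_top P.isPGroup' hidx
  rw [top_inf_eq] at key
  have key2 : (P : Subgroup G) ⊓ commutator G = (P : Subgroup G) ⊓
      (commutator ↥(Subgroup.normalizer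
        (((kInfLower ↥(P : Subgroup G)).map (P : Subgroup G).subtype : Subgroup G) : Set G))).map
        (Subgroup.normalizer
          (((kInfLower ↥(P : Subgroup G)).map (P : Subgroup G).subtype : Subgroup G) : Set G)).subtype := by
    rw [Subgroup.map_subtype_commutator]
    exact key
  have hcP : pCore p G ≤ (P : Subgroup G) := Helper49.pCore_le_sylow P
  calc pCore p G ⊓ commutator G = pCore p G ⊓ ((P : Subgroup G) ⊓ commutator G) := by
        rw [← inf_assoc, inf_eq_left.2 hcP]
    _ = pCore p G ⊓ ((P : Subgroup G) ⊓ (commutator ↥(Subgroup.normalizer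
        (((kInfLower ↥(P : Subgroup G)).map (P : Subgroup G).subtype : Subgroup G) : Set G))).map
        (Subgroup.normalizer
          (((kInfLower ↥(P : Subgroup G)).map (P : Subgroup G).subtype : Subgroup G) : Set G)).subtype) := by
        rw [key2]
    _ = _ := by rw [← inf_assoc, inf_eq_left.2 hcP]

variable {Ω : Type u} [Group Ω] {S : Subgroup Ω}

/-- If every automorphism of `S` in the system has `p`-power order, the automorphisms of `S` in the system are
conjugations by elements of `S`. -/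
theorem aut_top_inner [Finite S] {p : ℕ} [Fact p.Prime] (hS : IsPGroup p S) (F : FusionSystem S)
    (hF : F.IsSaturated p) (haut : ∀ α ∈ F.autGroup S, ∃ k : ℕ, α ^ p ^ k = 1) :
    ∀ Y : Subgroup Ω, Y = S → ∀ β ∈ F.autGroup Y, ∃ g ∈ S, ∀ x : Y, ((β x : Y) : Ω) = g * (x : Ω) * g⁻¹ := by
  intro Y hY
  subst hY
  intro β hβ
  obtain ⟨ha, -⟩ := saturated_fullyNormalized hS F hF (fullyNormalized_self F)
  have hpg : IsPGroup p ↥(F.autGroup Y) := by
    intro g
    obtain ⟨k, hk⟩ := haut g.1 g.2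
    exact ⟨k, Subtype.ext (by rw [Subgroup.coe_pow, hk]; rfl)⟩
  have h2 := (fullyAutomized_iff hS F le_rfl).mp ha _ le_rfl hpg
  have h3 : autInducedBy Y Y = F.autGroup Y :=
    Subgroup.eq_of_le_of_card_ge (autInducedBy_le_autGroup F le_rfl) h2
  rw [← h3] at hβ
  exact (mem_autInducedBy_iff Y Y β).1 hβ

/-- The image of the focal subgroup in a factor system lies in the focal subgroup of the factor system. -/
theorem focal_map_factor (F : FusionSystem S) {Ω' : Type*} [Group Ω'] {S' : Subgroup Ω'} (θ : S →* Ω')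
    (E : FusionSystem S') (hmor : F.IsMorphism E θ) (hfS : F.focalSubgroup ≤ S) :
    ∀ y : Ω, y ∈ F.focalSubgroup → ∀ hy : y ∈ S, θ ⟨y, hy⟩ ∈ E.focalSubgroup := by
  intro y hy
  unfold FusionSystem.focalSubgroup at hy
  induction hy using Subgroup.closure_induction with
  | mem y hy =>
    obtain ⟨P, φ, x, hφ, rfl⟩ := hy
    intro hy
    obtain ⟨φ', hφ', hPS, hφS, hP', hcomm⟩ := hmor.2 P φ hφ
    have e : (⟨(x : Ω)⁻¹ * φ x, hy⟩ : S) = (⟨x, hPS x.2⟩ : S)⁻¹ * ⟨φ x, hφS x⟩ := rfl
    rw [e, map_mul, map_inv, ← hcomm x]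
    exact Subgroup.subset_closure ⟨_, φ', ⟨θ ⟨x, hPS x.2⟩, hP' x⟩, hφ', rfl⟩
  | one =>
    intro hy
    have e : (⟨1, hy⟩ : S) = 1 := rfl
    rw [e, map_one]
    exact Subgroup.one_mem _
  | mul a b ha hb iha ihb =>
    intro hy
    have haS : a ∈ S := hfS ha
    have hbS : b ∈ S := hfS hb
    have e : (⟨a * b, hy⟩ : S) = ⟨a, haS⟩ * ⟨b, hbS⟩ := rfl
    rw [e, map_mul]
    exact Subgroup.mul_mem _ (iha haS) (ihb hbS)
  | inv a ha iha =>
    intro hy
    have haS : a ∈ S := hfS ha
    have e : (⟨a⁻¹, hy⟩ : S) = (⟨a, haS⟩ : S)⁻¹ := rfl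
    rw [e, map_inv]
    exact Subgroup.inv_mem _ (iha haS)

/-- Quotient step: if `V` is normal in `N`, nontrivial and proper, the automorphisms of `T` in `N` have `p`-power
order, and focal subgroups are proper for smaller groups, then the focal subgroup of `N` is not `T`. -/
theorem focal_ne_of_quot {T : Subgroup Ω} [Finite T] (p : ℕ) [Fact p.Prime] (hT : IsPGroup p T)
    (N : FusionSystem T) (hNsat : N.IsSaturated p) {V : Subgroup Ω} (hVn : N.IsNormal V) (hVbot : V ≠ ⊥)
    (hVT : V ≠ T) (hautN : ∀ Y : Subgroup Ω, Y = T → ∀ α ∈ N.autGroup Y, ∃ k : ℕ, α ^ p ^ k = 1)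
    (ih : ∀ (Ω' : Type u) [Group Ω'] (S' : Subgroup Ω') [Finite S'], IsPGroup p S' →
      Nat.card S' < Nat.card T → S' ≠ ⊥ → ∀ F' : FusionSystem S', F'.IsSaturated p →
        (∀ α ∈ F'.autGroup S', ∃ k : ℕ, α ^ p ^ k = 1) → F'.focalSubgroup < S') :
    N.focalSubgroup ≠ T := by
  intro heq
  have hVle : V ≤ T := hVn.1
  have hsc := normal_stronglyClosed N hVn
  have hnorm : T ≤ Subgroup.normalizer (V : Set Ω) := normal_le_normalizer N hVn
  have hVnT : (V.subgroupOf T).Normal := (Subgroup.normal_subgroupOf_iff_le_normalizer hVle).2 hnorm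
  have hfV : Finite V := finite_of_le hVle
  obtain ⟨E', hE'⟩ := S5132.result p hT N V hsc
  have hsurj := S5134.result p hT N hNsat V hsc (QuotientGroup.mk' (V.subgroupOf T)) E' hE'
  have hE'sat := S5133.result p hT N hNsat E' (QuotientGroup.mk' (V.subgroupOf T)) hsurj
  have hker := hE'.2.1
  have hpq : IsPGroup p (↥T ⧸ V.subgroupOf T) := hT.to_quotient _
  have hpT : IsPGroup p ↥(⊤ : Subgroup (↥T ⧸ V.subgroupOf T)) := hpq.to_subgroup _
  have hcard : Nat.card ↥(⊤ : Subgroup (↥T ⧸ V.subgroupOf T)) < Nat.card T := by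
    rw [Subgroup.card_top, ← Subgroup.index_eq_card, ← Subgroup.card_mul_index (V.subgroupOf T)]
    have h1 : 1 < Nat.card (V.subgroupOf T) := by
      rw [Nat.card_congr (Subgroup.subgroupOfEquivOfLe hVle).toEquiv]
      exact (Subgroup.one_lt_card_iff_ne_bot V).2 hVbot
    have h2 : 0 < (V.subgroupOf T).index := Nat.pos_of_ne_zero Subgroup.index_ne_zero_of_finite
    exact lt_mul_of_one_lt_left h2 h1
  obtain ⟨s₀, hs₀T, hs₀V⟩ := SetLike.not_le_iff_exists.1 (fun h : T ≤ V => hVT (le_antisymm hVle h))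
  have hne : (⊤ : Subgroup (↥T ⧸ V.subgroupOf T)) ≠ ⊥ := by
    intro e
    have h1 : QuotientGroup.mk' (V.subgroupOf T) ⟨s₀, hs₀T⟩ ∈ (⊤ : Subgroup (↥T ⧸ V.subgroupOf T)) :=
      Subgroup.mem_top _
    rw [e, Subgroup.mem_bot] at h1
    exact hs₀V ((hker ⟨s₀, hs₀T⟩).1 h1)
  have hNP : NP p N (preimageAlong (QuotientGroup.mk' (V.subgroupOf T))
      (⊤ : Subgroup (↥T ⧸ V.subgroupOf T))) := by
    intro Y hVY hYT α hα _
    refine hautN Y (le_antisymm (hYT.trans inf_le_left) (fun t ht => hVY ?_)) α hα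
    exact (Helper85.mem_preimageAlong _ _ t).2 ⟨ht, Subgroup.mem_top _⟩
  have hNP' := np_quot N (QuotientGroup.mk' (V.subgroupOf T)) E' hE' ⊤ hNP
  have haut' : ∀ α ∈ E'.autGroup (⊤ : Subgroup (↥T ⧸ V.subgroupOf T)), ∃ k : ℕ, α ^ p ^ k = 1 :=
    fun α hα => hNP' ⊤ le_rfl (le_inf le_rfl Subgroup.le_normalizer) α hα (fun y _ => Subgroup.mem_top _)
  have hlt := ih (↥T ⧸ V.subgroupOf T) ⊤ hpT hcard hne E' hE'sat haut'
  apply hlt.ne
  rw [eq_top_iff]
  intro q _
  obtain ⟨t, rfl⟩ := QuotientGroup.mk'_surjective (V.subgroupOf T) q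
  exact focal_map_factor N (QuotientGroup.mk' (V.subgroupOf T)) E' hsurj.1 (le_of_eq heq) (t : Ω)
    ((le_of_eq heq.symm) t.2) t.2

/-- **Control of transfer for `p ≥ 5`** (Glauberman; Díaz–Glesser–Park–Stancu for fusion systems): if every
automorphism of `S` in a saturated system over `S ≠ 1` has `p`-power order, the focal subgroup is proper. -/
theorem focal_lt_of_aut_pgroup (p : ℕ) [Fact p.Prime] (hp : 5 ≤ p) :
    ∀ (n : ℕ) (Ω : Type u) [Group Ω] (S : Subgroup Ω) [Finite S], IsPGroup p S → Nat.card S = n → S ≠ ⊥ →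
      ∀ F : FusionSystem S, F.IsSaturated p → (∀ α ∈ F.autGroup S, ∃ k : ℕ, α ^ p ^ k = 1) →
        F.focalSubgroup < S := by
  intro n
  induction n using Nat.strong_induction_on with
  | _ n ih =>
  intro Ω _ S _ hS hn hS1 F hF haut
  obtain ⟨hW1, hW2⟩ := Helper33.isCharPFunctor_kInfLower.{u} p
  have hVS : (kInfLower ↥S).map S.subtype ≤ S := Helper86.Wsub_le kInfLower S
  have hVnorm : S ≤ Subgroup.normalizer (((kInfLower ↥S).map S.subtype : Subgroup Ω) : Set Ω) :=
    Helper86.le_normalizer_Wsub kInfLower hW2 hS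
  have hVbot : (kInfLower ↥S).map S.subtype ≠ ⊥ := Helper86.Wsub_ne_bot kInfLower hW1 hS hS1
  obtain ⟨N, hN⟩ := exists_normalizerSystem F _ hVS
  have hfoc : N.focalSubgroup = F.focalSubgroup :=
    S5197.result kInfLower hW1 hW2 (fun G _ _ P _ => kInfLower_local_focal p hp G P) hS F hF N hN
  rw [← hfoc]
  have hTS : normalizerIn S ((kInfLower ↥S).map S.subtype) = S :=
    Helper86.normalizerIn_eq_of_le_normalizer hVnorm
  have hNT : N.focalSubgroup ≤ normalizerIn S ((kInfLower ↥S).map S.subtype) :=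
    (Helper86.focalSubgroup_le_iff N _).2 (fun P φ hφ x =>
      Subgroup.mul_mem _ (Subgroup.inv_mem _ (hom_le N hφ x.2)) (hom_mem N hφ x))
  have hNle : N.focalSubgroup ≤ S := hNT.trans inf_le_left
  refine lt_of_le_of_ne hNle (fun heq => ?_)
  by_cases hVeq : (kInfLower ↥S).map S.subtype = S
  · have hinner := aut_top_inner hS F hF haut
    have h1 : N.focalSubgroup ≤ ⁅S, S⁆ := by
      refine (Helper86.focalSubgroup_le_iff N _).2 ?_
      intro P φ hφ x
      rw [hN] at hφ
      obtain ⟨hφF, hPN, hφN, ψ, hψ, hψφ, hψV⟩ := hφ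
      have hPS : P ≤ S := hom_le F hφF
      have hPV : P ≤ (kInfLower ↥S).map S.subtype := by rw [hVeq]; exact hPS
      have hφV : φ.range ≤ (kInfLower ↥S).map S.subtype := by rw [hVeq]; exact hom_range_le F hφF
      have hU : P ⊔ (kInfLower ↥S).map S.subtype = S := by
        rw [sup_eq_right.2 hPV]; exact hVeq
      have hr : ψ.range = P ⊔ (kInfLower ↥S).map S.subtype := by
        rw [range_ext_eq _ ψ hψφ, hψV, sup_eq_right.2 hφV, sup_eq_right.2 hPV]
      obtain ⟨g, hg, hgβ⟩ := hinner _ hU (isoOfHom ψ (F.injective_of_mem hψ) hr)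
        ((mem_autGroup_iff_isFIso F (le_of_eq hU) _).2 (isFIso_isoOfHom F hψ hr))
      have h2 := hgβ (Subgroup.inclusion le_sup_left x)
      have h3 : φ x = g * (x : Ω) * g⁻¹ := by
        rw [← hψφ x]; exact h2
      rw [h3]
      have h4 : (x : Ω)⁻¹ * (g * (x : Ω) * g⁻¹) = (x : Ω)⁻¹ * g * ((x : Ω)⁻¹)⁻¹ * g⁻¹ := by
        group
      rw [h4]
      exact Subgroup.commutator_mem_commutator (S.inv_mem (hPS x.2)) hg
    have hnt : Nontrivial ↥S := (Subgroup.nontrivial_iff_ne_bot S).2 hS1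
    have hnil : Group.IsNilpotent ↥S := hS.isNilpotent
    have hlt := Group.IsSolvable.commutator_lt_top_of_nontrivial ↥S
    apply hlt.ne
    rw [eq_top_iff]
    intro s _
    have h5 : (s : Ω) ∈ ⁅S, S⁆ := h1 ((le_of_eq heq.symm) s.2)
    rw [← Subgroup.map_subtype_commutator] at h5
    obtain ⟨c, hc, hcs⟩ := h5
    have e : c = s := Subtype.ext hcs
    rw [← e]
    exact hc
  · have hfT : Finite ↥(normalizerIn S ((kInfLower ↥S).map S.subtype)) := finite_of_le inf_le_left
    have hTp : IsPGroup p ↥(normalizerIn S ((kInfLower ↥S).map S.subtype)) := hS.to_le inf_le_left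
    have hNsat : N.IsSaturated p := normalizerSystem_saturated p hS F hF _
      (Helper86.fullyNormalized_of_le_normalizer F hVS hVnorm) N hN
    have hVn : N.IsNormal ((kInfLower ↥S).map S.subtype) := nsys_isNormal F hVS N hN
    have haut2 : ∀ Y : Subgroup Ω, Y = S → ∀ α ∈ F.autGroup Y, ∃ k : ℕ, α ^ p ^ k = 1 := by
      intro Y hY
      subst hY
      exact haut
    have hcardT : Nat.card ↥(normalizerIn S ((kInfLower ↥S).map S.subtype)) = Nat.card S :=
      congrArg (fun X : Subgroup Ω => Nat.card X) hTS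
    refine focal_ne_of_quot p hTp N hNsat hVn hVbot (fun h => hVeq (h.trans hTS)) ?_ ?_ (heq.trans hTS.symm)
    · intro Y hY α hα
      exact haut2 Y (hY.trans hTS) α (nsys_autGroup_le F N hN (le_of_eq hY) hα)
    · intro Ω' _ S' _ hS' hlt hne F' hF' haut'
      exact ih (Nat.card S') (by rw [← hn, ← hcardT]; exact hlt) Ω' S' hS' rfl hne F' hF' haut'

end KInfFocal

end Cfsg.Agent.Helper84
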