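import Mathlib

set_option autoImplicit false

/-!
# CALL LM (helper21, row S4067), piece EA

A central element of order `p` outside `G'` gives a central automorphism moving every element
outside an index-`p` subgroup `M ≥ Z(G)` to a non-conjugate element.  Also here, for reuse by the
other pieces: `lm84_comm_pow` (`⁅x ^ n, y⁆ = ⁅x, y⁆ ^ n` when `G' ≤ Z(G)`), `lm84_pow_mem_center`
(`x ^ p ∈ Z(G)`), `lm84_exists_index` (an index-`p` subgroup over the centre).
-/

namespace Cfsg.Agent.Helper84.LM

open scoped commutatorElement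

theorem lm84_comm_mem {G : Type*} [Group G] (x y : G) : ⁅x, y⁆ ∈ commutator G := by
  show ⁅x, y⁆ ∈ ⁅(⊤ : Subgroup G), ⊤⁆
  exact Subgroup.commutator_mem_commutator (Subgroup.mem_top x) (Subgroup.mem_top y)

theorem lm84_comm_pow {G : Type*} [Group G] (hZ : commutator G ≤ Subgroup.center G) (x y : G)
    (n : ℕ) : ⁅x ^ n, y⁆ = ⁅x, y⁆ ^ n := by
  induction n with
  | zero => simp [commutatorElement_def]
  | succ n ih =>
    have hc : ⁅x, y⁆ ∈ Subgroup.center G := hZ (lm84_comm_mem x y)
    have hc' : ⁅x ^ n, y⁆ ∈ Subgroup.center G := hZ (lm84_comm_mem _ y)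
    rw [pow_succ x n, pow_succ ⁅x, y⁆ n, ← ih]
    have h1 : ⁅x ^ n * x, y⁆ = x ^ n * ⁅x, y⁆ * (x ^ n)⁻¹ * ⁅x ^ n, y⁆ := by
      simp only [commutatorElement_def]; group
    rw [h1]
    have h2 : x ^ n * ⁅x, y⁆ = ⁅x, y⁆ * x ^ n := (Subgroup.mem_center_iff.mp hc (x ^ n))
    rw [h2, mul_assoc ⁅x, y⁆, mul_inv_cancel, mul_one]
    exact (Subgroup.mem_center_iff.mp hc' _)

theorem lm84_pow_card_comm {G : Type*} [Group G] [Finite G] (x : G) (hx : x ∈ commutator G) :
    x ^ Nat.card (commutator G) = 1 := by
  have h := pow_card_eq_one' (G := commutator G) (x := ⟨x, hx⟩)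
  have h2 := congrArg Subtype.val h
  rw [Subgroup.coe_pow, Subgroup.coe_one] at h2
  exact h2

theorem lm84_pow_mem_center {G : Type*} [Group G] [Finite G]
    (hZ : commutator G ≤ Subgroup.center G) (x : G) :
    x ^ Nat.card (commutator G) ∈ Subgroup.center G := by
  rw [Subgroup.mem_center_iff]
  intro y
  have h1 : ⁅x ^ Nat.card (commutator G), y⁆ = 1 := by
    rw [lm84_comm_pow hZ]
    exact lm84_pow_card_comm _ (lm84_comm_mem x y)
  have h2 := commutatorElement_eq_one_iff_mul_comm.mp h1
  exact h2.symm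

theorem lm84_prime {G : Type*} [Group G] [Finite G] (hna : ¬ IsMulCommutative G) :
    (Nat.card G).minFac.Prime := by
  apply Nat.minFac_prime
  intro h1
  apply hna
  have : Subsingleton G := (Nat.card_eq_one_iff_unique.mp h1).1
  exact ⟨⟨fun a b => Subsingleton.elim _ _⟩⟩

/-- An index-`p` subgroup containing the centre. -/
theorem lm84_exists_index {G : Type*} [Group G] [Finite G]
    (hZ : commutator G ≤ Subgroup.center G)
    (hc : Nat.card (commutator G) = (Nat.card G).minFac) (hna : ¬ IsMulCommutative G) :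
    ∃ M : Subgroup G, M.index = (Nat.card G).minFac ∧ Subgroup.center G ≤ M := by
  classical
  set p := (Nat.card G).minFac with hp
  have hpp : p.Prime := lm84_prime hna
  have : Fact p.Prime := ⟨hpp⟩
  -- the quotient by the centre is a nontrivial `p`-group
  have hQ : IsPGroup p (G ⧸ Subgroup.center G) := by
    intro q
    refine ⟨1, ?_⟩
    induction q using QuotientGroup.induction_on with
    | H x =>
      rw [pow_one, ← QuotientGroup.mk_pow, QuotientGroup.eq_one_iff, ← hc]
      exact lm84_pow_mem_center hZ x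
  obtain ⟨k, hk⟩ := IsPGroup.iff_card.mp hQ
  have hk0 : k ≠ 0 := by
    rintro rfl
    rw [pow_zero] at hk
    apply hna
    have hidx : (Subgroup.center G).index = 1 := by
      rw [Subgroup.index_eq_card]; exact hk
    have htop : Subgroup.center G = ⊤ := Subgroup.index_eq_one.mp hidx
    refine ⟨⟨fun a b => ?_⟩⟩
    have hb : b ∈ Subgroup.center G := by rw [htop]; trivial
    exact (Subgroup.mem_center_iff.mp hb a)
  obtain ⟨K, hK⟩ := Sylow.exists_subgroup_card_pow_prime (G := G ⧸ Subgroup.center G) p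
    (n := k - 1) (by rw [hk]; exact pow_dvd_pow p (Nat.sub_le k 1))
  have hKi : K.index = p := by
    have h1 := Subgroup.card_mul_index K
    rw [hK, hk] at h1
    have h2 : p ^ k = p ^ (k - 1) * p := by
      rw [← pow_succ]; congr 1; omega
    rw [h2] at h1
    exact Nat.eq_of_mul_eq_mul_left (pow_pos hpp.pos _) h1
  refine ⟨K.comap (QuotientGroup.mk' (Subgroup.center G)), ?_, ?_⟩
  · rw [Subgroup.index_comap_of_surjective _ (QuotientGroup.mk'_surjective _)]
    exact hKi
  · intro z hz
    rw [Subgroup.mem_comap]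
    have : (QuotientGroup.mk' (Subgroup.center G)) z = 1 := by
      rw [QuotientGroup.mk'_apply, QuotientGroup.eq_one_iff]; exact hz
    rw [this]; exact K.one_mem

/-- EA: a central element of order `p` outside `G'` gives a central automorphism. -/
theorem lm_ea {G : Type*} [Group G] [Finite G] (hZ : commutator G ≤ Subgroup.center G)
    (hc : Nat.card (commutator G) = (Nat.card G).minFac) (hna : ¬ IsMulCommutative G)
    (c : G) (hcZ : c ∈ Subgroup.center G) (hco : orderOf c = (Nat.card G).minFac)
    (hcG : c ∉ commutator G) :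
    ∃ σ : MulAut G, ∃ M : Subgroup G, M.index = (Nat.card G).minFac ∧ Subgroup.center G ≤ M ∧
      ∀ g : G, g ∉ M → ¬ IsConj g (σ g) := by
  classical
  obtain ⟨M, hM, hZM⟩ := lm84_exists_index hZ hc hna
  set p := (Nat.card G).minFac with hp
  have hpp : p.Prime := lm84_prime hna
  have : Fact p.Prime := ⟨hpp⟩
  have hMn : M.Normal := Subgroup.normal_of_index_eq_minFac_card hM
  have hcardQ : Nat.card (G ⧸ M) = p := by rw [← Subgroup.index_eq_card]; exact hM
  have hcardC : Nat.card (Subgroup.zpowers c) = p := by rw [Nat.card_zpowers]; exact hco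
  let e : (G ⧸ M) ≃* Subgroup.zpowers c := mulEquivOfPrimeCardEq hcardQ hcardC
  let ψ : G →* G := (Subgroup.zpowers c).subtype.comp (e.toMonoidHom.comp (QuotientGroup.mk' M))
  have hψc : ∀ g, ψ g ∈ Subgroup.zpowers c := fun g => (e (QuotientGroup.mk' M g)).2
  have hψZ : ∀ g, ψ g ∈ Subgroup.center G := fun g =>
    (Subgroup.zpowers_le.mpr hcZ) (hψc g)
  have hψ1 : ∀ g, ψ g = 1 ↔ g ∈ M := by
    intro g
    constructor
    · intro h
      have h1 : e (QuotientGroup.mk' M g) = 1 := Subtype.ext h
      have h2 : QuotientGroup.mk' M g = 1 := by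
        have := e.injective (h1.trans (map_one e).symm)
        exact this
      rw [QuotientGroup.mk'_apply, QuotientGroup.eq_one_iff] at h2
      exact h2
    · intro h
      have h2 : QuotientGroup.mk' M g = 1 := by
        rw [QuotientGroup.mk'_apply, QuotientGroup.eq_one_iff]; exact h
      show ((e (QuotientGroup.mk' M g) : Subgroup.zpowers c) : G) = 1
      rw [h2, map_one]; rfl
  let σ₀ : G →* G :=
    { toFun := fun g => g * ψ g
      map_one' := by simp
      map_mul' := by
        intro a b
        rw [map_mul]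
        have h := Subgroup.mem_center_iff.mp (hψZ a) b
        calc a * b * (ψ a * ψ b) = a * (b * ψ a) * ψ b := by group
          _ = a * (ψ a * b) * ψ b := by rw [h]
          _ = a * ψ a * (b * ψ b) := by group }
  have hinj : Function.Injective σ₀ := by
    rw [injective_iff_map_eq_one]
    intro g hg
    have hg' : g * ψ g = 1 := hg
    have hgc : g ∈ Subgroup.zpowers c := by
      have : g = (ψ g)⁻¹ := eq_inv_of_mul_eq_one_left hg'
      rw [this]; exact inv_mem (hψc g)
    have hgM : g ∈ M := hZM ((Subgroup.zpowers_le.mpr hcZ) hgc)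
    have := (hψ1 g).mpr hgM
    rw [this, mul_one] at hg'
    exact hg'
  have hbij : Function.Bijective σ₀ := hinj.bijective_of_finite
  refine ⟨MulEquiv.ofBijective σ₀ hbij, M, hM, hZM, ?_⟩
  intro g hg hconj
  have hσ : (MulEquiv.ofBijective σ₀ hbij) g = g * ψ g := rfl
  rw [hσ, isConj_iff] at hconj
  obtain ⟨h, hh⟩ := hconj
  -- `ψ g` is a commutator
  have hψcomm : ψ g ∈ commutator G := by
    have : ψ g = ⁅g⁻¹, h⁆ := by
      rw [commutatorElement_def]
      have : ψ g = g⁻¹ * (h * g * h⁻¹) := by rw [hh]; group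
      rw [this]; group
    rw [this]; exact lm84_comm_mem _ _
  have hψne : ψ g ≠ 1 := fun h1 => hg ((hψ1 g).mp h1)
  -- `c` is a power of `ψ g`
  have hmem : (⟨c, Subgroup.mem_zpowers c⟩ : Subgroup.zpowers c) ∈
      Subgroup.zpowers (⟨ψ g, hψc g⟩ : Subgroup.zpowers c) :=
    mem_zpowers_of_prime_card hcardC (fun h1 => hψne (congrArg Subtype.val h1))
  obtain ⟨k, hk⟩ := Subgroup.mem_zpowers_iff.mp hmem
  have hk' : (ψ g) ^ k = c := by
    have := congrArg Subtype.val hk
    simpa using this
  exact hcG (hk' ▸ zpow_mem hψcomm k)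

end Cfsg.Agent.Helper84.LM
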