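import Mathlib
import Cfsg.Agent.Helper48.M11UDefs
import Cfsg.Agent.Helper48.M11UGeo

/-!
# PIECE SCT of CALL S0420 (second attempt by helper84): there are exactly eleven stars.
-/

set_option autoImplicit false
set_option linter.unusedSectionVars false
set_option linter.unusedVariables false
open scoped Pointwise

namespace Cfsg.Agent.Helper84

open Cfsg.Agent.Helper48.M11U

universe u
variable {G : Type u} [Group G] [Finite G]

theorem m11u_star_count (h : M11Gr G)
    (hcard : ∀ R S : Sylow 3 G, Adj R S → (star R S).ncard = 10)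
    (htwo : ∀ (z : G) (R S T : Sylow 3 G), orderOf z = 2 → Inv z R → Inv z S → Inv z T →
      R ≠ S → R ≠ T → S ≠ T →
      star R S ≠ star R T ∧ ∀ P P' : Sylow 3 G, Adj P P' → R ∈ star P P' →
        star P P' = star R S ∨ star P P' = star R T) :
    Nat.card {C : Set (Sylow 3 G) // ∃ R S : Sylow 3 G, Adj R S ∧ C = star R S} = 11 := by
  classical
  have : Fintype (Sylow 3 G) := Fintype.ofFinite _
  have hl1 := h.geo.l1
  -- each `R` lies in exactly two stars
  have hR : ∀ R : Sylow 3 G, ((Finset.univ.filter (fun C : Set (Sylow 3 G) =>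
      ∃ R S : Sylow 3 G, Adj R S ∧ C = star R S)).filter (fun C => R ∈ C)).card = 2 := by
    intro R
    obtain ⟨z, hz, hzR⟩ := hl1.exinv R
    have h3 := hl1.tri z hz
    rw [Nat.card_eq_fintype_card, Fintype.card_subtype] at h3
    have hRm : R ∈ Finset.univ.filter (fun P : Sylow 3 G => Inv z P) := by
      simp [hzR]
    have h2 : ((Finset.univ.filter (fun P : Sylow 3 G => Inv z P)).erase R).card = 2 := by
      rw [Finset.card_erase_of_mem hRm, h3]
    obtain ⟨S, T, hST, hSTeq⟩ := Finset.card_eq_two.mp h2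
    have hS : S ∈ (Finset.univ.filter (fun P : Sylow 3 G => Inv z P)).erase R := by
      rw [hSTeq]
      simp
    have hT : T ∈ (Finset.univ.filter (fun P : Sylow 3 G => Inv z P)).erase R := by
      rw [hSTeq]
      simp
    rw [Finset.mem_erase, Finset.mem_filter] at hS hT
    obtain ⟨hSR, -, hzS⟩ := hS
    obtain ⟨hTR, -, hzT⟩ := hT
    obtain ⟨hne, hall⟩ := htwo z R S T hz hzR hzS hzT (Ne.symm hSR) (Ne.symm hTR) hST
    have hAS : Adj R S := ⟨Ne.symm hSR, z, hz, hzR, hzS⟩
    have hAT : Adj R T := ⟨Ne.symm hTR, z, hz, hzR, hzT⟩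
    have heq : (Finset.univ.filter (fun C : Set (Sylow 3 G) =>
        ∃ R S : Sylow 3 G, Adj R S ∧ C = star R S)).filter (fun C => R ∈ C)
        = {star R S, star R T} := by
      ext C
      simp only [Finset.mem_filter, Finset.mem_univ, true_and, Finset.mem_insert,
        Finset.mem_singleton]
      constructor
      · rintro ⟨⟨P, P', hPP, rfl⟩, hRC⟩
        exact hall P P' hPP hRC
      · rintro (rfl | rfl)
        · exact ⟨⟨R, S, hAS, rfl⟩, Or.inl rfl⟩
        · exact ⟨⟨R, T, hAT, rfl⟩, Or.inl rfl⟩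
    rw [heq, Finset.card_pair hne]
  -- each star has ten members
  have hC : ∀ C ∈ Finset.univ.filter (fun C : Set (Sylow 3 G) =>
      ∃ R S : Sylow 3 G, Adj R S ∧ C = star R S),
      ((Finset.univ : Finset (Sylow 3 G)).filter (fun R => R ∈ C)).card = 10 := by
    intro C hC
    rw [Finset.mem_filter] at hC
    obtain ⟨-, R, S, hRS, rfl⟩ := hC
    rw [← hcard R S hRS, Set.ncard_eq_toFinset_card']
    congr 1
    ext P
    simp
  have hdc := Finset.sum_card_bipartiteAbove_eq_sum_card_bipartiteBelow
    (s := (Finset.univ : Finset (Sylow 3 G)))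
    (t := Finset.univ.filter (fun C : Set (Sylow 3 G) =>
      ∃ R S : Sylow 3 G, Adj R S ∧ C = star R S)) (fun R C => R ∈ C)
  simp only [Finset.bipartiteAbove, Finset.bipartiteBelow] at hdc
  rw [Finset.sum_congr rfl (fun R _ => hR R), Finset.sum_congr rfl hC, Finset.sum_const,
    Finset.sum_const, Finset.card_univ, ← Nat.card_eq_fintype_card, hl1.raw.num3] at hdc
  rw [Nat.card_eq_fintype_card, Fintype.card_subtype]
  simp only [smul_eq_mul] at hdc
  omega

end Cfsg.Agent.Helper84
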