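import Mathlib
import Cfsg.Agent.Helper48.M11UDefs
import Cfsg.Agent.Helper48.M11UGeo

/-!
# PIECE TAD of CALL S0420 (second attempt by helper84): transitivity on ordered adjacent pairs.
-/

set_option autoImplicit false
set_option linter.unusedSectionVars false
set_option linter.unusedVariables false
open scoped Pointwise

namespace Cfsg.Agent.Helper84

open Cfsg.Agent.Helper48.M11U

universe u
variable {G : Type u} [Group G] [Finite G]

theorem m11u_tad_four {α : Type*} [Fintype α] [DecidableEq α] (p : α → Prop) [DecidablePred p]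
    (a b c d : α) (hab : a ≠ b) (hac : a ≠ c) (had : a ≠ d) (hbc : b ≠ c) (hbd : b ≠ d)
    (hcd : c ≠ d) (pa : p a) (pb : p b) (pc : p c) (pd : p d) :
    4 ≤ (Finset.univ.filter p).card := by
  have hsub : ({a, b, c, d} : Finset α) ⊆ Finset.univ.filter p := by
    intro x hx
    simp only [Finset.mem_insert, Finset.mem_singleton] at hx
    simp only [Finset.mem_filter, Finset.mem_univ, true_and]
    rcases hx with rfl | rfl | rfl | rfl <;> assumption
  have h4 : ({a, b, c, d} : Finset α).card = 4 := by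
    rw [Finset.card_insert_of_notMem, Finset.card_insert_of_notMem, Finset.card_pair hcd]
    · simp [hbc, hbd]
    · simp [hab, hac, had]
  calc 4 = ({a, b, c, d} : Finset α).card := h4.symm
    _ ≤ _ := Finset.card_le_card hsub

theorem m11u_transadj (h : M11Geo G) (R S R' S' : Sylow 3 G) (h1 : Adj R S) (h2 : Adj R' S') :
    ∃ g : G, g • R = R' ∧ g • S = S' := by
  classical
  have : Fintype (Sylow 3 G) := Fintype.ofFinite _
  have hl1 := h.l1
  obtain ⟨g₁, hg₁⟩ := MulAction.exists_smul_eq G R R'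
  have hA1 : Adj R' (g₁ • S) := by
    have h3 := adj_smul h1 g₁
    rwa [hg₁] at h3
  obtain ⟨hne1, z₁, hz₁, hz₁R, hz₁S⟩ := hA1
  obtain ⟨hne2, z₂, hz₂, hz₂R, hz₂S⟩ := h2
  obtain ⟨r, hr, hrz⟩ := hl1.orbI R' z₁ z₂ hz₁ hz₂ hz₁R hz₂R
  have hrR : r • R' = R' := by
    rw [smul_eq_iff]
    exact Subgroup.le_normalizer hr
  have hz₂S₂ : Inv z₂ (r • g₁ • S) := by
    rw [hrz]
    exact inv_conj hz₁S r
  have hne3 : R' ≠ r • g₁ • S := by
    intro e
    apply hne1
    apply smul_left_cancel r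
    rw [hrR]
    exact e
  by_cases hS : r • g₁ • S = S'
  · refine ⟨r * g₁, ?_, ?_⟩
    · rw [mul_smul, hg₁, hrR]
    · rw [mul_smul, hS]
  · obtain ⟨g₂, hg₂z, hg₂R, hg₂S⟩ := h.swap z₂ R' (r • g₁ • S) hz₂ hz₂R hz₂S₂ hne3
    have hz₂X : Inv z₂ (g₂ • r • g₁ • S) := by
      have h3 := inv_conj hz₂S₂ g₂
      have h4 : g₂ * z₂ * g₂⁻¹ = z₂ := by
        rw [hg₂z]
        group
      rwa [h4] at h3
    have hXR : R' ≠ g₂ • r • g₁ • S := by
      intro e
      apply hne3
      apply smul_left_cancel g₂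
      rw [hg₂R]
      exact e
    have hX : g₂ • r • g₁ • S = S' := by
      by_contra hXS
      have h3 := hl1.tri z₂ hz₂
      rw [Nat.card_eq_fintype_card, Fintype.card_subtype] at h3
      have h4 := m11u_tad_four (fun P : Sylow 3 G => Inv z₂ P) R' S' (r • g₁ • S)
        (g₂ • r • g₁ • S) hne2 hne3 hXR (fun e => hS e.symm) (fun e => hXS e.symm)
        (fun e => hg₂S e.symm) hz₂R hz₂S hz₂S₂ hz₂X
      omega
    refine ⟨g₂ * (r * g₁), ?_, ?_⟩
    · rw [mul_smul, mul_smul, hg₁, hrR, hg₂R]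
    · rw [mul_smul, mul_smul, hX]

end Cfsg.Agent.Helper84
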