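import Mathlib
import Cfsg.Prelude.Def_Transfer
import Cfsg.Prelude.Def_Solvable
import Cfsg.Agent.Helper63.N15Defs
import Cfsg.Agent.Helper84.N15C4Lib
import Cfsg.Agent.Helper84.N15C7A

set_option autoImplicit false

namespace Cfsg.Agent.Helper84.N15

open Cfsg.Agent.Helper63.N15

/-- a self-map of prime order: the number of fixed points modulo `p`. -/
theorem c7c2_count {α : Type*} [Finite α] (f : α → α) (p : ℕ) (hp : p.Prime)
    (hf : ∀ x, f^[p] x = x) : Nat.card α ≡ Nat.card {x // f x = x} [MOD p] := by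
  classical
  have : Fact p.Prime := ⟨hp⟩
  have : Fintype α := Fintype.ofFinite _
  let F : Function.End α := f
  have hpow : ∀ n : ℕ, ∀ x, (F ^ n) x = f^[n] x := by
    intro n
    induction n with
    | zero =>
      intro x
      rfl
    | succ n ih =>
      intro x
      rw [pow_succ, Function.iterate_succ_apply]
      exact ih (f x)
  have hFr : F ^ p ^ 1 = 1 := by
    rw [pow_one]
    funext x
    rw [hpow, hf]
    rfl
  have hmod := Equiv.Perm.card_fixedPoints_modEq (p := p) (n := 1) hFr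
  rw [← Nat.card_eq_fintype_card, ← Nat.card_eq_fintype_card] at hmod
  exact hmod

theorem c7c2_conj_iter {G : Type*} [Group G] (P : G → Prop) (g : G)
    (hinv : ∀ x, P x → P (g * x * g⁻¹)) (n : ℕ) (t : {x // P x}) :
    (((fun t : {x // P x} => (⟨g * t.1 * g⁻¹, hinv t.1 t.2⟩ : {x // P x}))^[n] t :
      {x // P x}) : G) = g ^ n * t.1 * (g ^ n)⁻¹ := by
  induction n with
  | zero => simp
  | succ n ih =>
    rw [Function.iterate_succ_apply']
    show g * _ * g⁻¹ = _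
    rw [ih, pow_succ']
    group

theorem c7c2_conj_dvd {G : Type*} [Group G] [Finite G] (P : G → Prop) (g : G) (p : ℕ)
    (hp : p.Prime) (hg : g ^ p = 1) (hinv : ∀ x, P x → P (g * x * g⁻¹))
    (hfix : ∀ x, P x → g * x = x * g → False) : p ∣ Nat.card {x // P x} := by
  have h := c7c2_count
    (fun t : {x // P x} => (⟨g * t.1 * g⁻¹, hinv t.1 t.2⟩ : {x // P x})) p hp
    (by
      intro t
      apply Subtype.ext
      rw [c7c2_conj_iter, hg]
      simp)
  have : IsEmpty {t : {x // P x} //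
      (⟨g * t.1 * g⁻¹, hinv t.1 t.2⟩ : {x // P x}) = t} := by
    constructor
    rintro ⟨t, ht⟩
    have h0 : g * t.1 * g⁻¹ = t.1 := congrArg Subtype.val ht
    exact hfix t.1 t.2 (mul_inv_eq_iff_eq_mul.mp h0)
  have h00 : Nat.card {t : {x // P x} //
      (⟨g * t.1 * g⁻¹, hinv t.1 t.2⟩ : {x // P x}) = t} = 0 := Nat.card_of_isEmpty
  rw [h00] at h
  exact (Nat.modEq_zero_iff_dvd).mp h

theorem c7c2_conj_two {G : Type*} [Group G] [Finite G] (P : G → Prop) (g : G) (p : ℕ)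
    (hp : p.Prime) (hg : g ^ p = 1) (hinv : ∀ x, P x → P (g * x * g⁻¹)) (z : G) (hP1 : P 1)
    (hPz : P z) (hz1 : z ≠ 1) (hgz : g * z = z * g)
    (hfix : ∀ x, P x → g * x = x * g → x = 1 ∨ x = z) :
    Nat.card {x // P x} ≡ 2 [MOD p] := by
  have h := c7c2_count
    (fun t : {x // P x} => (⟨g * t.1 * g⁻¹, hinv t.1 t.2⟩ : {x // P x})) p hp
    (by
      intro t
      apply Subtype.ext
      rw [c7c2_conj_iter, hg]
      simp)
  have h2 : Nat.card {t : {x // P x} //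
      (⟨g * t.1 * g⁻¹, hinv t.1 t.2⟩ : {x // P x}) = t} = 2 := by
    rw [Nat.card_eq_two_iff' (⟨⟨1, hP1⟩, by apply Subtype.ext; simp⟩ : {t : {x // P x} //
      (⟨g * t.1 * g⁻¹, hinv t.1 t.2⟩ : {x // P x}) = t})]
    refine ⟨⟨⟨z, hPz⟩, by apply Subtype.ext; show g * z * g⁻¹ = z; rw [hgz]; group⟩, ?_, ?_⟩
    · intro h0
      exact hz1 (congrArg (fun w : {t : {x // P x} //
        (⟨g * t.1 * g⁻¹, hinv t.1 t.2⟩ : {x // P x}) = t} => (w.1.1 : G)) h0)
    · rintro ⟨t, ht⟩ hne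
      have h0 : g * t.1 * g⁻¹ = t.1 := congrArg Subtype.val ht
      rcases hfix t.1 t.2 (mul_inv_eq_iff_eq_mul.mp h0) with h1 | h1
      · exfalso
        apply hne
        apply Subtype.ext
        apply Subtype.ext
        exact h1
      · apply Subtype.ext
        apply Subtype.ext
        exact h1
  rw [h2] at h
  exact h

theorem c7c2_mul_even {G : Type*} [Group G] [Finite G] (P : G → Prop) (z : G)
    (hzz : z * z = 1) (hz1 : z ≠ 1) (hinv : ∀ x, P x → P (x * z)) :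
    2 ∣ Nat.card {x // P x} := by
  have h := c7c2_count
    (fun t : {x // P x} => (⟨t.1 * z, hinv t.1 t.2⟩ : {x // P x})) 2 Nat.prime_two
    (by
      intro t
      apply Subtype.ext
      show t.1 * z * z = t.1
      rw [mul_assoc, hzz, mul_one])
  have : IsEmpty {t : {x // P x} // (⟨t.1 * z, hinv t.1 t.2⟩ : {x // P x}) = t} := by
    constructor
    rintro ⟨t, ht⟩
    have h0 : t.1 * z = t.1 := congrArg Subtype.val ht
    exact hz1 (mul_left_cancel (a := t.1) (by rw [h0, mul_one]))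
  have h00 : Nat.card {t : {x // P x} // (⟨t.1 * z, hinv t.1 t.2⟩ : {x // P x}) = t} = 0 :=
    Nat.card_of_isEmpty
  rw [h00] at h
  exact (Nat.modEq_zero_iff_dvd).mp h

theorem c7c2_num (k : ℕ) (hk : k ≤ 5) (h : 2 ^ k ≡ 2 [MOD 5]) : k = 1 ∨ k = 5 := by
  interval_cases k <;> first | omega | (exfalso; revert h; decide)

variable {G : Type*} [Group G] [Finite G] {V : Type*} [AddCommGroup V] [Module (ZMod 3) V]
  [Finite V] {ρ : Representation (ZMod 3) G V} {R : Subgroup G} {b q₁ q₂ q₃ : G} {v₁ v₂ v₃ : V}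

omit [Finite G] [Finite V] in
/-- an element of odd order commuting with `t` modulo `Z` commutes with `t`. -/
theorem c7c2_comm_of_isZ (c : Cfg ρ R b q₁ q₂ q₃ v₁ v₂ v₃) (g t : G) (m : ℕ)
    (hg : g ^ (2 * m + 1) = 1) (hζ : IsZ ρ (g * t * g⁻¹ * t⁻¹)) : g * t = t * g := by
  have hc := c7a_isZ_central c hζ
  have h2 := c7a_isZ_sq c hζ
  have h1 : g * t = (g * t * g⁻¹ * t⁻¹) * (t * g) := by group
  generalize g * t * g⁻¹ * t⁻¹ = ζ at hc h2 h1
  have hyy : (g * g) * t = t * (g * g) := by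
    calc (g * g) * t = g * (g * t) := by group
      _ = g * (ζ * (t * g)) := by rw [← h1]
      _ = (g * ζ) * (t * g) := by group
      _ = (ζ * g) * (t * g) := by rw [hc g]
      _ = ζ * ((g * t) * g) := by group
      _ = ζ * ((ζ * (t * g)) * g) := by rw [← h1]
      _ = (ζ * ζ) * (t * (g * g)) := by group
      _ = t * (g * g) := by rw [h2, one_mul]
  have hcm : Commute ((g * g) ^ m) t := (show Commute (g * g) t from hyy).pow_left m
  have hinv : (g * g) ^ m = g⁻¹ := by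
    apply eq_inv_of_mul_eq_one_left
    rw [← pow_two, ← pow_mul, ← pow_succ, hg]
  rw [hinv] at hcm
  exact (Commute.inv_left_iff.mp hcm).eq

/-- C7c2. With `y` of order `5` fixed-point-free on `T / (Z ∩ T)` and commuting with `b` modulo
`T`: `|T| = 32` and all elements of `T` outside `Z` have the same "square type". -/
theorem c7c2 (c : Cfg ρ R b q₁ q₂ q₃ v₁ v₂ v₃) (htp : TProps R (T2 R))
    (hz : ZProps ρ (T2 R)) (hTnZ : ∃ t ∈ T2 R, ¬ IsZ ρ t)
    (hf2 : ∀ N : Subgroup G, N.Normal → (∀ x ∈ N, x * b = b * x) →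
      ∀ x ∈ N, ∀ g : G, x * g = g * x)
    (hlz : ∀ z : G, (∀ g : G, z * g = g * z) → IsZ ρ z)
    (h32 : Nat.card (T2 R) ≤ 32) (y : G) (hy5 : y ^ 5 = 1)
    (hfpf : ∀ t ∈ T2 R, IsZ ρ (y * t * y⁻¹ * t⁻¹) → IsZ ρ t)
    (hby : b * y * b⁻¹ * y⁻¹ ∈ T2 R) :
    Nat.card (T2 R) = 32 ∧ ∀ t ∈ T2 R, ∀ t' ∈ T2 R, ¬ IsZ ρ t → ¬ IsZ ρ t' →
      (t * t = 1 ↔ t' * t' = 1) := by
  classical
  obtain ⟨hTn, hTR, hT2, hTmax⟩ := htp
  obtain ⟨hzsq, hzcomm, hzcen⟩ := hz
  -- an element of `T` acting as `-1`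
  have hex : ∃ z ∈ T2 R, ∀ v, ρ z v = -v := by
    by_contra hno
    have hZ1 : ∀ t ∈ T2 R, IsZ ρ t → t = 1 := by
      intro t ht h
      rcases h with h | h
      · exact h
      · exact absurd ⟨t, ht, h⟩ hno
    have hab : ∀ t ∈ T2 R, IsZ ρ t := by
      intro t ht
      apply hzcen t ht
      intro s hs
      have hmem : t * s * t⁻¹ * s⁻¹ ∈ T2 R :=
        mul_mem (mul_mem (mul_mem ht hs) (inv_mem ht)) (inv_mem hs)
      have h1 := hZ1 _ hmem (hzcomm t ht s hs)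
      calc t * s = (t * s * t⁻¹ * s⁻¹) * (s * t) := by group
        _ = s * t := by rw [h1, one_mul]
    obtain ⟨t, ht, hnt⟩ := hTnZ
    exact hnt (hab t ht)
  obtain ⟨z, hzT, hzv⟩ := hex
  have hzZ : IsZ ρ z := Or.inr hzv
  have hz1 : z ≠ 1 := by
    intro h
    have h0 := hzv v₁
    rw [h, map_one] at h0
    exact c.v1 (c4_eq_zero_of_eq_neg h0)
  have hzc := c7a_isZ_central c hzZ
  have hzz : z * z = 1 := c7a_isZ_sq c hzZ
  have hZeq : ∀ x : G, IsZ ρ x → x = 1 ∨ x = z := by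
    intro x hx
    rcases hx with h | h
    · exact Or.inl h
    · right
      have h1 : x⁻¹ * z = 1 := by
        apply c.faith
        intro v
        rw [c4_mul, hzv, ← h v, c4_inv]
      exact inv_mul_eq_one.mp h1
  have hZconj : ∀ g x : G, IsZ ρ (g * x * g⁻¹) → IsZ ρ x := by
    intro g x h
    have hc := c7a_isZ_central c h g
    have h1 : g * x = g * (g * x * g⁻¹) := by
      rw [← hc]
      group
    have h2 : g * x * g⁻¹ = x := (mul_left_cancel h1).symm
    rwa [h2] at h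
  have hCy : ∀ x ∈ T2 R, y * x = x * y → x = 1 ∨ x = z := by
    intro x hx hxy
    apply hZeq
    apply hfpf x hx
    left
    rw [hxy]
    group
  -- `|T| = 32`
  have hTmod := c7c2_conj_two (fun x => x ∈ T2 R) y 5 (by norm_num) hy5
    (fun x hx => hTn.conj_mem x hx y) z (one_mem _) hzT hz1 (hzc y).symm hCy
  have : Fact (Nat.Prime 2) := ⟨Nat.prime_two⟩
  obtain ⟨k, hk⟩ := (IsPGroup.iff_card (p := 2) (G := ↥(T2 R))).mp hT2
  have hk' : Nat.card {x // x ∈ T2 R} = 2 ^ k := hk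
  have hk5 : k ≤ 5 := by
    by_contra hlt
    have hlt := not_le.mp hlt
    have h6 : 2 ^ 6 ≤ 2 ^ k := Nat.pow_le_pow_right (by norm_num) hlt
    rw [hk] at h32
    omega
  rw [hk'] at hTmod
  have hcard : Nat.card (T2 R) = 32 := by
    rcases c7c2_num k hk5 hTmod with h | h
    · exfalso
      obtain ⟨t, ht, hnt⟩ := hTnZ
      have h2 : Nat.card ↥(T2 R) = 2 := by rw [hk, h, pow_one]
      obtain ⟨w, -, hw⟩ := (Nat.card_eq_two_iff' (1 : ↥(T2 R))).mp h2
      have e1 : (⟨z, hzT⟩ : ↥(T2 R)) = w := hw _ (fun h0 => hz1 (congrArg Subtype.val h0))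
      by_cases ht1 : t = 1
      · exact hnt (Or.inl ht1)
      · have e2 : (⟨t, ht⟩ : ↥(T2 R)) = w := hw _ (fun h0 => ht1 (congrArg Subtype.val h0))
        have e3 : t = z := congrArg Subtype.val (e2.trans e1.symm)
        exact hnt (e3 ▸ hzZ)
    · rw [hk, h]
      norm_num
  refine ⟨hcard, ?_⟩
  -- the centralizer of `b` in `T`
  have hFb : ∀ t : G, IsZ ρ (b * t * b⁻¹ * t⁻¹) → b * t = t * b := fun t h =>
    c7c2_comm_of_isZ c b t 1 c.b3 h
  set Bs : Subgroup G := T2 R ⊓ Subgroup.centralizer {b} with hBs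
  have hmemB : ∀ x, x ∈ Bs ↔ x ∈ T2 R ∧ b * x = x * b := by
    intro x
    rw [hBs, Subgroup.mem_inf, Subgroup.mem_centralizer_iff]
    constructor
    · rintro ⟨h1, h2⟩
      exact ⟨h1, h2 b rfl⟩
    · rintro ⟨h1, h2⟩
      refine ⟨h1, fun g hg => ?_⟩
      rw [Set.mem_singleton_iff.mp hg]
      exact h2
  have hBinv : ∀ x, x ∈ Bs → y * x * y⁻¹ ∈ Bs := by
    intro x hx
    obtain ⟨hxT, hxb⟩ := (hmemB x).mp hx
    have hsT : y * x * y⁻¹ ∈ T2 R := hTn.conj_mem x hxT y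
    refine (hmemB _).mpr ⟨hsT, hFb _ ?_⟩
    have hx' : b⁻¹ * x * b = x := by
      rw [mul_assoc, ← hxb]
      group
    have e : b * (y * x * y⁻¹) * b⁻¹ * (y * x * y⁻¹)⁻¹ =
        (b * y * b⁻¹ * y⁻¹) * (y * x * y⁻¹) * (b * y * b⁻¹ * y⁻¹)⁻¹ * (y * x * y⁻¹)⁻¹ := by
      calc b * (y * x * y⁻¹) * b⁻¹ * (y * x * y⁻¹)⁻¹
          = b * y * (b⁻¹ * x * b) * y⁻¹ * b⁻¹ * (y * x * y⁻¹)⁻¹ := by
            rw [hx']
            group
        _ = _ := by group
    rw [e]
    exact hzcomm _ hby _ hsT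
  have hzB : z ∈ Bs := (hmemB z).mpr ⟨hzT, (hzc b).symm⟩
  have hBmod := c7c2_conj_two (fun x => x ∈ Bs) y 5 (by norm_num) hy5 hBinv z (one_mem _) hzB
    hz1 (hzc y).symm (fun x hx hxy => hCy x ((hmemB x).mp hx).1 hxy)
  have hBdvd : Nat.card ↥Bs ∣ 2 ^ 5 := by
    have h0 := Subgroup.card_dvd_of_le (inf_le_left : Bs ≤ T2 R)
    rw [hcard] at h0
    exact h0
  obtain ⟨j, hj5, hj⟩ := (Nat.dvd_prime_pow Nat.prime_two).mp hBdvd
  have hj' : Nat.card {x // x ∈ Bs} = 2 ^ j := hj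
  rw [hj'] at hBmod
  have hBZ : ∀ x ∈ T2 R, b * x = x * b → IsZ ρ x := by
    intro x hxT hxb
    rcases c7c2_num j hj5 hBmod with h | h
    · have h2 : Nat.card ↥Bs = 2 := by rw [hj, h, pow_one]
      obtain ⟨w, -, hw⟩ := (Nat.card_eq_two_iff' (1 : ↥Bs)).mp h2
      have hxB : x ∈ Bs := (hmemB x).mpr ⟨hxT, hxb⟩
      have e1 : (⟨z, hzB⟩ : ↥Bs) = w := hw _ (fun h0 => hz1 (congrArg Subtype.val h0))
      by_cases hx1 : x = 1
      · exact Or.inl hx1
      · have e2 : (⟨x, hxB⟩ : ↥Bs) = w := hw _ (fun h0 => hx1 (congrArg Subtype.val h0))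
        have e3 : x = z := congrArg Subtype.val (e2.trans e1.symm)
        rw [e3]
        exact hzZ
    · exfalso
      have hBT : Bs = T2 R := Subgroup.eq_of_le_of_card_ge inf_le_left (by rw [hj, h, hcard]; norm_num)
      have hall : ∀ x ∈ T2 R, x * b = b * x := by
        intro x hx
        have hxB : x ∈ Bs := by
          rw [hBT]
          exact hx
        exact ((hmemB x).mp hxB).2.symm
      obtain ⟨t, ht, hnt⟩ := hTnZ
      exact hnt (hlz t (hf2 (T2 R) hTn hall t ht))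
  -- divisibility by `30` of the invariant classes
  have h30 : ∀ P : G → Prop, (∀ x, P x → x ∈ T2 R ∧ ¬ IsZ ρ x) →
      (∀ g x, P x → P (g * x * g⁻¹)) → (∀ x, P x → P (x * z)) →
      30 ∣ Nat.card {x // P x} := by
    intro P hP hPc hPz
    have h5 : 5 ∣ Nat.card {x // P x} := c7c2_conj_dvd P y 5 (by norm_num) hy5 (hPc y)
      (fun x hx hxy => (hP x hx).2 (by
        rcases hCy x (hP x hx).1 hxy with h | h
        · exact Or.inl h
        · exact h ▸ hzZ))
    have h3 : 3 ∣ Nat.card {x // P x} := c7c2_conj_dvd P b 3 (by norm_num) c.b3 (hPc b)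
      (fun x hx hxb => (hP x hx).2 (hBZ x (hP x hx).1 hxb))
    have h2 : 2 ∣ Nat.card {x // P x} := c7c2_mul_even P z hzz hz1 hPz
    omega
  have hnZz : ∀ x : G, ¬ IsZ ρ x → ¬ IsZ ρ (x * z) := by
    intro x hx h
    apply hx
    rcases hZeq _ h with h1 | h1
    · have e : x = z := by
        calc x = (x * z) * z := by rw [mul_assoc, hzz, mul_one]
          _ = z := by rw [h1, one_mul]
      exact e ▸ hzZ
    · left
      exact mul_right_cancel (b := z) (by rw [h1, one_mul])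
  have hsqz : ∀ x : G, (x * z) * (x * z) = x * x := by
    intro x
    calc (x * z) * (x * z) = x * (z * x) * z := by group
      _ = x * (x * z) * z := by rw [hzc x]
      _ = x * x * (z * z) := by group
      _ = x * x := by rw [hzz, mul_one]
  have hsqc : ∀ g x : G, (g * x * g⁻¹) * (g * x * g⁻¹) = g * (x * x) * g⁻¹ := by
    intro g x
    group
  have key : ∀ s ∈ T2 R, ∀ s' ∈ T2 R, ¬ IsZ ρ s → ¬ IsZ ρ s' → s * s = 1 → s' * s' ≠ 1 →
      False := by
    intro s hs s' hs' hns hns' hss hss'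
    have hI := h30 (fun x => x ∈ T2 R ∧ ¬ IsZ ρ x ∧ x * x = 1) (fun x hx => ⟨hx.1, hx.2.1⟩)
      (fun g x hx => ⟨hTn.conj_mem x hx.1 g, fun h => hx.2.1 (hZconj g x h), by
        rw [hsqc, hx.2.2]
        group⟩)
      (fun x hx => ⟨mul_mem hx.1 hzT, hnZz x hx.2.1, by rw [hsqz, hx.2.2]⟩)
    have hJ := h30 (fun x => x ∈ T2 R ∧ ¬ IsZ ρ x ∧ x * x ≠ 1) (fun x hx => ⟨hx.1, hx.2.1⟩)
      (fun g x hx => ⟨hTn.conj_mem x hx.1 g, fun h => hx.2.1 (hZconj g x h), fun h => by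
        apply hx.2.2
        rw [hsqc] at h
        have h1 : x * x = g⁻¹ * (g * (x * x) * g⁻¹) * g := by group
        rw [h1, h]
        group⟩)
      (fun x hx => ⟨mul_mem hx.1 hzT, hnZz x hx.2.1, by rw [hsqz]; exact hx.2.2⟩)
    have hIpos : 0 < Nat.card {x // x ∈ T2 R ∧ ¬ IsZ ρ x ∧ x * x = 1} :=
      Nat.card_pos_iff.mpr ⟨⟨⟨s, hs, hns, hss⟩⟩, inferInstance⟩
    have hJpos : 0 < Nat.card {x // x ∈ T2 R ∧ ¬ IsZ ρ x ∧ x * x ≠ 1} :=
      Nat.card_pos_iff.mpr ⟨⟨⟨s', hs', hns', hss'⟩⟩, inferInstance⟩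
    have hI30 := Nat.le_of_dvd hIpos hI
    have hJ30 := Nat.le_of_dvd hJpos hJ
    have hinj : Function.Injective
        (Sum.elim (fun x : {x // x ∈ T2 R ∧ ¬ IsZ ρ x ∧ x * x = 1} => (⟨x.1, x.2.1⟩ : ↥(T2 R)))
          (fun x : {x // x ∈ T2 R ∧ ¬ IsZ ρ x ∧ x * x ≠ 1} => (⟨x.1, x.2.1⟩ : ↥(T2 R)))) := by
      rintro (⟨a, ha⟩ | ⟨a, ha⟩) (⟨a', ha'⟩ | ⟨a', ha'⟩) h
      · have e : a = a' := congrArg Subtype.val h
        subst e
        rfl
      · have e : a = a' := congrArg Subtype.val h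
        subst e
        exact absurd ha.2.2 ha'.2.2
      · have e : a = a' := congrArg Subtype.val h
        subst e
        exact absurd ha'.2.2 ha.2.2
      · have e : a = a' := congrArg Subtype.val h
        subst e
        rfl
    have hle := Nat.card_le_card_of_injective _ hinj
    rw [Nat.card_sum, hcard] at hle
    omega
  intro t ht t' ht' hnt hnt'
  constructor
  · intro h
    by_contra h'
    exact key t ht t' ht' hnt hnt' h h'
  · intro h
    by_contra h'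
    exact key t' ht' t ht hnt' hnt h h'

end Cfsg.Agent.Helper84.N15
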