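import Cfsg.Agent.Helper55.N9Defs
import Cfsg.Agent.Helper84.N9TR2

/-! CALL S4409 (helper55) piece C2a (helper84, double). -/

set_option autoImplicit false

namespace Cfsg.Agent.Helper84.N9

open Subgroup Cfsg.Agent.Helper55.N9

/-- a group normalizing `X` normalizes `sqs X` -/
theorem n9c2a_norm_sqs {G : Type*} [Group G] (X N : Subgroup G)
    (hN : N ≤ normalizer (X : Set G)) :
    N ≤ normalizer ((sqs X : Subgroup G) : Set G) := by
  have key : ∀ m ∈ N, ∀ h ∈ sqs X, m * h * m⁻¹ ∈ sqs X := by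
    intro m hm h hh
    unfold sqs at hh ⊢
    induction hh using Subgroup.closure_induction with
    | mem g hg =>
      obtain ⟨x, hx, rfl⟩ := hg
      apply Subgroup.subset_closure
      refine ⟨m * x * m⁻¹, ?_, ?_⟩
      · exact ((Subgroup.mem_normalizer_iff.mp (hN hm)) x).mp hx
      · exact conj_pow.symm
    | one =>
      have h1 : m * 1 * m⁻¹ = 1 := by group
      rw [h1]
      exact Subgroup.one_mem _
    | mul a b _ _ ha hb =>
      have h1 : m * (a * b) * m⁻¹ = (m * a * m⁻¹) * (m * b * m⁻¹) := by group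
      rw [h1]
      exact Subgroup.mul_mem _ ha hb
    | inv a _ ha =>
      have h1 : m * a⁻¹ * m⁻¹ = (m * a * m⁻¹)⁻¹ := by group
      rw [h1]
      exact Subgroup.inv_mem _ ha
  intro n hn
  rw [Subgroup.mem_normalizer_iff]
  intro h
  constructor
  · exact key n hn h
  · intro hh
    have h2 := key n⁻¹ (N.inv_mem hn) _ hh
    have h3 : n⁻¹ * (n * h * n⁻¹) * n⁻¹⁻¹ = h := by group
    rwa [h3] at h2

/-- a group normalizing `X` and `F` normalizes `C_X(F)` -/
theorem n9c2a_norm_cent {G : Type*} [Group G] (X F K : Subgroup G)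
    (hX : K ≤ normalizer (X : Set G)) (hF : K ≤ normalizer (F : Set G)) :
    K ≤ normalizer ((X ⊓ centralizer (F : Set G) : Subgroup G) : Set G) := by
  have key : ∀ k ∈ K, ∀ h ∈ X ⊓ centralizer (F : Set G),
      k * h * k⁻¹ ∈ X ⊓ centralizer (F : Set G) := by
    intro k hk h hh
    obtain ⟨hh1, hh2⟩ := Subgroup.mem_inf.mp hh
    refine Subgroup.mem_inf.mpr ⟨((Subgroup.mem_normalizer_iff.mp (hX hk)) h).mp hh1, ?_⟩
    rw [Subgroup.mem_centralizer_iff]
    intro f hf
    have hf' : k⁻¹ * f * k ∈ F := ((Subgroup.mem_normalizer_iff''.mp (hF hk)) f).mp hf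
    have h1 := (Subgroup.mem_centralizer_iff.mp hh2) _ hf'
    calc f * (k * h * k⁻¹) = k * ((k⁻¹ * f * k) * h) * k⁻¹ := by group
      _ = k * (h * (k⁻¹ * f * k)) * k⁻¹ := by rw [h1]
      _ = k * h * k⁻¹ * f := by group
  intro n hn
  rw [Subgroup.mem_normalizer_iff]
  intro h
  constructor
  · exact key n hn h
  · intro hh
    have h2 := key n⁻¹ (K.inv_mem hn) _ hh
    have h3 : n⁻¹ * (n * h * n⁻¹) * n⁻¹⁻¹ = h := by group
    rwa [h3] at h2

/-- in a nontrivial finite 2-group the squares generate a proper subgroup -/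
theorem n9c2a_sqs_ne {G : Type*} [Group G] [Finite G] (X : Subgroup G) (hX : IsPGroup 2 X)
    (hne : X ≠ ⊥) : sqs X ≠ X := by
  intro hEq
  have : Nontrivial ↥X := (Subgroup.nontrivial_iff_ne_bot X).mpr hne
  obtain ⟨M, hM⟩ : ∃ M : Subgroup ↥X, IsCoatom M := by
    obtain h | ⟨M, hM, -⟩ := IsCoatomic.eq_top_or_exists_le_coatom (⊥ : Subgroup ↥X)
    · exact absurd h bot_ne_top
    · exact ⟨M, hM⟩
  have hidx : M.index = 2 := n9tr2_coatom_index hX M hM
  have hle : sqs X ≤ M.map X.subtype := by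
    unfold sqs
    rw [Subgroup.closure_le]
    rintro g ⟨x, hx, rfl⟩
    exact ⟨⟨x, hx⟩ ^ 2, Subgroup.sq_mem_of_index_two hidx _, rfl⟩
  apply hM.1
  rw [eq_top_iff]
  intro y _
  have hy : (y : G) ∈ M.map X.subtype := hle (by rw [hEq]; exact y.2)
  exact (Subgroup.mem_map_iff_mem X.subtype_injective).mp hy

variable {G : Type*} [Group G] [Finite G]

/-- PIECE C2a -/
theorem n9_case2_sq (T : Tools G) (X K : Subgroup G) (c : Core X K) (hXK : ⁅X, K⁆ = X)
    (hni : NoIdx2 K X)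
    (hs : ∀ Y : Subgroup G, Y ≤ X → Y ≠ X → K ≤ normalizer (Y : Set G) →
      ¬ Y ≤ centralizer (K : Set G) → MinCfg K Y ∧ (IsV4 Y ∨ IsQ8 Y)) :
    ∀ x ∈ X, x ^ 2 ∈ zc X := by
  have hFX : sqs X ≤ X := by
    unfold sqs
    rw [Subgroup.closure_le]
    rintro g ⟨x, hx, rfl⟩
    exact X.pow_mem hx 2
  have hFK : K ≤ normalizer ((sqs X : Subgroup G) : Set G) := n9c2a_norm_sqs X K c.inv
  have hFn : X ≤ normalizer ((sqs X : Subgroup G) : Set G) :=
    n9c2a_norm_sqs X X Subgroup.le_normalizer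
  have hsq : ∀ x ∈ X, x ^ 2 ∈ sqs X := fun x hx => Subgroup.subset_closure ⟨x, hx, rfl⟩
  suffices hcen : sqs X ≤ centralizer (X : Set G) by
    intro x hx
    exact Subgroup.mem_inf.mpr ⟨X.pow_mem hx 2, hcen (hsq x hx)⟩
  by_cases hFc : sqs X ≤ centralizer (K : Set G)
  · exact T.star X K (sqs X) hXK hFX hFn hFc
  · have hXne : X ≠ ⊥ := by
      intro hbot
      apply hFc
      have h1 : sqs X ≤ ⊥ := hbot ▸ hFX
      exact h1.trans bot_le
    have hne : sqs X ≠ X := n9c2a_sqs_ne X c.pX hXne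
    obtain ⟨-, hV | hQ⟩ := hs (sqs X) hFX hne hFK hFc
    · have h2 := T.autV4 (sqs X) X c.pX hV hFn
      have hMK : K ≤ normalizer
          ((X ⊓ centralizer ((sqs X : Subgroup G) : Set G) : Subgroup G) : Set G) :=
        n9c2a_norm_cent X (sqs X) K c.inv hFK
      have h0 : (X ⊓ centralizer ((sqs X : Subgroup G) : Set G)).relIndex X ≠ 0 :=
        Subgroup.index_ne_zero_of_finite
      have h2' : (X ⊓ centralizer ((sqs X : Subgroup G) : Set G)).relIndex X ≠ 2 :=
        fun h => hni _ inf_le_left h hMK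
      have h1 : (X ⊓ centralizer ((sqs X : Subgroup G) : Set G)).relIndex X = 1 := by omega
      have hXle := Subgroup.relIndex_eq_one.mp h1
      rw [Subgroup.le_centralizer_iff]
      exact hXle.trans inf_le_right
    · exact (T.q8_not_sqs X c.pX hQ).elim

end Cfsg.Agent.Helper84.N9
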