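-- helper84 library for S2490 (helper10's row): a group of order 7920 in which every proper
-- nontrivial normal subgroup has order divisible by 2 * 3 * 5 * 11 is simple (CASE 2).
import Mathlib
import Cfsg.Agent.Helper8.SylFix

set_option autoImplicit false
set_option linter.style.haveILetI false

namespace Cfsg.Agent.Helper84

open Subgroup

section General

variable {G : Type*} [Group G] [Finite G]

/-- Frattini count: a normal subgroup `K` containing the Sylow subgroup `P` has
`|K| = |K ∩ N_G(P)| * n_p`. -/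
theorem o7920_frattini_card {p : ℕ} [Fact p.Prime] (K : Subgroup G) [K.Normal] (P : Sylow p G)
    (hPK : (P : Subgroup G) ≤ K) :
    Nat.card (K ⊓ normalizer ((P : Subgroup G) : Set G) : Subgroup G) * Nat.card (Sylow p G)
      = Nat.card K := by
  set H := normalizer ((P : Subgroup G) : Set G) with hH
  have h1 : H ⊔ K = ⊤ := Sylow.normalizer_sup_eq_top' P hPK
  have h2 : K.relIndex H = K.index := by
    rw [← relIndex_sup_right (H := H) (K := K), h1, relIndex_top_right]
  have h3 : (K ⊓ H).relIndex H = K.index := by rw [inf_relIndex_right, h2]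
  have h4 : Nat.card (K ⊓ H : Subgroup G) * (K ⊓ H).relIndex H = Nat.card H := by
    have := ((K ⊓ H).subgroupOf H).card_mul_index
    rw [Nat.card_congr (Subgroup.subgroupOfEquivOfLe inf_le_right).toEquiv] at this
    exact this
  have h5 : Nat.card H * Nat.card (Sylow p G) = Nat.card G := by
    rw [P.card_eq_index_normalizer]
    exact H.card_mul_index
  have h6 := K.card_mul_index
  have hK0 : 0 < K.index := Nat.pos_of_ne_zero Subgroup.index_ne_zero_of_finite
  apply Nat.eq_of_mul_eq_mul_right hK0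
  rw [h6, ← h5, ← h4, h3]
  ring

/-- an element normalising a Sylow subgroup of prime order `p` has its `(p-1)`-st power in the
centraliser. -/
theorem o7920_pow_mem_centralizer {p : ℕ} [Fact p.Prime] (P : Sylow p G)
    (hP : Nat.card (P : Subgroup G) = p) (x : G)
    (hx : x ∈ normalizer ((P : Subgroup G) : Set G)) :
    x ^ (p - 1) ∈ centralizer ((P : Subgroup G) : Set G) := by
  have hp : p.Prime := Fact.out
  have hcyc : IsCyclic ↥(P : Subgroup G) := isCyclic_of_prime_card hP
  have hcard_aut : Nat.card (MulAut ↥(P : Subgroup G)) = p - 1 := by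
    rw [IsCyclic.card_mulAut, hP, Nat.totient_prime hp]
  have h1 : (Subgroup.normalizerMonoidHom (P : Subgroup G) ⟨x, hx⟩) ^ (p - 1) = 1 := by
    rw [← hcard_aut]
    exact pow_card_eq_one'
  have h2 : (⟨x, hx⟩ : normalizer ((P : Subgroup G) : Set G)) ^ (p - 1) ∈
      (Subgroup.normalizerMonoidHom (P : Subgroup G)).ker := by
    rw [MonoidHom.mem_ker, map_pow, h1]
  rw [Subgroup.normalizerMonoidHom_ker, Subgroup.mem_subgroupOf] at h2
  exact h2

/-- a subgroup of the normaliser of a Sylow subgroup of prime order `p` meeting the centraliser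
trivially has order dividing `p - 1`. -/
theorem o7920_card_dvd_of_inf_centralizer {p : ℕ} [Fact p.Prime] (P : Sylow p G)
    (hP : Nat.card (P : Subgroup G) = p) (T : Subgroup G)
    (hT : T ≤ normalizer ((P : Subgroup G) : Set G))
    (hTC : ∀ t ∈ T, t ∈ centralizer ((P : Subgroup G) : Set G) → t = 1) :
    Nat.card T ∣ p - 1 := by
  have hp : p.Prime := Fact.out
  have hcyc : IsCyclic ↥(P : Subgroup G) := isCyclic_of_prime_card hP
  have hcard_aut : Nat.card (MulAut ↥(P : Subgroup G)) = p - 1 := by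
    rw [IsCyclic.card_mulAut, hP, Nat.totient_prime hp]
  let ψ : ↥T →* MulAut ↥(P : Subgroup G) :=
    (Subgroup.normalizerMonoidHom (P : Subgroup G)).comp (Subgroup.inclusion hT)
  have hinj : Function.Injective ψ := by
    rw [← MonoidHom.ker_eq_bot_iff, eq_bot_iff]
    intro t ht
    have h2 : Subgroup.inclusion hT t ∈ (Subgroup.normalizerMonoidHom (P : Subgroup G)).ker := ht
    rw [Subgroup.normalizerMonoidHom_ker, Subgroup.mem_subgroupOf] at h2
    rw [Subgroup.mem_bot]
    exact Subtype.ext (hTC t t.2 h2)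
  have := Subgroup.card_dvd_of_injective ψ hinj
  rwa [hcard_aut] at this

omit [Finite G] in
/-- a minimal normal subgroup containing a nontrivial element of odd order has no nontrivial
homomorphism to a group of exponent `2 ^ m`. -/
theorem o7920_perf (N : Subgroup G) [hN : N.Normal]
    (hmin : ∀ K : Subgroup G, K.Normal → K ≠ ⊥ → K ≤ N → K = N)
    (hodd : ∃ x ∈ N, x ≠ 1 ∧ Odd (orderOf x))
    {A : Type*} [Group A] (m : ℕ) (hA : ∀ a : A, a ^ (2 ^ m) = 1) (τ : ↥N →* A) (n : ↥N) :
    τ n = 1 := by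
  have hLN : Subgroup.closure {x : G | x ∈ N ∧ Odd (orderOf x)} ≤ N :=
    (Subgroup.closure_le N).mpr (fun x hx => hx.1)
  have hLnormal : (Subgroup.closure {x : G | x ∈ N ∧ Odd (orderOf x)}).Normal := by
    constructor
    intro a ha g
    induction ha using Subgroup.closure_induction with
    | mem x hx =>
      apply Subgroup.subset_closure
      refine ⟨hN.conj_mem x hx.1 g, ?_⟩
      have : orderOf (g * x * g⁻¹) = orderOf x := by
        rw [← MulAut.conj_apply, MulEquiv.orderOf_eq]
      rw [this]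
      exact hx.2
    | one => simp
    | mul x y _ _ hx hy =>
      have : g * (x * y) * g⁻¹ = (g * x * g⁻¹) * (g * y * g⁻¹) := by group
      rw [this]
      exact Subgroup.mul_mem _ hx hy
    | inv x _ hx =>
      have : g * x⁻¹ * g⁻¹ = (g * x * g⁻¹)⁻¹ := by group
      rw [this]
      exact Subgroup.inv_mem _ hx
  have hLb : Subgroup.closure {x : G | x ∈ N ∧ Odd (orderOf x)} ≠ ⊥ := by
    obtain ⟨x, hxN, hx1, hxo⟩ := hodd
    intro h
    have : x ∈ Subgroup.closure {x : G | x ∈ N ∧ Odd (orderOf x)} :=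
      Subgroup.subset_closure ⟨hxN, hxo⟩
    rw [h, Subgroup.mem_bot] at this
    exact hx1 this
  have hL := hmin _ hLnormal hLb hLN
  have key : ∀ y ∈ Subgroup.closure {x : G | x ∈ N ∧ Odd (orderOf x)},
      ∀ h : y ∈ N, τ ⟨y, h⟩ = 1 := by
    intro y hy
    induction hy using Subgroup.closure_induction with
    | mem x hx =>
      intro h
      have h1 : orderOf (τ ⟨x, h⟩) ∣ orderOf x := by
        have := orderOf_map_dvd τ (⟨x, h⟩ : N)
        rwa [Subgroup.orderOf_mk] at this
      have h2 : orderOf (τ ⟨x, h⟩) ∣ 2 ^ m := orderOf_dvd_of_pow_eq_one (hA _)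
      have h3 : Nat.Coprime (orderOf x) (2 ^ m) := Nat.Coprime.pow_right m hx.2.coprime_two_right
      have h4 := Nat.dvd_gcd h1 h2
      rw [h3] at h4
      exact orderOf_eq_one_iff.mp (Nat.dvd_one.mp h4)
    | one =>
      intro h
      exact map_one τ
    | mul x y hx' hy' ihx ihy =>
      intro h
      have hx := hLN hx'
      have hy := hLN hy'
      have : (⟨x * y, h⟩ : N) = ⟨x, hx⟩ * ⟨y, hy⟩ := rfl
      rw [this, map_mul, ihx hx, ihy hy, one_mul]
    | inv x hx' ihx =>
      intro h
      have hx := hLN hx'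
      have : (⟨x⁻¹, h⟩ : N) = ⟨x, hx⟩⁻¹ := rfl
      rw [this, map_inv, ihx hx, inv_one]
  have hn : (n : G) ∈ Subgroup.closure {x : G | x ∈ N ∧ Odd (orderOf x)} := by
    rw [hL]
    exact n.2
  exact key n hn n.2

end General

section Perm

variable {α : Type*} [Fintype α] [DecidableEq α]

/-- an even involution on 45 points has `1 mod 4` fixed points. -/
theorem o7920_fix_mod_four (σ : Equiv.Perm α) (h : σ ^ 2 = 1) (hs : Equiv.Perm.sign σ = 1)
    (hcard : Fintype.card α = 45) : Fintype.card (Function.fixedPoints σ) % 4 = 1 := by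
  have h2 : ∀ n ∈ σ.cycleType, n = 2 := by
    intro n hn
    have hdvd : n ∣ 2 := (Equiv.Perm.dvd_of_mem_cycleType hn).trans (orderOf_dvd_of_pow_eq_one h)
    have hle := Equiv.Perm.two_le_of_mem_cycleType hn
    have := Nat.le_of_dvd (by norm_num) hdvd
    omega
  have hrep := Multiset.eq_replicate_card.mpr h2
  have hsum : σ.cycleType.sum = 2 * Multiset.card σ.cycleType := by
    conv_lhs => rw [hrep]
    rw [Multiset.sum_replicate, smul_eq_mul, mul_comm]
  have hfp := Equiv.Perm.card_fixedPoints σ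
  have hle := Equiv.Perm.sum_cycleType_le σ
  rw [Equiv.Perm.sign_of_cycleType, hsum] at hs
  have hc : Even (Multiset.card σ.cycleType) := by
    by_contra hodd
    rw [Nat.not_even_iff_odd] at hodd
    have h3 : (-1 : ℤˣ) ^ (2 * Multiset.card σ.cycleType + Multiset.card σ.cycleType) = -1 := by
      rw [pow_add, pow_mul]
      simp [hodd.neg_one_pow]
    rw [h3] at hs
    exact absurd hs (by decide)
  obtain ⟨d, hd⟩ := hc
  omega

/-- a permutation of 45 points with `σ^4 = 1` whose square has at most one fixed point is odd. -/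
theorem o7920_sign_of_four (σ : Equiv.Perm α) (h4 : σ ^ 4 = 1) (p0 : α)
    (hfix : ∀ x, σ (σ x) = x → x = p0) (hcard : Fintype.card α = 45) :
    Equiv.Perm.sign σ = -1 := by
  have h2 : ∀ n ∈ σ.cycleType, n = 4 := by
    intro n hn
    have hdvd : n ∣ 4 := (Equiv.Perm.dvd_of_mem_cycleType hn).trans (orderOf_dvd_of_pow_eq_one h4)
    have hle := Equiv.Perm.two_le_of_mem_cycleType hn
    have hn4 : n ≤ 4 := Nat.le_of_dvd (by norm_num) hdvd
    by_contra hne
    have hn2 : n = 2 := by
      interval_cases n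
      · rfl
      · exact absurd hdvd (by decide)
      · exact absurd rfl hne
    subst hn2
    rw [Equiv.Perm.cycleType_def, Multiset.mem_map] at hn
    obtain ⟨c, hc, hc2⟩ := hn
    rw [Finset.mem_val, Equiv.Perm.mem_cycleFactorsFinset_iff] at hc
    obtain ⟨hcyc, hcσ⟩ := hc
    rw [Function.comp_apply] at hc2
    have hne' : c.support.Nonempty := by
      rw [← Finset.card_pos, hc2]
      norm_num
    obtain ⟨a, ha⟩ := hne'
    have hca : c a = σ a := hcσ a ha
    have hca' : c a ∈ c.support := Equiv.Perm.apply_mem_support.mpr ha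
    have hcca : c (c a) = σ (σ a) := by rw [hcσ (c a) hca', hca]
    have hc2' : c ^ 2 = 1 := by
      rw [← hc2, ← hcyc.orderOf]
      exact pow_orderOf_eq_one c
    have hcc : c (c a) = a := by
      have := congrArg (fun f : Equiv.Perm α => f a) hc2'
      simpa [pow_two] using this
    have e1 : a = p0 := hfix a (by rw [← hcca, hcc])
    have e2 : σ a = p0 := hfix (σ a) (by rw [← hcca, hcc])
    have hmove : c a ≠ a := Equiv.Perm.mem_support.mp ha
    rw [hca, e2, e1] at hmove
    exact hmove rfl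
  have hrep := Multiset.eq_replicate_card.mpr h2
  have hsum : σ.cycleType.sum = 4 * Multiset.card σ.cycleType := by
    conv_lhs => rw [hrep]
    rw [Multiset.sum_replicate, smul_eq_mul, mul_comm]
  have hfp := Equiv.Perm.card_fixedPoints σ
  have hle := Equiv.Perm.sum_cycleType_le σ
  have hfix1 : Fintype.card (Function.fixedPoints σ) ≤ 1 := by
    rw [Fintype.card_le_one_iff]
    intro x y
    apply Subtype.ext
    have hx : σ x.1 = x.1 := x.2
    have hy : σ y.1 = y.1 := y.2
    rw [hfix x.1 (by rw [hx, hx]), hfix y.1 (by rw [hy, hy])]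
  have hcard' : Multiset.card σ.cycleType = 11 := by omega
  rw [Equiv.Perm.sign_of_cycleType, hsum, hcard']
  decide

end Perm

section Transfer

open scoped IsMulCommutative in
/-- transfer into an abelian subgroup `T` of odd index: an involution `w ∈ T` whose conjugates in
`T` are `w` itself is not in the kernel. -/
theorem o7920_transfer {N : Type*} [Group N] [Finite N] (T : Subgroup N)
    (hcomm : ∀ a ∈ T, ∀ b ∈ T, a * b = b * a) (hodd : Odd T.index)
    (w : N) (hw1 : w ≠ 1) (hw2 : w ^ 2 = 1)
    (hkey : ∀ g : N, g⁻¹ * w * g ∈ T → g⁻¹ * w * g = w) :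
    ∃ τ : N →* ↥T, τ w ≠ 1 := by
  haveI : IsMulCommutative T := ⟨⟨fun a b => Subtype.ext (hcomm a a.2 b b.2)⟩⟩
  refine ⟨MonoidHom.transfer (MonoidHom.id T), ?_⟩
  have key : ∀ (k : ℕ) (g₀ : N), g₀⁻¹ * w ^ k * g₀ ∈ T → g₀⁻¹ * w ^ k * g₀ = w ^ k := by
    intro k g₀ h
    rcases Nat.even_or_odd k with ⟨j, hj⟩ | ⟨j, hj⟩
    · have e : w ^ k = 1 := by rw [hj, ← two_mul, pow_mul, hw2, one_pow]
      rw [e]
      simp
    · have e : w ^ k = w := by rw [hj, pow_succ, pow_mul, hw2, one_pow, one_mul]
      rw [e] at h ⊢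
      exact hkey g₀ h
  rw [MonoidHom.transfer_eq_pow (MonoidHom.id T) w key]
  intro h
  have h' : w ^ T.index = 1 := congrArg Subtype.val h
  obtain ⟨j, hj⟩ := hodd
  rw [hj, pow_succ, pow_mul, hw2, one_pow, one_mul] at h'
  exact hw1 h'

end Transfer

section Main

variable {G : Type*} [Group G] [Finite G]

omit [Finite G] in
theorem o7920_fixedBy_all {X : Type*} [MulAction G X] [Finite X] (g : G)
    (h : Nat.card X ≤ Nat.card (MulAction.fixedBy X g)) : ∀ x : X, g • x = x := by
  intro x
  have hbij := Function.Injective.bijective_of_nat_card_le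
    (f := fun x : MulAction.fixedBy X g => (x : X)) Subtype.coe_injective h
  obtain ⟨z, hz⟩ := hbij.2 x
  have hz2 := z.2
  rw [MulAction.mem_fixedBy] at hz2
  rw [← hz]
  exact hz2

theorem o7920_sylow_card (hord : Nat.card G = 7920) [Fact (Nat.Prime 11)] (Q : Sylow 11 G) :
    Nat.card (Q : Subgroup G) = 11 :=
  Cfsg.Agent.Helper9.OrdTools.sylow_card 1 720 (by rw [hord]; norm_num) (by norm_num) Q

theorem o7920_n11 (hord : Nat.card G = 7920) [Fact (Nat.Prime 11)] :
    Nat.card (Sylow 11 G) = 1 ∨ Nat.card (Sylow 11 G) = 12 ∨ Nat.card (Sylow 11 G) = 45 ∨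
      Nat.card (Sylow 11 G) = 144 := by
  obtain ⟨P⟩ : Nonempty (Sylow 11 G) := inferInstance
  have hP := o7920_sylow_card hord P
  have hdvd : Nat.card (Sylow 11 G) ∣ 720 := by
    have h1 := P.card_dvd_index
    have h2 := (P : Subgroup G).card_mul_index
    rw [hP, hord] at h2
    have h3 : (P : Subgroup G).index = 720 := by omega
    rwa [h3] at h1
  have hmod : Nat.card (Sylow 11 G) % 11 = 1 := card_sylow_modEq_one 11 G
  generalize Nat.card (Sylow 11 G) = n at *
  have hle : n ≤ 720 := Nat.le_of_dvd (by norm_num) hdvd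
  obtain ⟨j, rfl⟩ : ∃ j, n = 11 * j + 1 := ⟨n / 11, by omega⟩
  have hj : j ≤ 65 := by omega
  interval_cases j <;> omega

theorem o7920_sylow_le (hord : Nat.card G = 7920) [Fact (Nat.Prime 11)] (K : Subgroup G)
    [hK : K.Normal] (h11 : 11 ∣ Nat.card K) (P : Sylow 11 G) : (P : Subgroup G) ≤ K := by
  obtain ⟨x, hx⟩ := exists_prime_orderOf_dvd_card' (G := K) 11 h11
  have hxG : orderOf (x : G) = 11 := by rw [Subgroup.orderOf_coe]; exact hx
  obtain ⟨Q, hQ⟩ := Cfsg.Agent.Helper9.OrdTools.exists_sylow_of_orderOf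
    (fun Q => o7920_sylow_card hord Q) hxG
  have hQK : (Q : Subgroup G) ≤ K := by
    rw [← hQ, Subgroup.zpowers_le]
    exact x.2
  obtain ⟨g, rfl⟩ := MulAction.exists_smul_eq G Q P
  intro y hy
  have hmem : g⁻¹ * y * g ∈ (Q : Subgroup G) := by
    rw [Sylow.coe_subgroup_smul, Subgroup.mem_pointwise_smul_iff_inv_smul_mem] at hy
    simpa [MulAut.smul_def] using hy
  have h1 := hK.conj_mem _ (hQK hmem) g
  have e : g * (g⁻¹ * y * g) * g⁻¹ = y := by group
  rwa [e] at h1

omit [Finite G] in
theorem o7920_mem_ker_iff [Fact (Nat.Prime 11)] (g : G) :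
    g ∈ (MulAction.toPermHom G (Sylow 11 G)).ker ↔ ∀ Q : Sylow 11 G, g • Q = Q := by
  rw [MonoidHom.mem_ker]
  constructor
  · intro h Q
    have := congrArg (fun σ : Equiv.Perm (Sylow 11 G) => σ Q) h
    simpa using this
  · intro h
    exact Equiv.ext fun Q => h Q

theorem o7920_n45 (hord : Nat.card G = 7920) [Fact (Nat.Prime 11)]
    (hK : ∃ K : Subgroup G, K.Normal ∧ K ≠ ⊥ ∧ K ≠ ⊤)
    (h2 : ∀ K : Subgroup G, K.Normal → K ≠ ⊥ → K ≠ ⊤ → 330 ∣ Nat.card K) :
    Nat.card (Sylow 11 G) = 45 := by
  classical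
  obtain ⟨P⟩ : Nonempty (Sylow 11 G) := inferInstance
  have hS : ∀ Q : Sylow 11 G, Nat.card (Q : Subgroup G) = 11 := fun Q => o7920_sylow_card hord Q
  have hNn : Nat.card (normalizer ((P : Subgroup G) : Set G)) * Nat.card (Sylow 11 G) = 7920 := by
    rw [← hord, P.card_eq_index_normalizer]
    exact Subgroup.card_mul_index _
  rcases o7920_n11 hord with h | h | h | h
  · exfalso
    have hPn : (P : Subgroup G).Normal := by
      rw [← Subgroup.normalizer_eq_top_iff, ← Subgroup.index_eq_one]
      exact (P.card_eq_index_normalizer).symm.trans h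
    have hPb : (P : Subgroup G) ≠ ⊥ := by
      intro hb
      have := hS P
      rw [hb, Subgroup.card_bot] at this
      omega
    have hPt : (P : Subgroup G) ≠ ⊤ := by
      intro ht
      have := hS P
      rw [ht, Subgroup.card_top, hord] at this
      omega
    have := h2 _ hPn hPb hPt
    rw [hS P] at this
    omega
  · exfalso
    rw [h] at hNn
    have hH : Nat.card (normalizer ((P : Subgroup G) : Set G)) = 660 := by omega
    obtain ⟨y, hy⟩ := exists_prime_orderOf_dvd_card'
      (G := normalizer ((P : Subgroup G) : Set G)) 3 (by rw [hH]; norm_num)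
    have hyG : orderOf (y : G) = 3 := by rw [Subgroup.orderOf_coe]; exact hy
    have hy3 : (y : G) ^ 3 = 1 := by rw [← hyG]; exact pow_orderOf_eq_one _
    have hyc : (y : G) ∈ centralizer ((P : Subgroup G) : Set G) := by
      have h10 := o7920_pow_mem_centralizer P (hS P) (y : G) y.2
      have e : (y : G) ^ (11 - 1) = y := by
        have : (y : G) ^ (11 - 1) = ((y : G) ^ 3) ^ 3 * y := by
          rw [← pow_mul, ← pow_succ]
        rw [this, hy3, one_pow, one_mul]
      rwa [e] at h10
    have hcomm : ∀ x ∈ (P : Subgroup G), x * (y : G) = (y : G) * x := fun x hx =>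
      Subgroup.mem_centralizer_iff.mp hyc x hx
    have hf1 := Cfsg.Agent.Helper8.SylFix.card_fixedBy_modEq_one P (y : G) hcomm
    have hf3 := Cfsg.Agent.Helper8.SylFix.card_fixedBy_modEq (p := 11) (q := 3) (k := 1) (y : G)
      (by rw [hyG]; norm_num)
    have hle : Nat.card (MulAction.fixedBy (Sylow 11 G) (y : G)) ≤ Nat.card (Sylow 11 G) :=
      Finite.card_subtype_le _
    rw [h] at hf3 hle
    have hfix : Nat.card (MulAction.fixedBy (Sylow 11 G) (y : G)) = 12 := by
      unfold Nat.ModEq at hf1 hf3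
      omega
    have hall : ∀ Q : Sylow 11 G, (y : G) • Q = Q :=
      o7920_fixedBy_all (y : G) (by rw [h, hfix])
    have hyker : (y : G) ∈ (MulAction.toPermHom G (Sylow 11 G)).ker :=
      (o7920_mem_ker_iff _).mpr hall
    have hKb : (MulAction.toPermHom G (Sylow 11 G)).ker ≠ ⊥ := by
      intro hb
      rw [hb, Subgroup.mem_bot] at hyker
      rw [hyker, orderOf_one] at hyG
      omega
    have hKt : (MulAction.toPermHom G (Sylow 11 G)).ker ≠ ⊤ := by
      intro ht
      have hall' : ∀ g : G, g ∈ normalizer ((P : Subgroup G) : Set G) := by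
        intro g
        have hg : g ∈ (MulAction.toPermHom G (Sylow 11 G)).ker := by rw [ht]; exact Subgroup.mem_top g
        exact Sylow.smul_eq_iff_mem_normalizer.mp ((o7920_mem_ker_iff g).mp hg P)
      have htop : normalizer ((P : Subgroup G) : Set G) = ⊤ := by
        rw [eq_top_iff]
        intro g _
        exact hall' g
      rw [htop, Subgroup.card_top, hord] at hH
      omega
    have h330 := h2 _ (MonoidHom.normal_ker _) hKb hKt
    have h11 : 11 ∣ Nat.card (MulAction.toPermHom G (Sylow 11 G)).ker :=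
      Dvd.dvd.trans (by norm_num) h330
    haveI := MonoidHom.normal_ker (MulAction.toPermHom G (Sylow 11 G))
    have hPker := o7920_sylow_le hord _ h11 P
    -- a second Sylow subgroup
    obtain ⟨Q, hQ⟩ : ∃ Q : Sylow 11 G, Q ≠ P := by
      by_contra hcon
      push Not at hcon
      have : Nat.card (Sylow 11 G) ≤ 1 := by
        rw [Finite.card_le_one_iff_subsingleton]
        exact ⟨fun a b => (hcon a).trans (hcon b).symm⟩
      omega
    apply hQ
    apply Cfsg.Agent.Helper8.SylFix.eq_of_le_normalizer P Q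
    intro x hx
    exact Sylow.smul_eq_iff_mem_normalizer.mp ((o7920_mem_ker_iff x).mp (hPker hx) Q)
  · exact h
  · exfalso
    rw [h] at hNn
    have hH : Nat.card (normalizer ((P : Subgroup G) : Set G)) = 55 := by omega
    obtain ⟨K, hKn, hKb, hKt⟩ := hK
    haveI := hKn
    have h330 := h2 K hKn hKb hKt
    have hPK := o7920_sylow_le hord K (Dvd.dvd.trans (by norm_num) h330) P
    have hfr := o7920_frattini_card K P hPK
    rw [h] at hfr
    have hdv : Nat.card (K ⊓ normalizer ((P : Subgroup G) : Set G) : Subgroup G) ∣ 55 := by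
      rw [← hH]
      exact Subgroup.card_dvd_of_le inf_le_right
    have hKc : Nat.card K ≠ 7920 := by
      intro hc
      exact hKt ((Subgroup.card_eq_iff_eq_top K).mp (hc.trans hord.symm))
    generalize Nat.card (K ⊓ normalizer ((P : Subgroup G) : Set G) : Subgroup G) = a at hfr hdv
    rw [← hfr] at h330 hKc
    have ha : a ≤ 55 := Nat.le_of_dvd (by norm_num) hdv
    interval_cases a <;> omega

theorem o7920_faithful (hord : Nat.card G = 7920) [Fact (Nat.Prime 11)]
    (hn : Nat.card (Sylow 11 G) = 45)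
    (h2 : ∀ K : Subgroup G, K.Normal → K ≠ ⊥ → K ≠ ⊤ → 330 ∣ Nat.card K)
    (g : G) (hg : ∀ Q : Sylow 11 G, g • Q = Q) : g = 1 := by
  by_contra hg1
  obtain ⟨P⟩ : Nonempty (Sylow 11 G) := inferInstance
  have hNn : Nat.card (normalizer ((P : Subgroup G) : Set G)) * Nat.card (Sylow 11 G) = 7920 := by
    rw [← hord, P.card_eq_index_normalizer]
    exact Subgroup.card_mul_index _
  rw [hn] at hNn
  have hH : Nat.card (normalizer ((P : Subgroup G) : Set G)) = 176 := by omega
  have hle : (MulAction.toPermHom G (Sylow 11 G)).ker ≤ normalizer ((P : Subgroup G) : Set G) := by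
    intro x hx
    exact Sylow.smul_eq_iff_mem_normalizer.mp ((o7920_mem_ker_iff x).mp hx P)
  have hdv : Nat.card (MulAction.toPermHom G (Sylow 11 G)).ker ∣ 176 := by
    rw [← hH]
    exact Subgroup.card_dvd_of_le hle
  have hKb : (MulAction.toPermHom G (Sylow 11 G)).ker ≠ ⊥ := by
    intro hb
    have := (o7920_mem_ker_iff g).mpr hg
    rw [hb, Subgroup.mem_bot] at this
    exact hg1 this
  have hKt : (MulAction.toPermHom G (Sylow 11 G)).ker ≠ ⊤ := by
    intro ht
    rw [ht, Subgroup.card_top, hord] at hdv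
    omega
  have h330 := h2 _ (MonoidHom.normal_ker _) hKb hKt
  have := Dvd.dvd.trans h330 hdv
  omega

/-- CASE 2 of S2490: a group of order 7920 is simple as soon as all its proper nontrivial normal
subgroups have order divisible by `330 = 2 * 3 * 5 * 11`. -/
theorem s2490_case2 {G : Type*} [Group G] [Finite G] (hord : Nat.card G = 7920)
    (hK : ∃ K : Subgroup G, K.Normal ∧ K ≠ ⊥ ∧ K ≠ ⊤)
    (h2 : ∀ K : Subgroup G, K.Normal → K ≠ ⊥ → K ≠ ⊤ → 330 ∣ Nat.card K) : False := by
  classical
  haveI : Fact (Nat.Prime 11) := ⟨by norm_num⟩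
  haveI : Fintype (Sylow 11 G) := Fintype.ofFinite _
  have hn := o7920_n45 hord hK h2
  have hfaith := o7920_faithful hord hn h2
  obtain ⟨P⟩ : Nonempty (Sylow 11 G) := inferInstance
  have hS : ∀ Q : Sylow 11 G, Nat.card (Q : Subgroup G) = 11 := fun Q => o7920_sylow_card hord Q
  have hH : Nat.card (normalizer ((P : Subgroup G) : Set G)) = 176 := by
    have hNn : Nat.card (normalizer ((P : Subgroup G) : Set G)) * Nat.card (Sylow 11 G) = 7920 := by
      rw [← hord, P.card_eq_index_normalizer]
      exact Subgroup.card_mul_index _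
    rw [hn] at hNn
    omega
  -- a proper nontrivial normal subgroup of minimal order
  have hex : ∃ m, ∃ K : Subgroup G, K.Normal ∧ K ≠ ⊥ ∧ K ≠ ⊤ ∧ Nat.card K = m := by
    obtain ⟨K, h⟩ := hK
    exact ⟨_, K, h.1, h.2.1, h.2.2, rfl⟩
  obtain ⟨N, hNn, hNb, hNt, hNc⟩ := Nat.find_spec hex
  have hminc : ∀ K : Subgroup G, K.Normal → K ≠ ⊥ → K ≠ ⊤ → Nat.card N ≤ Nat.card K := by
    intro K h1 h2' h3
    rw [hNc]
    exact Nat.find_min' hex ⟨K, h1, h2', h3, rfl⟩
  haveI := hNn
  have hmin : ∀ K : Subgroup G, K.Normal → K ≠ ⊥ → K ≤ N → K = N := by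
    intro K hKn hKb hKN
    have hKt : K ≠ ⊤ := fun h => hNt (top_le_iff.mp (h ▸ hKN))
    exact Subgroup.eq_of_le_of_card_ge hKN (hminc K hKn hKb hKt)
  have h330 : 330 ∣ Nat.card N := h2 N hNn hNb hNt
  have h11N : 11 ∣ Nat.card N := Dvd.dvd.trans (by norm_num) h330
  have hPN : (P : Subgroup G) ≤ N := o7920_sylow_le hord N h11N P
  have hodd : ∃ x ∈ N, x ≠ 1 ∧ Odd (orderOf x) := by
    obtain ⟨x, hx⟩ := exists_prime_orderOf_dvd_card' (G := N) 11 h11N
    refine ⟨x, x.2, ?_, ?_⟩
    · intro h1
      rw [← Subgroup.orderOf_coe, h1, orderOf_one] at hx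
      omega
    · rw [Subgroup.orderOf_coe, hx]
      decide
  -- elements of `N` act by even permutations
  have heven : ∀ x ∈ N, Equiv.Perm.sign (MulAction.toPermHom G (Sylow 11 G) x) = 1 := by
    intro x hx
    exact o7920_perf N hmin hodd 1 (fun a => by rw [pow_one]; exact Int.units_sq a)
      ((Equiv.Perm.sign).comp ((MulAction.toPermHom G (Sylow 11 G)).comp N.subtype)) ⟨x, hx⟩
  -- the stabiliser of `P` in `N`
  have hM : Nat.card (N ⊓ normalizer ((P : Subgroup G) : Set G) : Subgroup G) * 45 = Nat.card N := by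
    rw [← hn]
    exact o7920_frattini_card N P hPN
  have hMH : Nat.card (N ⊓ normalizer ((P : Subgroup G) : Set G) : Subgroup G) ∣ 176 := by
    rw [← hH]
    exact Subgroup.card_dvd_of_le inf_le_right
  have hNlt : Nat.card N ≠ 7920 := by
    intro h
    exact hNt ((Subgroup.card_eq_iff_eq_top N).mp (h.trans hord.symm))
  obtain ⟨c, hc⟩ : ∃ c, Nat.card (N ⊓ normalizer ((P : Subgroup G) : Set G) : Subgroup G) = c :=
    ⟨_, rfl⟩
  have hc' : c = 22 ∨ c = 44 ∨ c = 88 := by
    rw [hc] at hM hMH
    have h330' : 330 ∣ c * 45 := hM ▸ h330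
    have hne : c * 45 ≠ 7920 := hM ▸ hNlt
    have hle : c ≤ 176 := Nat.le_of_dvd (by norm_num) hMH
    obtain ⟨d, rfl⟩ : 22 ∣ c := by omega
    have hd : d ≤ 8 := by omega
    interval_cases d <;> omega
  -- a Sylow 2-subgroup of the stabiliser
  obtain ⟨T, hTM, hTc⟩ : ∃ T : Subgroup G,
      T ≤ N ⊓ normalizer ((P : Subgroup G) : Set G) ∧ Nat.card T * 11 = c := by
    obtain ⟨T'⟩ : Nonempty (Sylow 2 ↥(N ⊓ normalizer ((P : Subgroup G) : Set G) : Subgroup G)) :=
      inferInstance
    refine ⟨(T' : Subgroup ↥(N ⊓ normalizer ((P : Subgroup G) : Set G) : Subgroup G)).map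
      (N ⊓ normalizer ((P : Subgroup G) : Set G) : Subgroup G).subtype, ?_, ?_⟩
    · exact Subgroup.map_subtype_le _
    · rw [Subgroup.card_map_of_injective (Subgroup.subtype_injective _)]
      rcases hc' with h | h | h
      · rw [Cfsg.Agent.Helper9.OrdTools.sylow_card (p := 2) 1 11 (by rw [hc, h]; norm_num)
          (by norm_num) T', h]
        norm_num
      · rw [Cfsg.Agent.Helper9.OrdTools.sylow_card (p := 2) 2 11 (by rw [hc, h]; norm_num)
          (by norm_num) T', h]
        norm_num
      · rw [Cfsg.Agent.Helper9.OrdTools.sylow_card (p := 2) 3 11 (by rw [hc, h]; norm_num)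
          (by norm_num) T', h]
        norm_num
  have hTN : T ≤ N := hTM.trans inf_le_left
  have hTH : T ≤ normalizer ((P : Subgroup G) : Set G) := hTM.trans inf_le_right
  have hTcard : Nat.card T = 2 ∨ Nat.card T = 4 ∨ Nat.card T = 8 := by omega
  have hT8 : ∀ x ∈ T, x ^ 8 = 1 := by
    intro x hx
    have h1 : (⟨x, hx⟩ : T) ^ Nat.card T = 1 := pow_card_eq_one'
    have hd : Nat.card T ∣ 8 := by
      rcases hTcard with h | h | h <;> rw [h] <;> norm_num
    obtain ⟨k, hk⟩ := hd
    have h8 : (⟨x, hx⟩ : T) ^ 8 = 1 := by rw [hk, pow_mul, h1, one_pow]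
    exact congrArg Subtype.val h8
  have hsq : ∀ x ∈ T, x ^ 2 ∈ centralizer ((P : Subgroup G) : Set G) := by
    intro x hx
    have h10 := o7920_pow_mem_centralizer P (hS P) x (hTH hx)
    have e : x ^ (11 - 1) = x ^ 2 * x ^ 8 := by rw [← pow_add]
    rw [e, hT8 x hx, mul_one] at h10
    exact h10
  -- (A) involutions of `T` centralising `P` fix only `P`
  have hA : ∀ v ∈ T, v ∈ centralizer ((P : Subgroup G) : Set G) → v ≠ 1 → v ^ 2 = 1 →
      ∀ Q : Sylow 11 G, v • Q = Q → Q = P := by
    intro v hvT hvC hv1 hv2 Q hQ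
    have hcomm : ∀ x ∈ (P : Subgroup G), x * v = v * x := fun x hx =>
      Subgroup.mem_centralizer_iff.mp hvC x hx
    have hf1 := Cfsg.Agent.Helper8.SylFix.card_fixedBy_modEq_one P v hcomm
    have hσ2 : (MulAction.toPermHom G (Sylow 11 G) v) ^ 2 = 1 := by
      rw [← map_pow, hv2, map_one]
    have hf4 := o7920_fix_mod_four (MulAction.toPermHom G (Sylow 11 G) v) hσ2 (heven v (hTN hvT))
      (by rw [← Nat.card_eq_fintype_card, hn])
    have heq : Nat.card (MulAction.fixedBy (Sylow 11 G) v) =
        Fintype.card (Function.fixedPoints (MulAction.toPermHom G (Sylow 11 G) v)) := by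
      rw [← Nat.card_eq_fintype_card]
      rfl
    have hle : Nat.card (MulAction.fixedBy (Sylow 11 G) v) ≤ Nat.card (Sylow 11 G) :=
      Finite.card_subtype_le _
    rw [hn] at hle
    have h1or : Nat.card (MulAction.fixedBy (Sylow 11 G) v) = 1 ∨
        Nat.card (MulAction.fixedBy (Sylow 11 G) v) = 45 := by
      unfold Nat.ModEq at hf1
      omega
    rcases h1or with h1 | h45
    · have hPfix : P ∈ MulAction.fixedBy (Sylow 11 G) v := by
        rw [MulAction.mem_fixedBy, Sylow.smul_eq_iff_mem_normalizer]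
        exact Subgroup.centralizer_le_normalizer _ hvC
      have hQfix : Q ∈ MulAction.fixedBy (Sylow 11 G) v := hQ
      obtain ⟨hsub, _⟩ := Nat.card_eq_one_iff_unique.mp h1
      exact congrArg Subtype.val (hsub.elim ⟨Q, hQfix⟩ ⟨P, hPfix⟩)
    · exfalso
      apply hv1
      apply hfaith
      exact o7920_fixedBy_all v (by rw [hn, h45])
  -- (B) `T` has exponent 2
  have hB : ∀ x ∈ T, x ^ 2 = 1 := by
    intro x hx
    by_contra hx2
    obtain ⟨y, hyT, hy4, hy2⟩ : ∃ y ∈ T, y ^ 4 = 1 ∧ y ^ 2 ≠ 1 := by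
      by_cases h4 : x ^ 4 = 1
      · exact ⟨x, hx, h4, hx2⟩
      · refine ⟨x ^ 2, T.pow_mem hx 2, ?_, ?_⟩
        · rw [← pow_mul]
          exact hT8 x hx
        · rw [← pow_mul]
          exact h4
    have hv := hA (y ^ 2) (T.pow_mem hyT 2) (hsq y hyT) hy2 (by rw [← pow_mul]; exact hy4)
    have hodd4 := o7920_sign_of_four (MulAction.toPermHom G (Sylow 11 G) y)
      (by rw [← map_pow, hy4, map_one]) P
      (fun Q hQ => hv Q (by rw [pow_two, mul_smul]; exact hQ))
      (by rw [← Nat.card_eq_fintype_card, hn])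
    have h1 := heven y (hTN hyT)
    rw [hodd4] at h1
    exact absurd h1 (by decide)
  have hTcomm : ∀ a ∈ T, ∀ b ∈ T, a * b = b * a := by
    intro a ha b hb
    have ea : a⁻¹ = a := by
      rw [inv_eq_iff_mul_eq_one, ← pow_two]
      exact hB a ha
    have eb : b⁻¹ = b := by
      rw [inv_eq_iff_mul_eq_one, ← pow_two]
      exact hB b hb
    have eab : (a * b)⁻¹ = a * b := by
      rw [inv_eq_iff_mul_eq_one, ← pow_two]
      exact hB (a * b) (T.mul_mem ha hb)
    rw [mul_inv_rev, ea, eb] at eab
    exact eab.symm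
  -- (C) an element `w` of `T` whose `N`-conjugates in `T` are `w`
  obtain ⟨w, hwT, hw1, hwkey⟩ : ∃ w ∈ T, w ≠ 1 ∧
      ∀ g ∈ N, g⁻¹ * w * g ∈ T → g⁻¹ * w * g = w := by
    by_cases hV : ∃ v ∈ T, v ∈ centralizer ((P : Subgroup G) : Set G) ∧ v ≠ 1
    · obtain ⟨w, hwT, hwC, hw1⟩ := hV
      refine ⟨w, hwT, hw1, ?_⟩
      intro g hgN hconj
      have hfixw := hA w hwT hwC hw1 (hB w hwT)
      have h1 : (g⁻¹ * w * g) • P = P := by
        rw [Sylow.smul_eq_iff_mem_normalizer]
        exact hTH hconj
      have h2' : w • (g • P) = g • P := by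
        have e : w • (g • P) = g • ((g⁻¹ * w * g) • P) := by
          rw [← mul_smul, ← mul_smul]
          congr 1
          group
        rw [e, h1]
      have h3 : g • P = P := hfixw _ h2'
      have hgH : g ∈ normalizer ((P : Subgroup G) : Set G) := Sylow.smul_eq_iff_mem_normalizer.mp h3
      have hcent : (N ⊓ normalizer ((P : Subgroup G) : Set G) : Subgroup G) ≤ centralizer {w} := by
        have hPX : (P : Subgroup G) ≤
            (N ⊓ normalizer ((P : Subgroup G) : Set G)) ⊓ centralizer {w} := by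
          refine le_inf (le_inf hPN Subgroup.le_normalizer) ?_
          intro x hx
          rw [Subgroup.mem_centralizer_iff]
          intro z hz
          rw [Set.mem_singleton_iff.mp hz]
          exact (Subgroup.mem_centralizer_iff.mp hwC x hx).symm
        have hTX : T ≤ (N ⊓ normalizer ((P : Subgroup G) : Set G)) ⊓ centralizer {w} := by
          refine le_inf hTM ?_
          intro x hx
          rw [Subgroup.mem_centralizer_iff]
          intro z hz
          rw [Set.mem_singleton_iff.mp hz]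
          exact hTcomm w hwT x hx
        have hd1 := Subgroup.card_dvd_of_le hPX
        have hd2 := Subgroup.card_dvd_of_le hTX
        rw [hS P] at hd1
        have hcop : Nat.Coprime 11 (Nat.card T) := by
          rcases hTcard with h | h | h <;> rw [h] <;> decide
        have hd3 := hcop.mul_dvd_of_dvd_of_dvd hd1 hd2
        have hXle : (N ⊓ normalizer ((P : Subgroup G) : Set G)) ⊓ centralizer {w} ≤
            N ⊓ normalizer ((P : Subgroup G) : Set G) := inf_le_left
        have hXeq := Subgroup.eq_of_le_of_card_ge hXle (by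
          rw [hc, ← hTc, mul_comm]
          exact Nat.le_of_dvd Nat.card_pos hd3)
        rw [← hXeq]
        exact inf_le_right
      have hgc := hcent ⟨hgN, hgH⟩
      have hwg : w * g = g * w := Subgroup.mem_centralizer_iff.mp hgc w rfl
      rw [mul_assoc, hwg, ← mul_assoc, inv_mul_cancel, one_mul]
    · push Not at hV
      have hd := o7920_card_dvd_of_inf_centralizer P (hS P) T hTH
        (fun t ht htc => by_contra (fun h => h (hV t ht htc)))
      have hT2 : Nat.card T = 2 := by
        rcases hTcard with h | h | h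
        · exact h
        · rw [h] at hd
          omega
        · rw [h] at hd
          omega
      obtain ⟨u, hu⟩ := (Nat.card_eq_two_iff' (1 : T)).mp hT2
      refine ⟨u, u.2, fun h => hu.1 (Subtype.ext h), ?_⟩
      intro g hgN hconj
      have hne : (⟨g⁻¹ * (u : G) * g, hconj⟩ : T) ≠ 1 := by
        intro h
        have h' : g⁻¹ * (u : G) * g = 1 := congrArg Subtype.val h
        apply hu.1
        apply Subtype.ext
        have e : (u : G) = g * (g⁻¹ * (u : G) * g) * g⁻¹ := by group
        rw [e, h']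
        simp
      exact congrArg Subtype.val (hu.2 _ hne)
  -- (D) the transfer into `T`
  have hidx : Odd (T.subgroupOf N).index := by
    have h1 := (T.subgroupOf N).card_mul_index
    rw [Nat.card_congr (Subgroup.subgroupOfEquivOfLe hTN).toEquiv] at h1
    have h2' : (T.subgroupOf N).index = 495 := by
      have h3 : Nat.card T * (T.subgroupOf N).index = Nat.card T * 495 := by
        rw [h1, ← hM, hc, ← hTc]
        ring
      exact Nat.eq_of_mul_eq_mul_left Nat.card_pos h3
    rw [h2']
    decide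
  obtain ⟨τ, hτ⟩ := o7920_transfer (T.subgroupOf N)
    (fun a ha b hb => Subtype.ext (hTcomm a (Subgroup.mem_subgroupOf.mp ha) b
      (Subgroup.mem_subgroupOf.mp hb)))
    hidx ⟨w, hTN hwT⟩ (fun h => hw1 (congrArg Subtype.val h))
    (Subtype.ext (hB w hwT))
    (fun g hg => Subtype.ext (hwkey g g.2 (Subgroup.mem_subgroupOf.mp hg)))
  apply hτ
  exact o7920_perf N hmin hodd 1
    (fun a => by
      rw [pow_one]
      exact Subtype.ext (Subtype.ext (hB _ (Subgroup.mem_subgroupOf.mp a.2)))) τ ⟨w, hTN hwT⟩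

end Main

end Cfsg.Agent.Helper84
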