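import Cfsg.Agent.Helper84.P4Defs
import Cfsg.Agent.Helper84.AbIdxC
import Cfsg.Agent.Helper84.FusionAut
import Cfsg.Agent.Helper84.FusionIso

/-!
# Essential subgroups of order `p^4`: the fusion-system glue

* `aut_trivial_on_factor`: an automorphism of `p`-power order acts trivially on an invariant factor of
  order `p`.
* `charChain4_aut`: if `G` (of order `p^4`) has a characteristic series with steps of order `p`, the
  `p`-elements of `Aut(G)` lie in a normal `p`-subgroup.
* `essential_not_charChain4`: such a group is not essential.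
* `essential_not_sq`: `C_{p^2} × C_{p^2}` is not essential for `p ≥ 5` (given the automorphism lemma).
-/

namespace Cfsg.Agent.Helper84

open Cfsg Cfsg.FusionSystem Subgroup

section Abstract

variable {G : Type*} [Group G]

/-- An automorphism of `p`-power order acts trivially on an invariant factor `M/N` of order `p`. -/
theorem aut_trivial_on_factor {p : ℕ} [Fact p.Prime] (N M : Subgroup G) (hNM : N ≤ M) [Finite M]
    (hN : N.Normal) (hcard : Nat.card M = p * Nat.card N)
    (α : MulAut G) (hαM : ∀ m ∈ M, α m ∈ M) (hαN : ∀ n ∈ N, α n ∈ N) (k : ℕ) (hα : α ^ p ^ k = 1) :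
    ∀ m ∈ M, α m * m⁻¹ ∈ N := by
  have hp : p.Prime := Fact.out
  have hN' : (N.subgroupOf M).Normal := hN.subgroupOf M
  have hcN : Nat.card (N.subgroupOf M) = Nat.card N :=
    Nat.card_congr (Subgroup.subgroupOfEquivOfLe hNM).toEquiv
  have hNpos : 0 < Nat.card N := by
    have : Finite N := Finite.of_injective (Subgroup.inclusion hNM) (Subgroup.inclusion_injective hNM)
    exact Nat.card_pos
  have hidx : Nat.card (M ⧸ N.subgroupOf M) = p := by
    have h1 := Subgroup.card_mul_index (N.subgroupOf M)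
    rw [hcN, hcard, mul_comm p] at h1
    rw [← Subgroup.index_eq_card]
    exact Nat.eq_of_mul_eq_mul_left hNpos h1
  have hcyc : IsCyclic (M ⧸ N.subgroupOf M) := isCyclic_of_prime_card hidx
  let f : M →* M := (α.toMonoidHom.comp M.subtype).codRestrict M (fun m => hαM m m.2)
  have hf : ∀ m : M, ((f m : M) : G) = α (m : G) := fun m => rfl
  have hle : N.subgroupOf M ≤ (N.subgroupOf M).comap f := by
    intro m hm
    rw [Subgroup.mem_comap, Subgroup.mem_subgroupOf, hf]
    exact hαN _ (Subgroup.mem_subgroupOf.mp hm)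
  let σ : (M ⧸ N.subgroupOf M) →* (M ⧸ N.subgroupOf M) :=
    QuotientGroup.map (N.subgroupOf M) (N.subgroupOf M) f hle
  obtain ⟨z, hz⟩ := MonoidHom.map_cyclic σ
  have hfi : ∀ n : ℕ, ∀ m : M, ((f^[n] m : M) : G) = (α ^ n) (m : G) := by
    intro n
    induction n with
    | zero => intro m; simp
    | succ n ih =>
      intro m
      rw [Function.iterate_succ_apply', hf, ih, pow_succ', MulAut.mul_apply]
  have hσi : ∀ n : ℕ, ∀ m : M, σ^[n] (QuotientGroup.mk m) = QuotientGroup.mk (f^[n] m) := by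
    intro n
    induction n with
    | zero => intro m; simp
    | succ n ih =>
      intro m
      rw [Function.iterate_succ_apply', ih, Function.iterate_succ_apply']
      rfl
  have hσz : ∀ n : ℕ, ∀ q : M ⧸ N.subgroupOf M, σ^[n] q = q ^ (z ^ n) := by
    intro n
    induction n with
    | zero => intro q; simp
    | succ n ih =>
      intro q
      rw [Function.iterate_succ_apply', ih, hz, ← zpow_mul, pow_succ]
  have hfix : ∀ q : M ⧸ N.subgroupOf M, q ^ (z ^ p ^ k) = q := by
    intro q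
    obtain ⟨m, rfl⟩ := QuotientGroup.mk_surjective q
    rw [← hσz, hσi]
    congr 1
    apply Subtype.ext
    rw [hfi, hα]
    rfl
  have hqp : ∀ q : M ⧸ N.subgroupOf M, q ^ (p : ℤ) = 1 := by
    intro q
    have := pow_card_eq_one' (G := M ⧸ N.subgroupOf M) (x := q)
    rw [hidx] at this
    rw [zpow_natCast]; exact this
  have hz1 : (p : ℤ) ∣ z - 1 := by
    obtain ⟨g, hg⟩ := hcyc.exists_generator
    have hog : orderOf g = p := by
      rw [orderOf_eq_card_of_forall_mem_zpowers hg, hidx]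
    have h1 : g ^ (z ^ p ^ k - 1) = 1 := by
      rw [zpow_sub, hfix g, zpow_one, mul_inv_cancel]
    have h2 : (p : ℤ) ∣ z ^ p ^ k - 1 := by
      have h2' : (orderOf g : ℤ) ∣ z ^ p ^ k - 1 := orderOf_dvd_iff_zpow_eq_one.mpr h1
      rw [hog] at h2'; exact h2'
    have h3 : ((z : ZMod p)) ^ p ^ k = 1 := by
      have := (ZMod.intCast_zmod_eq_zero_iff_dvd (z ^ p ^ k - 1) p).mpr h2
      push_cast at this
      exact sub_eq_zero.mp this
    have h4 : (z : ZMod p) = 1 := by
      rw [← h3]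
      exact (ZMod.pow_card_pow (z : ZMod p)).symm
    have h5 : ((z - 1 : ℤ) : ZMod p) = 0 := by push_cast; rw [h4]; ring
    exact (ZMod.intCast_zmod_eq_zero_iff_dvd (z - 1) p).mp h5
  intro m hm
  have hσm : σ (QuotientGroup.mk ⟨m, hm⟩) = QuotientGroup.mk ⟨m, hm⟩ := by
    rw [hz]
    obtain ⟨c, hc⟩ := hz1
    have : z = 1 + p * c := by omega
    rw [this, zpow_add, zpow_one, zpow_mul, hqp, one_zpow, mul_one]
  have h6 : (QuotientGroup.mk (f ⟨m, hm⟩) : M ⧸ N.subgroupOf M) = QuotientGroup.mk ⟨m, hm⟩ := hσm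
  rw [QuotientGroup.eq] at h6
  have h7 : (α m)⁻¹ * m ∈ N := by
    have := Subgroup.mem_subgroupOf.mp h6
    simpa [hf] using this
  have h8 : α m * ((α m)⁻¹ * m)⁻¹ * (α m)⁻¹ ∈ N := hN.conj_mem _ (N.inv_mem h7) _
  have h9 : α m * ((α m)⁻¹ * m)⁻¹ * (α m)⁻¹ = α m * m⁻¹ := by group
  rw [h9] at h8
  exact h8

theorem char_map_mem {H : Subgroup G} (hH : H.Characteristic) (θ : MulAut G) {x : G} :
    θ x ∈ H ↔ x ∈ H := by
  have h := Subgroup.characteristic_iff_comap_eq.mp hH θ
  constructor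
  · intro hx
    rw [← h]; exact hx
  · intro hx
    rw [← h] at hx; exact hx

/-- If a group of order `p^4` has a characteristic series with steps of order `p`, then the `p`-elements
of its automorphism group lie in a normal `p`-subgroup. -/
theorem charChain4_aut {p : ℕ} [Fact p.Prime] [Finite G] (hG : Nat.card G = p ^ 4)
    (h : CharChain4 p G) :
    ∃ K : Subgroup (MulAut G), K.Normal ∧ IsPGroup p K ∧
      ∀ α : MulAut G, (∃ k : ℕ, α ^ p ^ k = 1) → α ∈ K := by
  obtain ⟨A, B, C, hA, hB, hC, hAB, hBC, cA, cB, cC⟩ := h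
  have hp : p.Prime := Fact.out
  have eA : ∀ a ∈ A, a ^ p = 1 := by
    intro a ha
    have := pow_card_eq_one' (G := A) (x := ⟨a, ha⟩)
    rw [cA] at this
    exact congrArg Subtype.val this
  have eB : ∀ a ∈ B, a ^ p ^ 2 = 1 := by
    intro a ha
    have := pow_card_eq_one' (G := B) (x := ⟨a, ha⟩)
    rw [cB] at this
    exact congrArg Subtype.val this
  have eC : ∀ a ∈ C, a ^ p ^ 3 = 1 := by
    intro a ha
    have := pow_card_eq_one' (G := C) (x := ⟨a, ha⟩)
    rw [cC] at this
    exact congrArg Subtype.val this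
  let K : Subgroup (MulAut G) :=
    { carrier := {α | (∀ a ∈ A, α a = a) ∧ (∀ b ∈ B, α b * b⁻¹ ∈ A) ∧ (∀ c ∈ C, α c * c⁻¹ ∈ B) ∧
        ∀ g, α g * g⁻¹ ∈ C}
      one_mem' := by
        refine ⟨fun a _ => rfl, fun b _ => ?_, fun c _ => ?_, fun g => ?_⟩
        · simp
        · simp
        · simp
      mul_mem' := by
        rintro α β ⟨a1, a2, a3, a4⟩ ⟨b1, b2, b3, b4⟩
        refine ⟨fun a ha => ?_, fun b hb => ?_, fun c hc => ?_, fun g => ?_⟩
        · rw [MulAut.mul_apply, b1 a ha, a1 a ha]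
        · have e : (α * β) b * b⁻¹ = (β b * b⁻¹) * (α b * b⁻¹) := by
            have h1 : β b = (β b * b⁻¹) * b := by group
            rw [MulAut.mul_apply]
            conv_lhs => rw [h1, map_mul, a1 _ (b2 b hb)]
            group
          rw [e]; exact A.mul_mem (b2 b hb) (a2 b hb)
        · have e : (α * β) c * c⁻¹ = (α (β c * c⁻¹) * (β c * c⁻¹)⁻¹) * (β c * c⁻¹) * (α c * c⁻¹) := by
            have h1 : β c = (β c * c⁻¹) * c := by group
            rw [MulAut.mul_apply]
            conv_lhs => rw [h1, map_mul]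
            group
          rw [e]
          exact B.mul_mem (B.mul_mem (hAB (a2 _ (b3 c hc))) (b3 c hc)) (a3 c hc)
        · have e : (α * β) g * g⁻¹ = (α (β g * g⁻¹) * (β g * g⁻¹)⁻¹) * (β g * g⁻¹) * (α g * g⁻¹) := by
            have h1 : β g = (β g * g⁻¹) * g := by group
            rw [MulAut.mul_apply]
            conv_lhs => rw [h1, map_mul]
            group
          rw [e]
          exact C.mul_mem (C.mul_mem (hBC (a3 _ (b4 g))) (b4 g)) (a4 g)
      inv_mem' := by
        rintro α ⟨a1, a2, a3, a4⟩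
        have key : ∀ x : G, α⁻¹ x * x⁻¹ = (α (α⁻¹ x) * (α⁻¹ x)⁻¹)⁻¹ := by
          intro x
          have : α (α⁻¹ x) = x := by simp
          rw [this]; group
        refine ⟨fun a ha => ?_, fun b hb => ?_, fun c hc => ?_, fun g => ?_⟩
        · have := a1 a ha
          calc α⁻¹ a = α⁻¹ (α a) := by rw [this]
            _ = a := by simp
        · rw [key]
          exact A.inv_mem (a2 _ ((char_map_mem hB α⁻¹).mpr hb))
        · rw [key]
          exact B.inv_mem (a3 _ ((char_map_mem hC α⁻¹).mpr hc))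
        · rw [key]
          exact C.inv_mem (a4 _) }
  have hKmem : ∀ α : MulAut G, α ∈ K ↔ (∀ a ∈ A, α a = a) ∧ (∀ b ∈ B, α b * b⁻¹ ∈ A) ∧
      (∀ c ∈ C, α c * c⁻¹ ∈ B) ∧ ∀ g, α g * g⁻¹ ∈ C := fun α => Iff.rfl
  refine ⟨K, ?_, ?_, ?_⟩
  · constructor
    intro α hα θ
    obtain ⟨a1, a2, a3, a4⟩ := (hKmem α).mp hα
    have key : ∀ x : G, (θ * α * θ⁻¹) x * x⁻¹ = θ (α (θ⁻¹ x) * (θ⁻¹ x)⁻¹) := by
      intro x
      rw [MulAut.mul_apply, MulAut.mul_apply, map_mul, map_inv]
      simp
    rw [hKmem]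
    refine ⟨fun a ha => ?_, fun b hb => ?_, fun c hc => ?_, fun g => ?_⟩
    · rw [MulAut.mul_apply, MulAut.mul_apply, a1 _ ((char_map_mem hA θ⁻¹).mpr ha)]
      simp
    · rw [key]
      exact (char_map_mem hA θ).mpr (a2 _ ((char_map_mem hB θ⁻¹).mpr hb))
    · rw [key]
      exact (char_map_mem hB θ).mpr (a3 _ ((char_map_mem hC θ⁻¹).mpr hc))
    · rw [key]
      exact (char_map_mem hC θ).mpr (a4 _)
  · intro ⟨α, hα⟩
    obtain ⟨a1, a2, a3, a4⟩ := (hKmem α).mp hα
    refine ⟨6, ?_⟩
    apply Subtype.ext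
    show α ^ p ^ 6 = 1
    have s1 : ∀ b ∈ B, (α ^ p) b = b := by
      intro b hb
      rw [stab_pow_apply A B α a1 a2 p b hb, eA _ (a2 b hb), one_mul]
    obtain ⟨-, -, b3, b4⟩ := (hKmem (α ^ p)).mp (K.pow_mem hα p)
    have s2 : ∀ c ∈ C, ((α ^ p) ^ p ^ 2) c = c := by
      intro c hc
      rw [stab_pow_apply B C (α ^ p) s1 b3 (p ^ 2) c hc, eB _ (b3 c hc), one_mul]
    obtain ⟨-, -, -, c4⟩ := (hKmem ((α ^ p) ^ p ^ 2)).mp (K.pow_mem (K.pow_mem hα p) _)
    have s3 : ∀ g : G, (((α ^ p) ^ p ^ 2) ^ p ^ 3) g = g := by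
      intro g
      rw [stab_pow_apply C ⊤ ((α ^ p) ^ p ^ 2) s2 (fun y _ => c4 y) (p ^ 3) g (Subgroup.mem_top g),
        eC _ (c4 g), one_mul]
    have e : α ^ p ^ 6 = ((α ^ p) ^ p ^ 2) ^ p ^ 3 := by
      rw [← pow_mul, ← pow_mul]; congr 1; ring
    rw [e]
    ext g
    exact s3 g
  · rintro α ⟨k, hk⟩
    rw [hKmem]
    have hbot : ∀ a ∈ A, α a * a⁻¹ ∈ (⊥ : Subgroup G) :=
      aut_trivial_on_factor ⊥ A bot_le inferInstance (by rw [cA, Subgroup.card_bot, mul_one]) α
        (fun m hm => (char_map_mem hA α).mpr hm)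
        (fun n hn => by rw [Subgroup.mem_bot] at hn ⊢; rw [hn, map_one]) k hk
    refine ⟨fun a ha => ?_, ?_, ?_, ?_⟩
    · have := hbot a ha
      rw [Subgroup.mem_bot] at this
      exact mul_inv_eq_one.mp this
    · exact aut_trivial_on_factor A B hAB (Subgroup.normal_of_characteristic A)
        (by rw [cA, cB]; ring) α
        (fun m hm => (char_map_mem hB α).mpr hm) (fun n hn => (char_map_mem hA α).mpr hn) k hk
    · exact aut_trivial_on_factor B C hBC (Subgroup.normal_of_characteristic B)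
        (by rw [cB, cC]; ring) α
        (fun m hm => (char_map_mem hC α).mpr hm) (fun n hn => (char_map_mem hB α).mpr hn) k hk
    · intro g
      exact aut_trivial_on_factor C ⊤ le_top (Subgroup.normal_of_characteristic C)
        (by rw [cC, Subgroup.card_top, hG]; ring) α
        (fun m _ => Subgroup.mem_top _) (fun n hn => (char_map_mem hC α).mpr hn) k hk g
        (Subgroup.mem_top g)

end Abstract

section Fusion

variable {Ω : Type*} [Group Ω] {S : Subgroup Ω}

/-- For an essential `H`: a normal `p`-subgroup `K` of `Aut(H)` cannot contain an outer element of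
`Aut_S(H)`. -/
theorem essential_aut_normal_pgroup [Finite S] {p : ℕ} [Fact p.Prime] (hS : IsPGroup p S)
    (F : FusionSystem S) (hF : F.IsSaturated p) {H : Subgroup Ω} (hH : F.IsEssential p H)
    (K : Subgroup (MulAut H)) (hKn : K.Normal) (hKp : IsPGroup p K) :
    ∃ t ∈ autInducedBy S H, (∃ k : ℕ, t ^ p ^ k = 1) ∧ t ∈ F.autGroup H ∧ t ∉ Inn H ∧
      (t ∈ K → False) ∧ ∀ s ∈ K, s ∈ F.autGroup H → s ∈ Inn H := by
  have hHS : H ≤ S := hH.1.1
  have hrad := (essential_radical p hS F H hH).2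
  obtain ⟨M, -, -, t, ht, htI⟩ := ess_spe hS F hF hH
  have htX : t ∈ F.autGroup H := autInducedBy_le_autGroup F hHS ht
  have hKX : ∀ s ∈ K, s ∈ F.autGroup H → s ∈ Inn H := by
    intro s hs hsX
    have h1 : K.subgroupOf (F.autGroup H) ≤ pCore p (F.autGroup H) := by
      unfold pCore
      exact le_sSup ⟨hKn.subgroupOf _, hKp.comap_subtype⟩
    have h2 : (⟨s, hsX⟩ : F.autGroup H) ∈ pCore p (F.autGroup H) :=
      h1 (Subgroup.mem_subgroupOf.mpr hs)
    rw [← hrad]
    exact ⟨⟨s, hsX⟩, h2, rfl⟩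
  refine ⟨t, ht, ?_, htX, htI, fun htK => htI (hKX t htK htX), hKX⟩
  obtain ⟨k, hk⟩ := (isPGroup_autInducedBy hS H) ⟨t, ht⟩
  exact ⟨k, congrArg Subtype.val hk⟩

/-- An essential subgroup of order `p^4` has no characteristic series with steps of order `p`. -/
theorem essential_not_charChain4 [Finite S] {p : ℕ} [Fact p.Prime] (hS : IsPGroup p S)
    (F : FusionSystem S) (hF : F.IsSaturated p) {H : Subgroup Ω} (hH : F.IsEssential p H)
    (hcard : Nat.card H = p ^ 4) : ¬ CharChain4 p ↥H := by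
  intro hch
  have : Finite H := finite_of_le hH.1.1
  obtain ⟨K, hKn, hKp, hK⟩ := charChain4_aut hcard hch
  obtain ⟨t, -, htp, -, -, htK, -⟩ := essential_aut_normal_pgroup hS F hF hH K hKn hKp
  exact htK (hK t htp)

/-- `C_{p^2} × C_{p^2}` is not essential for `p ≥ 5`, given that its automorphisms of order `p` are
trivial modulo `p`-th powers. -/
theorem essential_not_sq [Finite S] {p : ℕ} [Fact p.Prime] (hS : IsPGroup p S)
    (F : FusionSystem S) (hF : F.IsSaturated p) {H : Subgroup Ω} (hH : F.IsEssential p H)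
    (hc : ∀ a b : H, a * b = b * a) (h2 : ∀ x : H, x ^ p ^ 2 = 1)
    (hD : ∀ β : MulAut H, β ^ p = 1 → ∀ x : H, ∃ y : H, β x = x * y ^ p) : False := by
  have hp : p.Prime := Fact.out
  let K : Subgroup (MulAut H) :=
    { carrier := {α | ∀ x : H, ∃ y : H, α x = x * y ^ p}
      one_mem' := fun x => ⟨1, by simp⟩
      mul_mem' := by
        rintro α β ha hb x
        obtain ⟨y, hy⟩ := hb x
        obtain ⟨y', hy'⟩ := ha x
        obtain ⟨y'', hy''⟩ := ha y
        refine ⟨y' * α y, ?_⟩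
        rw [MulAut.mul_apply, hy, map_mul, map_pow, hy', (show Commute y' (α y) from hc _ _).mul_pow,
          mul_assoc]
      inv_mem' := by
        rintro α ha x
        obtain ⟨y, hy⟩ := ha (α⁻¹ x)
        have h1 : α (α⁻¹ x) = x := by simp
        rw [h1] at hy
        refine ⟨y⁻¹, ?_⟩
        rw [inv_pow]
        calc α⁻¹ x = α⁻¹ x * y ^ p * (y ^ p)⁻¹ := by group
          _ = x * (y ^ p)⁻¹ := by rw [← hy] }
  have hKmem : ∀ α : MulAut H, α ∈ K ↔ ∀ x : H, ∃ y : H, α x = x * y ^ p := fun α => Iff.rfl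
  have hKn : K.Normal := by
    constructor
    intro α hα θ
    rw [hKmem]
    intro x
    obtain ⟨y, hy⟩ := (hKmem α).mp hα (θ⁻¹ x)
    refine ⟨θ y, ?_⟩
    rw [MulAut.mul_apply, MulAut.mul_apply, hy, map_mul, map_pow]
    simp
  have hKp : IsPGroup p K := by
    rintro ⟨α, hα⟩
    refine ⟨1, ?_⟩
    apply Subtype.ext
    show α ^ p ^ 1 = 1
    rw [pow_one]
    ext x
    obtain ⟨y, hy⟩ := (hKmem α).mp hα x
    have key : ∀ n : ℕ, (α ^ n) x = x * y ^ (p * n) := by
      intro n
      induction n with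
      | zero => simp
      | succ n ih =>
        obtain ⟨y₁, hy₁⟩ := (hKmem α).mp hα y
        rw [pow_succ', MulAut.mul_apply, ih, map_mul, map_pow, hy, hy₁,
          (show Commute y (y₁ ^ p) from hc _ _).mul_pow, ← pow_mul]
        have e1 : y₁ ^ (p * (p * n)) = 1 := by
          have : p * (p * n) = p ^ 2 * n := by ring
          rw [this, pow_mul, h2, one_pow]
        rw [e1, mul_one, mul_assoc, ← pow_add]
        congr 2
        ring
    rw [key p, ← sq, h2, mul_one]
    rfl
  obtain ⟨t, -, ⟨k, htp⟩, htX, htI, -, hKX⟩ := essential_aut_normal_pgroup hS F hF hH K hKn hKp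
  have ht1 : t ≠ 1 := fun h => htI (h ▸ (Inn H).one_mem)
  have hot : orderOf t ∣ p ^ k := orderOf_dvd_of_pow_eq_one htp
  have hpo : p ∣ orderOf t := by
    obtain ⟨j, -, hj⟩ := (Nat.dvd_prime_pow hp).mp hot
    rcases j with _ | j
    · rw [pow_zero] at hj
      exact absurd (orderOf_eq_one_iff.mp hj) ht1
    · rw [hj, pow_succ]; exact dvd_mul_left _ _
  have hβo : orderOf (t ^ (orderOf t / p)) = p :=
    orderOf_pow_orderOf_div
      (isOfFinOrder_iff_pow_eq_one.mpr ⟨p ^ k, pow_pos hp.pos k, htp⟩).orderOf_pos.ne' hpo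
  set β := t ^ (orderOf t / p) with hβ
  have hβp : β ^ p = 1 := by rw [← hβo]; exact pow_orderOf_eq_one β
  have hβK : β ∈ K := (hKmem β).mpr (hD β hβp)
  have hβI : β ∈ Inn H := hKX β hβK (Subgroup.pow_mem _ htX _)
  obtain ⟨h, hh⟩ := hβI
  have hβ1 : β = 1 := by
    rw [← hh]
    ext x
    simp only [MulAut.conj_apply, MulAut.one_apply]
    rw [hc h x, mul_inv_cancel_right]
  rw [hβ1, orderOf_one] at hβo
  exact hp.one_lt.ne hβo

end Fusion

end Cfsg.Agent.Helper84
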