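import Cfsg.Agent.Helper84.P4Ess

/-!
# Essential subgroups of order `p^4`: assembly

`essential_p4` derives the classification of essential subgroups of order `p^4` from the
group-theoretic lemmas on groups of order `p^4` (passed as hypotheses about `↥H`).
-/

namespace Cfsg.Agent.Helper84

open Cfsg Cfsg.FusionSystem Subgroup

variable {Ω : Type*} [Group Ω] {S : Subgroup Ω}

theorem essential_p4 [Finite S] (p : ℕ) [Fact p.Prime] (hS : IsPGroup p S)
    (F : FusionSystem S) (hF : F.IsSaturated p) (H : Subgroup Ω) (hH : F.IsEssential p H)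
    (hcard : Nat.card H = p ^ 4)
    (pA1 : (∀ a b : H, a * b = b * a) → (∃ x : H, x ^ (p ^ 2) ≠ 1) → CharChain4 p H)
    (pA2 : (∀ a b : H, a * b = b * a) → (∀ x : H, x ^ (p ^ 2) = 1) → (∃ x : H, x ^ p ≠ 1) →
      Nonempty (H ≃* Multiplicative (ZMod (p ^ 2) × ZMod p × ZMod p)) ∨
        Nonempty (H ≃* Multiplicative (ZMod (p ^ 2) × ZMod (p ^ 2))))
    (pB1 : Nat.card (frattini H) = p ^ 2 → Nat.card (commutator H) = p → CharChain4 p H)
    (pB2 : Nat.card (frattini H) = p ^ 2 → Nat.card (commutator H) = p ^ 2 → CharChain4 p H)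
    (pC0 : (¬ ∀ a b : H, a * b = b * a) → Nat.card (frattini H) = p →
      Nat.card (Subgroup.center H) = p ^ 2 ∧ commutator H = frattini H ∧
        frattini H ≤ Subgroup.center H ∧ (∀ x : H, x ^ p ∈ frattini H) ∧ (∀ x : H, x ^ (p ^ 2) = 1))
    (pC1 : p ≠ 2 → (¬ ∀ a b : H, a * b = b * a) → Nat.card (frattini H) = p →
      Nat.card (Subgroup.center H) = p ^ 2 → ¬ IsCyclic (Subgroup.center H) →
      commutator H = frattini H → frattini H ≤ Subgroup.center H → (∀ x : H, x ^ p ∈ frattini H) →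
      CharChain4 p H ∨
        ∃ (E : Type) (_ : Group E) (_ : Finite E), Cfsg.IsExtraspecial p E ∧ Nat.card E = p ^ 3 ∧
          (∀ x : E, x ^ p = 1) ∧ Nonempty (H ≃* E × Multiplicative (ZMod p)))
    (pC2 : p = 2 → (¬ ∀ a b : H, a * b = b * a) → Nat.card (frattini H) = p →
      Nat.card (Subgroup.center H) = p ^ 2 → ¬ IsCyclic (Subgroup.center H) →
      commutator H = frattini H → frattini H ≤ Subgroup.center H → (∀ x : H, x ^ p ∈ frattini H) →
      CharChain4 p H ∨ Nonempty (H ≃* QuaternionGroup 2 × Multiplicative (ZMod 2)))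
    (pD : 5 ≤ p → Nonempty (H ≃* Multiplicative (ZMod (p ^ 2) × ZMod (p ^ 2))) →
      ∀ β : MulAut H, β ^ p = 1 → ∀ x : H, ∃ y : H, β x = x * y ^ p)
    (pF : (¬ ∀ a b : H, a * b = b * a) →
      (Nat.card (frattini H) = p ∨ Nat.card (frattini H) = p ^ 2) ∧
        (Nat.card (commutator H) = p ∨ Nat.card (commutator H) = p ^ 2) ∧ commutator H ≤ frattini H) :
    Cfsg.IsElementaryAbelian p H ∨
      Nonempty (↥H ≃* Multiplicative (ZMod (p ^ 2) × ZMod p × ZMod p)) ∨
      ((p = 2 ∨ p = 3) ∧ Nonempty (↥H ≃* Multiplicative (ZMod (p ^ 2) × ZMod (p ^ 2)))) ∨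
      (Odd p ∧ ∃ (E : Type) (_ : Group E) (_ : Finite E), Cfsg.IsExtraspecial p E ∧ Nat.card E = p ^ 3 ∧
        (∀ x : E, x ^ p = 1) ∧ Nonempty (↥H ≃* E × Multiplicative (ZMod p))) ∨
      (p = 2 ∧ Nonempty (↥H ≃* QuaternionGroup 2 × Multiplicative (ZMod 2))) ∨
      (¬ IsMulCommutative ↥H ∧ (∀ x ∈ H, x ^ (p ^ 2) = 1) ∧ IsCyclic ↥(Subgroup.center ↥H) ∧
        Nat.card (Subgroup.center ↥H) = p ^ 2) := by
  have hp : p.Prime := Fact.out
  have hno := essential_not_charChain4 hS F hF hH hcard
  by_cases hab : ∀ a b : H, a * b = b * a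
  · by_cases h1 : ∀ x : H, x ^ p = 1
    · left
      refine ⟨⟨⟨fun a b => hab a b⟩⟩, fun a ha => ?_⟩
      exact congrArg Subtype.val (h1 ⟨a, ha⟩)
    · push Not at h1
      by_cases h2 : ∀ x : H, x ^ (p ^ 2) = 1
      · rcases pA2 hab h2 h1 with h | h
        · right; left; exact h
        · by_cases h5 : 5 ≤ p
          · exact (essential_not_sq hS F hF hH hab h2 (pD h5 h)).elim
          · right; right; left
            refine ⟨?_, h⟩
            have h2p := hp.two_le
            have : p ≠ 4 := fun h4 => by rw [h4] at hp; exact absurd hp (by decide)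
            omega
      · push Not at h2
        exact (hno (pA1 hab h2)).elim
  · obtain ⟨hΦ, hc, -⟩ := pF hab
    rcases hΦ with hΦ | hΦ
    · obtain ⟨hz, hcf, hfz, hpow, hexp⟩ := pC0 hab hΦ
      by_cases hzc : IsCyclic (Subgroup.center H)
      · right; right; right; right; right
        refine ⟨?_, fun x hx => ?_, hzc, hz⟩
        · intro hcomm
          exact hab (fun a b => hcomm.is_comm.comm a b)
        · exact congrArg Subtype.val (hexp ⟨x, hx⟩)
      · by_cases hp2 : p = 2
        · rcases pC2 hp2 hab hΦ hz hzc hcf hfz hpow with h | h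
          · exact (hno h).elim
          · right; right; right; right; left
            exact ⟨hp2, h⟩
        · rcases pC1 hp2 hab hΦ hz hzc hcf hfz hpow with h | h
          · exact (hno h).elim
          · right; right; right; left
            exact ⟨hp.odd_of_ne_two hp2, h⟩
    · rcases hc with hc | hc
      · exact (hno (pB1 hΦ hc)).elim
      · exact (hno (pB2 hΦ hc)).elim

end Cfsg.Agent.Helper84
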