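/-
helper84: CALL PK (helper62) piece D4.
-/
import Cfsg.Agent.Helper62.PKDefs
import Cfsg.Agent.Helper23.Trans
import Cfsg.Agent.S1426

set_option autoImplicit false

namespace Cfsg.Agent.Helper84

open Cfsg Subgroup Cfsg.Agent.Helper62

universe u

variable {G : Type u} [Group G] [Finite G]

/-- D4. `M_σ` is not inside `Z` when `M = M_σ K`. -/
theorem pk_proper (hG : IsMinSimpleOddOrder G) {M K : Subgroup G} (hM : IsCoatom M)
    (hKM : K ≤ M) (hKσ : K ⊓ sigmaCore M = ⊥) (hS1 : pkS M K ≠ ⊥)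
    (hσZ : sigmaCore M ⊓ pkZ M K = pkS M K)
    (hsup : ∀ m ∈ M, ∃ n ∈ sigmaCore M, ∃ k ∈ K, m = n * k) :
    ¬ sigmaCore M ≤ pkZ M K := by
  intro hle
  have hcompl : IsComplIn K (sigmaCore M) M := by
    refine ⟨hKM, Cfsg.Agent.Helper23.piCoreOf_le _ _, hKσ, ?_⟩
    intro m hm
    obtain ⟨n, hn, k, hk, h⟩ := hsup m⁻¹ (M.inv_mem hm)
    refine ⟨k⁻¹, K.inv_mem hk, n⁻¹, (sigmaCore M).inv_mem hn, ?_⟩
    rw [← mul_inv_rev, ← h, inv_inv]
  have h26 : ⁅sigmaCore M, K⁆ = sigmaCore M := (Cfsg.Agent.S1426.result hG M hM K hcompl).2.1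
  have hcent : sigmaCore M ≤ centralizer (K : Set G) := by
    have h1 : sigmaCore M ≤ pkS M K := by
      rw [← hσZ]
      exact le_inf le_rfl hle
    exact h1.trans inf_le_right
  have hbot : ⁅sigmaCore M, K⁆ = ⊥ := Subgroup.commutator_eq_bot_iff_le_centralizer.mpr hcent
  apply hS1
  rw [eq_bot_iff, ← hbot, h26]
  exact inf_le_left

end Cfsg.Agent.Helper84
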