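/-
helper84: CALL PK (helper62) piece D6.
-/
import Cfsg.Agent.Helper62.PKDefs
import Cfsg.Agent.Helper23.Trans
import Cfsg.Agent.Helper54.BG14T4
import Cfsg.Agent.S1378

set_option autoImplicit false

namespace Cfsg.Agent.Helper84

open Cfsg Subgroup Cfsg.Agent.Helper62

universe u

variable {G : Type u} [Group G] [Finite G]

/-- D6. Claim A: if `K ∩ K₁s ≠ 1` for the maximal subgroup `Ms` over `N_G(X)` (`K₁s` a Hall
`κ(Ms)`-subgroup), then `K` lies in no `H_σ`. -/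
theorem pk_claimA (hG : IsMinSimpleOddOrder G) {K Ms K₁s X H : Subgroup G}
    (hMs : IsCoatom Ms) (hH : IsCoatom H) (hXK : X ≤ K) (hX : (Nat.card X).Prime)
    (hXσ : Nat.card X ∈ sigma Ms) (hK₁s : IsPiHallOf (kappa Ms) K₁s Ms)
    (hbad : K ⊓ K₁s ≠ ⊥) (hK : K ≤ sigmaCore H) : False := by
  have hdvdσ : ∀ Y : Subgroup G, Y ≤ K → ∀ s : ℕ, s.Prime → s ∣ Nat.card Y → s ∈ sigma H := by
    intro Y hY s hs hd
    exact Cfsg.Agent.Helper23.mem_of_dvd_card_piCoreOf (sigma H) H hs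
      (hd.trans (Subgroup.card_dvd_of_le (hY.trans hK)))
  have hXσH : Nat.card X ∈ sigma H := hdvdσ X hXK _ hX dvd_rfl
  obtain ⟨g, hg⟩ := (Cfsg.Agent.S1378.result hG).2 Ms H hMs hH ⟨Nat.card X, hXσ, hXσH⟩
  have hσ : sigma H = sigma Ms := by
    rw [hg]
    exact Cfsg.Agent.Helper54.bg14t_sigma_conj Ms g
  have hcard : Nat.card ↥(K ⊓ K₁s) ≠ 1 := by
    intro h
    exact hbad (Subgroup.card_eq_one.mp h)
  obtain ⟨s, hs, hsd⟩ := Nat.exists_prime_and_dvd hcard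
  have h1 : s ∈ sigma H := hdvdσ (K ⊓ K₁s) inf_le_left s hs hsd
  have h2 : s ∈ kappa Ms := hK₁s.2.1 s hs (hsd.trans (Subgroup.card_dvd_of_le inf_le_right))
  rw [hσ] at h1
  exact h2.2.2.1 h1

end Cfsg.Agent.Helper84
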