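/-
helper84: CALL PK (helper62) piece D7.
-/
import Cfsg.Agent.Helper62.PKDefs
import Cfsg.Agent.Helper23.Trans
import Cfsg.Agent.Helper49.BGCOE
import Cfsg.Agent.Helper99.PKB2

set_option autoImplicit false

namespace Cfsg.Agent.Helper84

open Cfsg Subgroup Cfsg.Agent.Helper62

universe u

variable {G : Type u} [Group G] [Finite G]

/-- D7. Two distinct members `L ≠ L'` over `N_G(T)`, `N_G(T')` meet in `Z`. -/
theorem pk_inf_HH (hG : IsMinSimpleOddOrder G) {L L' K₁ T' : Subgroup G}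
    (hL : IsCoatom L) (hL' : IsCoatom L') (hne : L ≠ L')
    (hκ : ∀ q : ℕ, q.Prime → q ∣ Nat.card K₁ → q ∈ kappa L)
    (hT'Z : T' ≤ pkZ L K₁) (hT' : (Nat.card T').Prime)
    (hN : normalizer (T' : Set G) ≤ L') (hT'σ : Nat.card T' ∈ sigma L')
    (hsup : ∀ m ∈ L, ∃ n ∈ sigmaCore L, ∃ k ∈ K₁, m = n * k)
    (hZL : pkZ L K₁ ≤ L) (hZL' : pkZ L K₁ ≤ L')
    (hinf : T' ≤ K₁ → sigmaCore L ⊓ L' = pkS L K₁) :
    L ⊓ L' = pkZ L K₁ := by
  have hT'L : T' ≤ L := hT'Z.trans hZL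
  have hpσ : Nat.card T' ∉ sigma L := by
    intro h
    exact hne (Cfsg.Agent.Helper49.starc_over_eq hG hL hL' h hT'σ hT'L hT' hT'σ hN)
  have hcop : Nat.Coprime (Nat.card K₁) (Nat.card (sigmaCore L)) := by
    apply Nat.coprime_of_dvd
    intro q hq hq1 hq2
    have h1 := hκ q hq hq1
    have h2 : q ∈ sigma L := Cfsg.Agent.Helper23.mem_of_dvd_card_piCoreOf (sigma L) L hq hq2
    exact h1.2.2.1 h2
  have hbot : K₁ ⊓ sigmaCore L = ⊥ := (Subgroup.disjoint_of_coprime_natCard hcop).eq_bot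
  have hScent : pkS L K₁ ≤ centralizer (K₁ : Set G) := inf_le_right
  have hT'K : T' ≤ K₁ := by
    intro t ht
    obtain ⟨a, ha, b, hb, rfl⟩ := (Cfsg.Agent.Helper99.pk_mem_sup hScent t).mp (hT'Z ht)
    have hbσ : b ∈ sigmaCore L := hb.1
    have hab : a * b = b * a := (Subgroup.mem_centralizer_iff.1 hb.2) a ha
    have hpow : (a * b) ^ Nat.card T' = 1 := by
      have h0 := pow_card_eq_one' (G := T') (x := ⟨a * b, ht⟩)
      exact congrArg Subtype.val h0
    rw [(show Commute a b from hab).mul_pow] at hpow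
    have hap : a ^ Nat.card T' ∈ K₁ ⊓ sigmaCore L := by
      refine ⟨K₁.pow_mem ha _, ?_⟩
      have h0 : a ^ Nat.card T' = (b ^ Nat.card T')⁻¹ := eq_inv_of_mul_eq_one_left hpow
      rw [h0]
      exact (sigmaCore L).inv_mem ((sigmaCore L).pow_mem hbσ _)
    rw [hbot, Subgroup.mem_bot] at hap
    rw [hap, one_mul] at hpow
    have hord : orderOf b ∣ Nat.card T' := orderOf_dvd_of_pow_eq_one hpow
    rcases (Nat.dvd_prime hT').mp hord with h1 | h1
    · rw [orderOf_eq_one_iff.mp h1, mul_one]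
      exact ha
    · exfalso
      apply hpσ
      apply Cfsg.Agent.Helper23.mem_of_dvd_card_piCoreOf (sigma L) L hT'
      rw [← h1]
      have h' := orderOf_dvd_natCard (⟨b, hbσ⟩ : sigmaCore L)
      rwa [Subgroup.orderOf_mk] at h'
  have hi := hinf hT'K
  apply le_antisymm
  · intro m hm
    obtain ⟨n, hn, k, hk, rfl⟩ := hsup m hm.1
    have hkZ : k ∈ pkZ L K₁ := Subgroup.mem_sup_left hk
    have hnL' : n ∈ L' := by
      have h0 : n = (n * k) * k⁻¹ := by group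
      rw [h0]
      exact L'.mul_mem hm.2 (L'.inv_mem (hZL' hkZ))
    have hnS : n ∈ pkS L K₁ := by
      rw [← hi]
      exact ⟨hn, hnL'⟩
    exact Subgroup.mul_mem _ (Subgroup.mem_sup_right hnS) hkZ
  · exact le_inf hZL hZL'

end Cfsg.Agent.Helper84
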