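import Mathlib
import Cfsg.Prelude.Def_GeometricClasses
import Cfsg.Agent.Helper90.SFRDefs
import Cfsg.Agent.Helper84.SFRRATKCore
import Cfsg.Agent.Helper84.SFRRATSUM

/-!
# Piece RATK of CALL S5965 (helper84): `rat_stable`, verbatim statement
-/

set_option autoImplicit false

namespace Cfsg.Agent.Helper84

open Module Polynomial Cfsg.Agent.Helper90.SFR

section lin
variable {F : Type*} [Field F] {V : Type*} [AddCommGroup V] [Module F V] [FiniteDimensional F V]

/-- PIECE RATK -/
theorem rat_stable (F₀ : Subfield F) (T : V →ₗ[F] V) (r : ℕ) (hr : 0 < r) (hrF : (r : F) ≠ 0)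
    (hT : T ^ r = 1)
    (hirr : ∀ h : Polynomial ↥F₀, Irreducible h → h ∣ X ^ r - 1 →
      Irreducible (h.map F₀.subtype)) : IsRat F₀ T :=
  rat_stable_core F₀ r hr hrF hirr
    (fun _ _ _ _ T W W' hW hW' hc h1 h2 => rat_sum F₀ T W W' hW hW' hc h1 h2) _ V T rfl hT

end lin

end Cfsg.Agent.Helper84
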