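-- helper84 library: PIECE FC2 of helper35's CALL S2459 (Sourour LU factorisation):
-- a non-scalar 2x2 matrix is similar to one with prescribed first column (κ, 1).
import Mathlib

set_option autoImplicit false

open Matrix

namespace Cfsg.Agent.Helper84

/-- Conjugating by the inverse of an invertible `N` whose first column is `v` and second column
`S v - κ v`: the first column of `N⁻¹ S N` is `(κ, 1)`. -/
theorem sou_two_first_col_aux {F : Type*} [Field F] (S N : Matrix (Fin 2) (Fin 2) F)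
    (hN : N.det ≠ 0) (κ : F)
    (h0 : (S * N) 0 0 = κ * N 0 0 + N 0 1) (h1 : (S * N) 1 0 = κ * N 1 0 + N 1 1) :
    ∃ Q : Matrix (Fin 2) (Fin 2) F, Q.det ≠ 0 ∧
      (Q * S * Q⁻¹) 0 0 = κ ∧ (Q * S * Q⁻¹) 1 0 = 1 := by
  have hunit : IsUnit N.det := isUnit_iff_ne_zero.mpr hN
  refine ⟨N⁻¹, ?_, ?_, ?_⟩
  · rw [Matrix.det_nonsing_inv]
    simpa using hN
  · rw [Matrix.nonsing_inv_nonsing_inv N hunit, Matrix.mul_assoc, Matrix.mul_apply,
      Fin.sum_univ_two, h0, h1]
    have e : (N⁻¹ * N) 0 0 = 1 := by rw [Matrix.nonsing_inv_mul N hunit]; rfl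
    have e' : (N⁻¹ * N) 0 1 = 0 := by rw [Matrix.nonsing_inv_mul N hunit]; rfl
    rw [Matrix.mul_apply, Fin.sum_univ_two] at e e'
    linear_combination κ * e + e'
  · rw [Matrix.nonsing_inv_nonsing_inv N hunit, Matrix.mul_assoc, Matrix.mul_apply,
      Fin.sum_univ_two, h0, h1]
    have e : (N⁻¹ * N) 1 0 = 0 := by rw [Matrix.nonsing_inv_mul N hunit]; rfl
    have e' : (N⁻¹ * N) 1 1 = 1 := by rw [Matrix.nonsing_inv_mul N hunit]; rfl
    rw [Matrix.mul_apply, Fin.sum_univ_two] at e e'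
    linear_combination κ * e + e'

theorem sou_two_first_col {F : Type*} [Field F] (S : Matrix (Fin 2) (Fin 2) F)
    (hns : ∀ c : F, S ≠ c • (1 : Matrix (Fin 2) (Fin 2) F)) (κ : F) :
    ∃ Q : Matrix (Fin 2) (Fin 2) F, Q.det ≠ 0 ∧
      (Q * S * Q⁻¹) 0 0 = κ ∧ (Q * S * Q⁻¹) 1 0 = 1 := by
  by_cases hc : S 1 0 = 0
  · by_cases hb : S 0 1 = 0
    · -- diagonal, non-scalar: `v = e₀ + e₁`
      have had : S 0 0 ≠ S 1 1 := by
        intro h
        apply hns (S 0 0)
        ext i j
        fin_cases i <;> fin_cases j <;> simp [hc, hb, h]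
      apply sou_two_first_col_aux S !![1, S 0 0 - κ; 1, S 1 1 - κ] ?_ κ
      · simp [Matrix.mul_apply, Fin.sum_univ_two, hb]
      · simp [Matrix.mul_apply, Fin.sum_univ_two, hc]
      · rw [Matrix.det_fin_two]
        simp only [Matrix.of_apply, Matrix.cons_val', Matrix.cons_val_zero, Matrix.cons_val_one,
          Matrix.cons_val_fin_one]
        intro h
        apply had
        linear_combination -h
    · -- `v = e₁`
      apply sou_two_first_col_aux S !![0, S 0 1; 1, S 1 1 - κ] ?_ κ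
      · simp [Matrix.mul_apply, Fin.sum_univ_two]
      · simp [Matrix.mul_apply, Fin.sum_univ_two]
      · rw [Matrix.det_fin_two]
        simpa using hb
  · -- `v = e₀`
    apply sou_two_first_col_aux S !![1, S 0 0 - κ; 0, S 1 0] ?_ κ
    · simp [Matrix.mul_apply, Fin.sum_univ_two]
    · simp [Matrix.mul_apply, Fin.sum_univ_two]
    · rw [Matrix.det_fin_two]
      simpa using hc

end Cfsg.Agent.Helper84
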