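import Mathlib
import Cfsg.Prelude.Def_GeometricClasses
import Cfsg.Agent.Helper71.T4Defs
import Cfsg.Agent.Helper71.T4Main
import Cfsg.Agent.Helper97.OForm
import Cfsg.Agent.Helper96.T5Defs
import Cfsg.Agent.Helper84.T5RY1Core
import Cfsg.Agent.Helper99.T5GMB
import Cfsg.Agent.Helper31.T5KU
import Cfsg.Agent.Helper31.T5RN

/-!
# PIECE RY1 of CALL S5704 (helper84): verbatim statement
-/

set_option autoImplicit false
set_option linter.unusedVariables false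

namespace Cfsg.Agent.Helper84.T5RY1

open Matrix Cfsg Cfsg.Geo Cfsg.Agent.Helper71.T4 Cfsg.Agent.Helper96.T5
open scoped Kronecker

variable {F : Type*} [Field F] {a b : ℕ}

variable {J₁ : Matrix (Fin a) (Fin a) F} {J₂ : Matrix (Fin b) (Fin b) F}
  {Q : (Fin a × Fin b → F) → F}

/-- PIECE RY1 -/
theorem ry1 (hT : TQ J₁ J₂ Q) (ha : 1 ≤ a) (M : Subgroup (GL (Fin a × Fin b) F))
    (hMO : M ≤ isometryGroup F Q) (hR : HasR J₁ J₂ M)
    (hA1 : ∀ d : Fin b → F, d ≠ 0 → ∀ g ∈ M, InU J₂ d (g.1 - 1) → IsKron g.1)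
    (y : GL (Fin a × Fin b) F) (hy : y ∈ M) (e : Fin b → F) (he : e ≠ 0)
    (hfix : ∀ u : Fin a → F, y.1 *ᵥ pt u e = pt u e)
    (hcnt : ∀ v, cnt J₂ e ((y.1 - 1) *ᵥ v) = 0) :
    ∀ w' : Fin b → F, bf J₂ w' e = 0 → ∃ w'' : Fin b → F, bf J₂ w'' e = 0 ∧
      ∀ u : Fin a → F, ∃ u'' : Fin a → F, y.1 *ᵥ pt u w' = pt u w'' + pt u'' e :=
  ry1_core hT ha M hMO hR hA1 y hy e he hfix hcnt
    (fun d w hwd c s => Cfsg.Agent.Helper99.T5GMB.gm_heis hT d w hwd c s)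
    (fun y hy d e hd he hde Z hZ => Cfsg.Agent.Helper31.T5RN.rn hT y hy d e hd he hde Z hZ)
    (fun g e he hk hU => Cfsg.Agent.Helper31.T5KU.ku hT ha g e he hk hU)

end Cfsg.Agent.Helper84.T5RY1
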