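import Mathlib
import Cfsg.Prelude.Def_FusionSystem
import Cfsg.Prelude.Def_FusionComponents
import Cfsg.Prelude.Def_PLocal
import Cfsg.Agent.Helper84.InnerInd
import Cfsg.Agent.Helper69.SelfCentralizing
import Cfsg.Agent.S3082

set_option autoImplicit false

/-!
# The Glauberman–Thompson criterion relative to a strongly closed subgroup (`p` odd)

For `D` strongly closed in the saturated fusion system `F` over `S`: `F` is inner iff the normalizer system of
`Z(J(D))` is inner.
-/

namespace Cfsg.Agent.Helper84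

open Cfsg Cfsg.FusionSystem

section Closed

universe u

/-- The hypothesis of the strongly closed Glauberman–Thompson criterion. -/
def HClosed (p : ℕ) (Ω : Type u) [Group Ω] (S : Subgroup Ω) (F : FusionSystem S) : Prop :=
  ∃ D : Subgroup Ω, F.StronglyClosed D ∧ NP p F (centerThompsonAOf D)

variable {Ω : Type u} [Group Ω] {S : Subgroup Ω}

theorem stronglyClosed_le_normalizer [Finite S] (F : FusionSystem S) {D : Subgroup Ω}
    (hD : F.StronglyClosed D) : S ≤ Subgroup.normalizer (D : Set Ω) := by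
  have hfD : Finite D := finite_of_le hD.1
  intro s hs
  apply mem_normalizer_of_forall_conj_mem
  intro a ha
  exact stronglyClosed_conj_mem F hD hs ha

/-- A nontrivial strongly closed subgroup meets every normalizer `N_S(U)` nontrivially. -/
theorem closed_inf_ne_bot [Finite S] {p : ℕ} [Fact p.Prime] (hS : IsPGroup p S) (F : FusionSystem S)
    {D : Subgroup Ω} (hD : F.StronglyClosed D) (hD1 : D ≠ ⊥) {U : Subgroup Ω} (hUS : U ≤ S) :
    D ⊓ normalizerIn S U ≠ ⊥ := by
  have hDS := hD.1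
  have hfU : Finite U := finite_of_le hUS
  have hnil : Group.IsNilpotent ↥S := hS.isNilpotent
  have hn : (D.subgroupOf S).Normal := by
    refine ⟨fun d hd s => ?_⟩
    exact Subgroup.mem_subgroupOf.mpr
      (stronglyClosed_conj_mem F hD s.2 (Subgroup.mem_subgroupOf.mp hd))
  have hne : D.subgroupOf S ≠ ⊥ := by
    intro h
    apply hD1
    rw [eq_bot_iff]
    intro d hd
    have h1 : (⟨d, hDS hd⟩ : S) ∈ D.subgroupOf S := Subgroup.mem_subgroupOf.mpr hd
    rw [h, Subgroup.mem_bot] at h1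
    exact Subgroup.mem_bot.mpr (congrArg Subtype.val h1)
  obtain ⟨z, hzN, hz1, hzc⟩ := Helper69.exists_mem_center_of_normal_ne_bot (D.subgroupOf S) hne
  have hzD : (z : Ω) ∈ D := Subgroup.mem_subgroupOf.mp hzN
  have hzT : (z : Ω) ∈ normalizerIn S U := by
    refine ⟨z.2, ?_⟩
    apply mem_normalizer_of_forall_conj_mem
    intro a ha
    have h1 : (⟨a, hUS ha⟩ : S) * z = z * ⟨a, hUS ha⟩ := Subgroup.mem_center_iff.mp hzc _
    have h2 : a * (z : Ω) = (z : Ω) * a := congrArg Subtype.val h1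
    have h3 : (z : Ω) * a * (z : Ω)⁻¹ = a := by
      rw [← h2]
      group
    rw [h3]
    exact ha
  intro hbot
  have h4 : (z : Ω) ∈ D ⊓ normalizerIn S U := ⟨hzD, hzT⟩
  rw [hbot, Subgroup.mem_bot] at h4
  exact hz1 (Subtype.ext h4)

theorem hClosed_norm {p : ℕ} (F : FusionSystem S) (hH : HClosed p Ω S F) (U : Subgroup Ω)
    (hT : normalizerIn S U = S) (N : FusionSystem (normalizerIn S U))
    (hN : F.IsNormalizerSystem U N) : HClosed p Ω (normalizerIn S U) N := by
  obtain ⟨D, hD, hNP⟩ := hH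
  refine ⟨D, ⟨?_, fun R hR φ hφ x => hD.2 R hR φ (nsys_hom_le F N hN hφ) x⟩,
    np_nsys_of_np F N hN hNP⟩
  rw [hT]
  exact hD.1

theorem hClosed_chain [Finite S] {p : ℕ} [Fact p.Prime] (hS : IsPGroup p S) (F : FusionSystem S)
    (hH : HClosed p Ω S F) (U : Subgroup Ω) (hUfn : F.IsFullyNormalized U)
    (hT : normalizerIn S U ≠ S) (N : FusionSystem (normalizerIn S U))
    (hN : F.IsNormalizerSystem U N) (hNH : ¬ HClosed p Ω (normalizerIn S U) N) :
    ∃ V : Subgroup Ω, V ≠ ⊥ ∧ V ≤ S ∧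
      Nat.card (normalizerIn S U) < Nat.card (normalizerIn S V) ∧ ¬ NP p F V := by
  obtain ⟨D, hD, hNP⟩ := hH
  have hUS := hUfn.1
  have hTS := normalizerIn_le_S S U
  have hfT : Finite ↥(normalizerIn S U) := finite_of_le hTS
  have hDS := hD.1
  have hfD : Finite D := finite_of_le hDS
  by_cases hD1 : D = ⊥
  · exfalso
    apply hNH
    have hZ : centerThompsonAOf (⊥ : Subgroup Ω) = ⊥ :=
      le_bot_iff.mp (Helper11.centerThompsonAOf_le ⊥)
    rw [hD1, hZ] at hNP
    refine ⟨⊥, stronglyClosed_bot N, ?_⟩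
    rw [hZ]
    exact np_nsys_of_np F N hN hNP
  · have hDT1 : D ⊓ normalizerIn S U ≠ ⊥ := closed_inf_ne_bot hS F hD hD1 hUS
    have hscN : N.StronglyClosed (D ⊓ normalizerIn S U) :=
      ⟨inf_le_right, fun R hR φ hφ x =>
        ⟨hD.2 R (hR.trans inf_le_left) φ (nsys_hom_le F N hN hφ) x, hom_mem N hφ x⟩⟩
    have hDTS : D ⊓ normalizerIn S U ≤ S := inf_le_left.trans hDS
    have hfDT : Finite ↥(D ⊓ normalizerIn S U) := finite_of_le hDTS
    have hV1 : centerThompsonAOf (D ⊓ normalizerIn S U) ≠ ⊥ :=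
      centerThompsonAOf_ne_bot' _ (hS.to_le hDTS) hDT1
    have hVle : centerThompsonAOf (D ⊓ normalizerIn S U) ≤ D ⊓ normalizerIn S U :=
      Helper11.centerThompsonAOf_le _
    refine ⟨_, hV1, hVle.trans hDTS, ?_, fun h => hNH ⟨_, hscN, np_nsys_of_np F N hN h⟩⟩
    have hlt : normalizerIn S U < S := lt_of_le_of_ne hTS hT
    have h5 := card_lt_card_normalizerIn hS hlt
    have h3 : normalizerIn S (normalizerIn S U) ≤
        normalizerIn S (centerThompsonAOf (D ⊓ normalizerIn S U)) := by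
      intro s hs
      refine ⟨hs.1, normalizer_le_normalizer_zj _ ?_⟩
      apply mem_normalizer_of_forall_conj_mem
      intro a ha
      exact ⟨stronglyClosed_conj_mem F hD hs.1 ha.1, (Subgroup.mem_normalizer_iff.mp hs.2 a).mp ha.2⟩
    have hfW : Finite ↥(normalizerIn S (centerThompsonAOf (D ⊓ normalizerIn S U))) :=
      finite_of_le (normalizerIn_le_S S _)
    have h4 := Subgroup.card_le_of_le h3
    omega

theorem hClosed_top [Finite S] {p : ℕ} (F : FusionSystem S) (hH : HClosed p Ω S F)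
    (hSn : F.IsNormal S) : AllP p F := by
  obtain ⟨D, hD, hNP⟩ := hH
  have hDS := hD.1
  have hfD : Finite D := finite_of_le hDS
  apply allP_of_normal F hSn
  intro Y hSY hYS β hβ _
  have hDY : D ≤ Y := hDS.trans hSY
  have hβhom := autGroup_hom F hYS hβ
  have hβD : ∀ y : Y, (y : Ω) ∈ D → (Y.subtype.comp β.toMonoidHom) y ∈ D := by
    intro y hy
    exact hD.2 D le_rfl _ (hom_restrict F hβhom hDY) ⟨y, hy⟩
  refine hNP Y ((Helper11.centerThompsonAOf_le D).trans hDY) ?_ β hβ ?_
  · intro y hy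
    exact ⟨hYS hy, normalizer_le_normalizer_zj D (stronglyClosed_le_normalizer F hD (hYS hy))⟩
  · intro y hy
    exact zj_hom_mem hDY _ (F.injective_of_mem hβhom) hβD y hy

theorem hClosed_quot [Finite S] {p : ℕ} [Fact p.Prime] (hS : IsPGroup p S) (F : FusionSystem S)
    (hH : HClosed p Ω S F) (Q : Subgroup Ω) (hQ : F.IsNormal Q) [(Q.subgroupOf S).Normal]
    (E : FusionSystem (⊤ : Subgroup (S ⧸ Q.subgroupOf S)))
    (hE : F.IsFactorSystem Q (QuotientGroup.mk' (Q.subgroupOf S)) E)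
    (key : ∀ J : Subgroup Ω, J ≤ S → normalizerIn S J = S → Nat.card Q < Nat.card J → NP p F J) :
    HClosed p (S ⧸ Q.subgroupOf S) ⊤ E ∨ AllP p F := by
  obtain ⟨D, hD, hNP⟩ := hH
  have hDS := hD.1
  have hQS := hQ.1
  have hfD : Finite D := finite_of_le hDS
  have hfQ : Finite Q := finite_of_le hQS
  have hsc := normal_stronglyClosed F hQ
  by_cases hDQ : D ≤ Q
  · right
    have hWS : centerThompsonAOf D ≤ S := (Helper11.centerThompsonAOf_le D).trans hDS
    have hfW : Finite ↥(centerThompsonAOf D) := finite_of_le hWS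
    have hWn : F.IsNormal (centerThompsonAOf D) := by
      refine ⟨hWS, fun P φ hφ => ?_⟩
      obtain ⟨ψ₁, hψ₁, hext, hψ₁Q⟩ := hQ.2 P φ hφ
      have hWQ : centerThompsonAOf D ≤ Q := (Helper11.centerThompsonAOf_le D).trans hDQ
      have hle : P ⊔ centerThompsonAOf D ≤ P ⊔ Q := sup_le_sup_left hWQ P
      have hψ := hom_restrict F hψ₁ hle
      refine ⟨ψ₁.comp (Subgroup.inclusion hle), hψ, fun x => hext x, ?_⟩
      refine map_subgroupOf_eq_of_forall_mem le_sup_right (F.injective_of_mem hψ) ?_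
      intro y hy
      have hDPQ : D ≤ P ⊔ Q := hDQ.trans le_sup_right
      exact zj_hom_mem hDPQ ψ₁ (F.injective_of_mem hψ₁)
        (fun z hz => hD.2 D le_rfl _ (hom_restrict F hψ₁ hDPQ) ⟨z, hz⟩) (Subgroup.inclusion hle y) hy
    exact allP_of_normal_np F hWn hNP
  · left
    have hE' := hE
    obtain ⟨-, hker, hrange, hHom⟩ := hE
    have hD'p : IsPGroup p ↥(imageAlong (QuotientGroup.mk' (Q.subgroupOf S)) D) :=
      (hS.to_quotient (Q.subgroupOf S)).to_subgroup _
    have hD'1 : imageAlong (QuotientGroup.mk' (Q.subgroupOf S)) D ≠ ⊥ := by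
      intro hbot
      apply hDQ
      intro d hd
      have h1 : (QuotientGroup.mk' (Q.subgroupOf S)) ⟨d, hDS hd⟩ ∈
          imageAlong (QuotientGroup.mk' (Q.subgroupOf S)) D :=
        (Helper85.mem_imageAlong _ D _).2 ⟨d, hDS hd, hd, rfl⟩
      rw [hbot, Subgroup.mem_bot] at h1
      exact (hker _).1 h1
    have hscE : E.StronglyClosed (imageAlong (QuotientGroup.mk' (Q.subgroupOf S)) D) := by
      refine ⟨le_top, fun R' hR' φ' hφ' x' => ?_⟩
      obtain ⟨-, φ, hφ, hP, hφS, hP', hind⟩ := (hHom R' φ').mp hφ'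
      obtain ⟨s, hs⟩ := QuotientGroup.mk'_surjective (Q.subgroupOf S) (x' : S ⧸ Q.subgroupOf S)
      have hsR : (s : Ω) ∈ preimageAlong (QuotientGroup.mk' (Q.subgroupOf S)) R' := by
        rw [Helper85.mem_preimageAlong]
        refine ⟨s.2, ?_⟩
        show (QuotientGroup.mk' (Q.subgroupOf S)) s ∈ R'
        rw [hs]
        exact x'.2
      have hsD : (QuotientGroup.mk' (Q.subgroupOf S)) s ∈
          imageAlong (QuotientGroup.mk' (Q.subgroupOf S)) D := by
        rw [hs]
        exact hR' x'.2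
      obtain ⟨d, hdS, hdD, hd⟩ := (Helper85.mem_imageAlong _ D _).1 hsD
      have hq : d⁻¹ * (s : Ω) ∈ Q := by
        have h1 : (QuotientGroup.mk' (Q.subgroupOf S)) ((⟨d, hdS⟩ : S)⁻¹ * s) = 1 := by
          rw [map_mul, map_inv, hd, inv_mul_cancel]
        exact (hker _).1 h1
      have hdR : d ∈ preimageAlong (QuotientGroup.mk' (Q.subgroupOf S)) R' := by
        rw [Helper85.mem_preimageAlong]
        refine ⟨hdS, ?_⟩
        rw [hd, hs]
        exact x'.2
      have hqR : d⁻¹ * (s : Ω) ∈ preimageAlong (QuotientGroup.mk' (Q.subgroupOf S)) R' :=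
        Subgroup.mul_mem _ (Subgroup.inv_mem _ hdR) hsR
      have h1 : φ ⟨s, hsR⟩ = φ ⟨d, hdR⟩ * φ ⟨d⁻¹ * (s : Ω), hqR⟩ := by
        rw [← map_mul]
        apply congrArg φ
        apply Subtype.ext
        show (s : Ω) = d * (d⁻¹ * (s : Ω))
        group
      have h2 : φ ⟨d, hdR⟩ ∈ D :=
        hD.2 (preimageAlong (QuotientGroup.mk' (Q.subgroupOf S)) R' ⊓ D) inf_le_right _
          (hom_restrict F hφ inf_le_left) ⟨d, hdR, hdD⟩
      have h3 : φ ⟨d⁻¹ * (s : Ω), hqR⟩ ∈ Q :=
        hsc.2 (preimageAlong (QuotientGroup.mk' (Q.subgroupOf S)) R' ⊓ Q) inf_le_right _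
          (hom_restrict F hφ inf_le_left) ⟨d⁻¹ * (s : Ω), hqR, hq⟩
      have h4 : φ' x' = (QuotientGroup.mk' (Q.subgroupOf S)) ⟨φ ⟨s, hsR⟩, hφS _⟩ := by
        have h5 := hind ⟨s, hsR⟩
        have e : (⟨(QuotientGroup.mk' (Q.subgroupOf S)) ⟨(s : Ω), hP hsR⟩, hP' ⟨s, hsR⟩⟩ : R') = x' :=
          Subtype.ext hs
        rw [e] at h5
        exact h5
      rw [h4]
      have e1 : (⟨φ ⟨s, hsR⟩, hφS _⟩ : S) =
          ⟨φ ⟨d, hdR⟩, hφS _⟩ * ⟨φ ⟨d⁻¹ * (s : Ω), hqR⟩, hφS _⟩ := Subtype.ext h1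
      have h6 : (QuotientGroup.mk' (Q.subgroupOf S))
          (⟨φ ⟨d⁻¹ * (s : Ω), hqR⟩, hφS _⟩ : S) = 1 :=
        (hker ⟨φ ⟨d⁻¹ * (s : Ω), hqR⟩, hφS _⟩).2 h3
      rw [e1, map_mul, h6, mul_one]
      exact (Helper85.mem_imageAlong _ D _).2 ⟨_, hφS _, h2, rfl⟩
    refine ⟨_, hscE, np_quot F _ E hE' _ (key _ ?_ ?_ ?_)⟩
    · exact Helper85.preimageAlong_le _ _
    · -- the preimage of `Z(J(D̄))` is normal in `S`
      have hD'n : ∀ x : S ⧸ Q.subgroupOf S, x ∈ Subgroup.normalizer
          ((imageAlong (QuotientGroup.mk' (Q.subgroupOf S)) D : Subgroup (S ⧸ Q.subgroupOf S)) :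
            Set (S ⧸ Q.subgroupOf S)) := by
        intro x
        obtain ⟨s, rfl⟩ := QuotientGroup.mk'_surjective (Q.subgroupOf S) x
        apply mem_normalizer_of_forall_conj_mem
        intro a ha
        obtain ⟨d, hdS, hdD, rfl⟩ := (Helper85.mem_imageAlong _ D _).1 ha
        rw [← map_inv, ← map_mul, ← map_mul]
        exact (Helper85.mem_imageAlong _ D _).2
          ⟨(s : Ω) * d * (s : Ω)⁻¹, S.mul_mem (S.mul_mem s.2 hdS) (S.inv_mem s.2),
            stronglyClosed_conj_mem F hD s.2 hdD, rfl⟩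
      have hfJ : Finite ↥(preimageAlong (QuotientGroup.mk' (Q.subgroupOf S))
          (centerThompsonAOf (imageAlong (QuotientGroup.mk' (Q.subgroupOf S)) D))) :=
        finite_of_le (Helper85.preimageAlong_le _ _)
      apply inf_eq_left.mpr
      intro s hs
      apply mem_normalizer_of_forall_conj_mem
      intro a ha
      obtain ⟨haS, haV⟩ := (Helper85.mem_preimageAlong _ _ a).1 ha
      rw [Helper85.mem_preimageAlong]
      refine ⟨S.mul_mem (S.mul_mem hs haS) (S.inv_mem hs), ?_⟩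
      have h1 : (⟨s * a * s⁻¹, S.mul_mem (S.mul_mem hs haS) (S.inv_mem hs)⟩ : S) =
          ⟨s, hs⟩ * ⟨a, haS⟩ * ⟨s, hs⟩⁻¹ := rfl
      rw [h1, map_mul, map_mul, map_inv]
      exact (Subgroup.mem_normalizer_iff.mp (normalizer_le_normalizer_zj _ (hD'n _)) _).mp haV
    · -- the preimage of `Z(J(D̄))` is strictly larger than `Q`
      have hW'1 : centerThompsonAOf (imageAlong (QuotientGroup.mk' (Q.subgroupOf S)) D) ≠ ⊥ :=
        centerThompsonAOf_ne_bot' _ hD'p hD'1
      have hfJ : Finite ↥(preimageAlong (QuotientGroup.mk' (Q.subgroupOf S))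
          (centerThompsonAOf (imageAlong (QuotientGroup.mk' (Q.subgroupOf S)) D))) :=
        finite_of_le (Helper85.preimageAlong_le _ _)
      have hQJ : Q ≤ preimageAlong (QuotientGroup.mk' (Q.subgroupOf S))
          (centerThompsonAOf (imageAlong (QuotientGroup.mk' (Q.subgroupOf S)) D)) := by
        intro q hq
        rw [Helper85.mem_preimageAlong]
        refine ⟨hQS hq, ?_⟩
        rw [(hker ⟨q, hQS hq⟩).2 hq]
        exact Subgroup.one_mem _
      apply card_lt_of_lt
      refine lt_of_le_of_ne hQJ (fun heq => hW'1 ?_)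
      rw [eq_bot_iff]
      intro w hw
      obtain ⟨s, rfl⟩ := QuotientGroup.mk'_surjective (Q.subgroupOf S) w
      have hsJ : (s : Ω) ∈ preimageAlong (QuotientGroup.mk' (Q.subgroupOf S))
          (centerThompsonAOf (imageAlong (QuotientGroup.mk' (Q.subgroupOf S)) D)) := by
        rw [Helper85.mem_preimageAlong]
        exact ⟨s.2, hw⟩
      rw [← heq] at hsJ
      exact Subgroup.mem_bot.mpr ((hker s).2 hsJ)

theorem hClosed_cons [Finite S] {p : ℕ} [Fact p.Prime] (hp2 : p ≠ 2) (hS : IsPGroup p S)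
    (F : FusionSystem S) (hF : F.IsSaturated p) (hH : HClosed p Ω S F) (Q : Subgroup Ω)
    (hQ : F.IsNormal Q) (hc : centralizerIn S Q ≤ Q) :
    ∀ P : Subgroup Ω, F.Hom P ⊆ (innerFusionSystem S).Hom P := by
  obtain ⟨D, hD, hNP⟩ := hH
  have hDS := hD.1
  have hfD : Finite D := finite_of_le hDS
  have hQc := centric_of_normal_of_cent F hQ hc
  obtain ⟨L, instL, ι, hM⟩ := exists_model p hS F hF hQ hQc
  have hM' := hM
  obtain ⟨hfin, hreal, ⟨T, hT⟩, hcen⟩ := hM
  have hinj := hreal.1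
  have hD'T : imageAlong ι D ≤ T := by
    rintro _ ⟨s, -, rfl⟩
    exact hT.ge ⟨s, rfl⟩
  have hscL : IsStronglyClosed (imageAlong ι D) (T : Subgroup L) := by
    refine ⟨hD'T, ?_⟩
    rintro _ ⟨d, hd, rfl⟩ g hg
    have hzS : Subgroup.zpowers (d : Ω) ≤ S := by
      rw [Subgroup.zpowers_le]
      exact d.2
    have hzD : Subgroup.zpowers (d : Ω) ≤ D := by
      rw [Subgroup.zpowers_le]
      exact hd
    obtain ⟨φ, hφ, hφg⟩ := exists_conj_hom F hreal hzS g (by
      intro x
      obtain ⟨n, hn⟩ := Subgroup.mem_zpowers_iff.mp x.2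
      have e : (⟨(x : Ω), hzS x.2⟩ : S) = d ^ n := Subtype.ext (by
        rw [Subgroup.coe_zpow]
        exact hn.symm)
      rw [e, map_zpow, ← conj_zpow]
      exact Subgroup.zpow_mem _ (hT.le hg) n)
    obtain ⟨hx, h1⟩ := hφg ⟨d, Subgroup.mem_zpowers _⟩
    have h2 : φ ⟨d, Subgroup.mem_zpowers _⟩ ∈ D := hD.2 _ hzD φ hφ _
    rw [← h1]
    exact ⟨⟨_, hx⟩, h2, rfl⟩
  let g₀ : D →* ↥(imageAlong ι D) := (ι.comp (Subgroup.inclusion hDS)).codRestrict _
    (fun d => ⟨Subgroup.inclusion hDS d, d.2, rfl⟩)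
  have hg₀ : Function.Bijective g₀ := by
    constructor
    · intro a b hab
      have h1 : ι (Subgroup.inclusion hDS a) = ι (Subgroup.inclusion hDS b) :=
        congrArg Subtype.val hab
      exact Subgroup.inclusion_injective hDS (hinj h1)
    · rintro ⟨_, s, hs, rfl⟩
      exact ⟨⟨s, hs⟩, rfl⟩
  have hW : ∀ s : S, (s : Ω) ∈ centerThompsonAOf D ↔ ι s ∈ centerThompsonAOf (imageAlong ι D) := by
    intro s
    constructor
    · intro hs
      have hsD := Helper11.centerThompsonAOf_le D hs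
      exact (centerThompsonAOf_equiv (MulEquiv.ofBijective g₀ hg₀) ⟨s, hsD⟩).mp hs
    · intro hs
      obtain ⟨s', hs', hss⟩ := Helper11.centerThompsonAOf_le _ hs
      have e := hinj hss
      subst e
      exact (centerThompsonAOf_equiv (MulEquiv.ofBijective g₀ hg₀) ⟨s', hs'⟩).mpr hs
  have hSW : S ≤ Subgroup.normalizer (centerThompsonAOf D : Set Ω) :=
    fun s hs => normalizer_le_normalizer_zj D (stronglyClosed_le_normalizer F hD hs)
  have hW₀T : centerThompsonAOf (imageAlong ι D) ≤ T := (Helper11.centerThompsonAOf_le _).trans hD'T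
  have hTN : (T : Subgroup L) ≤
      Subgroup.normalizer (centerThompsonAOf (imageAlong ι D) : Set L) := by
    intro t ht
    apply normalizer_le_normalizer_zj
    apply mem_normalizer_of_forall_conj_mem
    intro a ha
    exact hscL.2 a ha t
      ((T : Subgroup L).mul_mem ((T : Subgroup L).mul_mem ht (hD'T ha)) ((T : Subgroup L).inv_mem ht))
  have hNPC := npc_normalizer_of_np F hreal T hT _ _ hW
    ((Helper11.centerThompsonAOf_le D).trans hDS) hSW hW₀T hTN hNP
  have hL : HasNormalPComplement p L := Cfsg.Agent.S3082.result hp2 T _ hscL (Or.inl hNPC)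
  exact inner_of_model_npc F hM' hL

/-- **Glauberman–Thompson for fusion systems relative to a strongly closed subgroup** (`p` odd). -/
theorem zj_closed_fusion [Finite S] (p : ℕ) [Fact p.Prime] (hS : IsPGroup p S)
    (F : FusionSystem S) (hF : F.IsSaturated p) (hp : p ≠ 2) (D : Subgroup Ω)
    (hD : F.StronglyClosed D) :
    (∀ P : Subgroup Ω, F.Hom P = (innerFusionSystem S).Hom P) ↔
      ∀ N : FusionSystem (normalizerIn S (centerThompsonAOf D)),
        F.IsNormalizerSystem (centerThompsonAOf D) N →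
          ∀ P : Subgroup Ω,
            N.Hom P = (innerFusionSystem (normalizerIn S (centerThompsonAOf D))).Hom P := by
  have hDS := hD.1
  have hWS : centerThompsonAOf D ≤ S := (Helper11.centerThompsonAOf_le D).trans hDS
  have hT : normalizerIn S (centerThompsonAOf D) = S :=
    inf_eq_left.mpr (fun s hs => normalizer_le_normalizer_zj D (stronglyClosed_le_normalizer F hD hs))
  constructor
  · intro h N hN P
    apply Set.Subset.antisymm
    · intro φ hφ
      have h1 := nsys_hom_le F N hN hφ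
      rw [h P] at h1
      obtain ⟨hP, g, hg, hgφ⟩ := h1
      refine ⟨hom_le N hφ, g, ?_, hgφ⟩
      rw [hT]
      exact hg
    · exact inner_le N P
  · intro h
    obtain ⟨N, hN⟩ := exists_normalizerSystem F _ hWS
    have hfT : Finite ↥(normalizerIn S (centerThompsonAOf D)) :=
      finite_of_le (normalizerIn_le_S S _)
    have hTp : IsPGroup p ↥(normalizerIn S (centerThompsonAOf D)) :=
      hS.to_le (normalizerIn_le_S S _)
    have hNall : AllP p N := allP_of_le_inner hTp N (fun P => (h N hN P).subset)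
    have hNP : NP p F (centerThompsonAOf D) := np_of_nsys_allP F hWS N hN hNall
    have hall : AllP p F := inner_induction p (HClosed p)
      (fun Ω _ S _ _ F _ hH U _ hT N hN => hClosed_norm F hH U hT N hN)
      (fun Ω _ S _ hS F _ hH U _ hUfn hT N hN hNH => hClosed_chain hS F hH U hUfn hT N hN hNH)
      (fun Ω _ S _ _ F _ hH hSn => hClosed_top F hH hSn)
      (fun Ω _ S _ hS F _ hH Q hQ _ _ _ E hE key => hClosed_quot hS F hH Q hQ E hE key)
      (fun Ω _ S _ hS F hF hH Q hQ hc => hClosed_cons hp hS F hF hH Q hQ hc)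
      (Nat.card S) (Nat.card S) Ω S hS F hF le_rfl
      ⟨⊥, Helper88.isNormal_bot F, Nat.le_add_left _ _⟩ ⟨D, hD, hNP⟩
    have heq := eq_inner_of_allP p hS F hF hall
    intro P
    rw [heq]

end Closed

end Cfsg.Agent.Helper84
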